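import Mathlib
import Cfsg.Agent.Helper1.C9Defs
import Cfsg.Agent.Helper1.CNOdd2

/-! CALL S1376 (helper1): piece FHN. -/

set_option autoImplicit false

namespace Cfsg.Agent.Helper10

open Subgroup

universe u

variable {G : Type u} [Group G] [Finite G]

/-- FHN.  `M_F` is nilpotent (join of normal nilpotent subgroups of the finite group `M`; probably
already on main, e.g. `Helper23`/`Helper31`). -/
theorem c9_fittingHall_nil (L : Subgroup G) : Group.IsNilpotent ↥(fittingHallOf L) := by
  have h1 : Group.IsNilpotent ↥(fittingHall ↥L) :=
    Cfsg.Agent.Helper1.cnodd_fittingHall_isNilpotent ↥L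
  have h2 : Group.IsNilpotent ↥((fittingHall ↥L).map L.subtype) :=
    Group.nilpotent_of_mulEquiv ((fittingHall ↥L).equivMapOfInjective L.subtype
      L.subtype_injective)
  exact h2

end Cfsg.Agent.Helper10
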