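import Cfsg.Agent.Helper22.BG10b
import Cfsg.Agent.Helper31.BGCFHb
import Cfsg.Agent.Helper54.BG14T2
import Cfsg.Agent.Helper58.BG15NILU
import Cfsg.Agent.Helper35.Coprime
import Cfsg.Agent.Helper35.SZ
import Cfsg.Agent.S1363
import Cfsg.Agent.S1365
import Cfsg.Agent.S1372
import Cfsg.Agent.S1403

set_option autoImplicit false

/-! CALL BG16 (helper25, row S1389), piece U0 (helper10, double). -/

namespace Cfsg.Agent.Helper10

open Cfsg Subgroup
open scoped Pointwise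

universe u

variable {G : Type u} [Group G] [Finite G]

omit [Finite G] in
/-- the image in `G` of a normal subgroup of `M` is normalised by `M`. -/
theorem bg16u0_norm (M : Subgroup G) (N : Subgroup ↥M) [hN : N.Normal] :
    M ≤ normalizer ((N.map M.subtype : Subgroup G) : Set G) := by
  intro m hm
  rw [Subgroup.mem_normalizer_iff]
  intro x
  constructor
  · rintro ⟨y, hy, rfl⟩
    exact ⟨⟨m, hm⟩ * y * ⟨m, hm⟩⁻¹, hN.conj_mem y hy ⟨m, hm⟩, by simp⟩
  · rintro ⟨y, hy, hyx⟩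
    refine ⟨⟨m, hm⟩⁻¹ * y * ⟨m, hm⟩, ?_, ?_⟩
    · have h1 := hN.conj_mem y hy ⟨m, hm⟩⁻¹
      simpa using h1
    · have h2 : (M.subtype (⟨m, hm⟩⁻¹ * y * ⟨m, hm⟩) : G) = m⁻¹ * (y : G) * m := by simp
      rw [h2]
      have h3 : (y : G) = m * x * m⁻¹ := hyx
      rw [h3]
      group

/-- U0. -/
theorem bg16_U_eq_bot (hG : IsMinSimpleOddOrder G) (M : Subgroup G) (hM : IsCoatom M)
    (K U₀ : Subgroup G) (hKU : IsSigmaDecomposition M K U₀) (hK1 : K ≠ ⊥) (U : Subgroup G)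
    (hU : IsComplIn (fittingHallOf M) U ⁅M, M⁆) (hN : normalizer (U : Set G) ≤ M) :
    U₀ = ⊥ := by
  by_contra hU1
  obtain ⟨-, -, hσF⟩ := Cfsg.Agent.S1372.result hG M hM K U₀ hKU hK1 hU1
  have hnil := Cfsg.Agent.Helper58.bg15_sigma_nilpotent_of_le_fitting M hσF
  have hFeq : fittingHallOf M = sigmaCore M :=
    le_antisymm (Cfsg.Agent.Helper54.bg14t_fittingHall_le hG hM)
      (Cfsg.Agent.Helper31.bgc_sigmaCore_le_fittingHall hG hM hnil)
  obtain ⟨hcomm, -⟩ := Cfsg.Agent.S1365.result hG M hM K U₀ hKU hK1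
  obtain ⟨-, hnot⟩ := Cfsg.Agent.S1363.result hG M hM K U₀ hKU hK1
  have hLM : ⁅M, M⁆ ≤ M := Subgroup.commutator_le_self M
  rw [hFeq] at hU
  obtain ⟨L, hL⟩ : ∃ L : Subgroup G, L = ⁅M, M⁆ := ⟨_, rfl⟩
  rw [← hL] at hU hcomm hLM
  obtain ⟨hσL, hUL, hσU, hUprod⟩ := hU
  have hσnorm : M ≤ normalizer (sigmaCore M : Set G) := bg16u0_norm M (piCore (sigma M) ↥M)
  have hU₀L : U₀ ≤ L := by rw [hcomm]; exact le_sup_left
  have hσU₀ : sigmaCore M ⊓ U₀ = ⊥ := by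
    have h1 := hKU.compl.2.2.1
    rw [eq_bot_iff]
    rintro x ⟨hx1, hx2⟩
    have h2 : x ∈ U₀ ⊓ (K ⊔ sigmaCore M) := ⟨hx2, (le_sup_right : sigmaCore M ≤ K ⊔ sigmaCore M) hx1⟩
    rw [h1] at h2
    exact h2
  haveI hnorm : ((sigmaCore M).subgroupOf L).Normal :=
    Subgroup.normal_subgroupOf_of_le_normalizer (hLM.trans hσnorm)
  have hc1 := Cfsg.Agent.Helper35.isComplement'_subgroupOf hσL (hLM.trans hσnorm) hUL hσU hUprod
  have hc2 : ((sigmaCore M).subgroupOf L).IsComplement' (U₀.subgroupOf L) := by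
    refine Cfsg.Agent.Helper35.isComplement'_of_normal ?_ ?_
    · rw [eq_bot_iff]
      rintro ⟨x, hxL⟩ ⟨hx1, hx2⟩
      have hx : x ∈ sigmaCore M ⊓ U₀ := ⟨hx1, hx2⟩
      rw [hσU₀, Subgroup.mem_bot] at hx
      rw [Subgroup.mem_bot]
      exact Subtype.ext hx
    · rw [← Subgroup.subgroupOf_sup hσL hU₀L, Subgroup.subgroupOf_eq_top, hcomm, sup_comm]
  -- coprimality
  have hBU : Cfsg.Agent.Helper22.BGUniq G :=
    fun K hK h1 h2 => Cfsg.Agent.S1403.result hG K hK h1 h2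
  obtain ⟨⟨hle, hpi, hidx⟩, -, -⟩ := Cfsg.Agent.Helper22.bg10_sigma_hall hG hBU hM
  have hcop : (Nat.card ((sigmaCore M).subgroupOf L)).Coprime ((sigmaCore M).subgroupOf L).index := by
    rw [Cfsg.Agent.Helper35.card_subgroupOf_of_le hσL]
    apply Nat.coprime_of_dvd
    intro p hp h1 h2
    have h3 : (sigmaCore M).relIndex L ∣ (sigmaCore M).relIndex M :=
      Dvd.intro _ (Subgroup.relIndex_mul_relIndex _ _ _ hσL hLM)
    exact hidx p hp (hpi p hp h1) (h2.trans h3)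
  have hsolv : Group.IsSolvable ((sigmaCore M).subgroupOf L) := by
    haveI := hnil
    exact solvable_of_solvable_injective
      (f := (Subgroup.subgroupOfEquivOfLe hσL).toMonoidHom) (MulEquiv.injective _)
  obtain ⟨n, hn, hconj⟩ := Cfsg.Agent.Helper35.sz_conj' _ hcop _ _ hc1 hc2 (Or.inl hsolv)
  have hconj' := Cfsg.Agent.Helper35.conj_smul_eq_of_subgroupOf hUL hU₀L n hconj
  apply hnot
  intro x hx
  have hx1 : MulAut.conj x • U₀ = U₀ := Cfsg.Agent.Helper35.mem_normalizer_iff_conj_smul_eq.mp hx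
  have hx2 : (n : G)⁻¹ * x * n ∈ normalizer (U : Set G) := by
    rw [Cfsg.Agent.Helper35.mem_normalizer_iff_conj_smul_eq,
      ← Cfsg.Agent.Helper35.conj_smul_conj_smul, ← Cfsg.Agent.Helper35.conj_smul_conj_smul,
      hconj', hx1, ← hconj', Cfsg.Agent.Helper35.conj_smul_conj_smul, inv_mul_cancel, map_one,
      one_smul]
  have hx3 := hN hx2
  have hnM : (n : G) ∈ M := hLM n.2
  have hxe : x = n * ((n : G)⁻¹ * x * n) * (n : G)⁻¹ := by group
  rw [hxe]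
  exact M.mul_mem (M.mul_mem hnM hx3) (M.inv_mem hnM)

end Cfsg.Agent.Helper10
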