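import Cfsg.Agent.Helper31.BGCFHb
import Cfsg.Agent.Helper54.BG14T2
import Cfsg.Agent.Helper58.BG15NILU
import Cfsg.Agent.S1372

set_option autoImplicit false

/-! CALL BG17 (helper25, row S1381), piece MF (helper10). -/

namespace Cfsg.Agent.Helper10

open Cfsg Subgroup

universe u

variable {G : Type u} [Group G] [Finite G]

/-- MF. `K ≠ 1`, `U ≠ 1`: `M_F = M_σ`. -/
theorem bg17_MF_eq (hG : IsMinSimpleOddOrder G) {M K U : Subgroup G} (hM : IsCoatom M)
    (hKU : IsSigmaDecomposition M K U) (hK1 : K ≠ ⊥) (hU1 : U ≠ ⊥) :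
    fittingHallOf M = sigmaCore M := by
  obtain ⟨-, -, hσF⟩ := Cfsg.Agent.S1372.result hG M hM K U hKU hK1 hU1
  have hnil := Cfsg.Agent.Helper58.bg15_sigma_nilpotent_of_le_fitting M hσF
  exact le_antisymm (Cfsg.Agent.Helper54.bg14t_fittingHall_le hG hM)
    (Cfsg.Agent.Helper31.bgc_sigmaCore_le_fittingHall hG hM hnil)

end Cfsg.Agent.Helper10
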