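import Mathlib
import Cfsg.Agent.Helper54.BG14T4
import Cfsg.Agent.Helper24.BG13V

/-! CALL BG36 (helper2, row S1436): piece B3. -/

set_option autoImplicit false

namespace Cfsg.Agent.Helper10

open Cfsg Subgroup

universe u

variable {G : Type u} [Group G] [Finite G]

/-- PIECE B3: `m = r⁻¹ n g` normalizes the maximal subgroup `M` (so lies in `M`) and conjugates
`N'` to `N`. -/
theorem bg36_b_fin (hG : IsMinSimpleOddOrder G) {M N N' : Subgroup G} (hM : IsCoatom M)
    {g n r : G} (hg : N'.map (MulAut.conj g).toMonoidHom = N) (hn : n ∈ N) (hrN : r ∈ N)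
    (hrM : M.map (MulAut.conj r).toMonoidHom = M.map (MulAut.conj (n * g)).toMonoidHom) :
    ∃ m ∈ M, N'.map (MulAut.conj m).toMonoidHom = N := by
  refine ⟨r⁻¹ * (n * g), ?_, ?_⟩
  · apply Cfsg.Agent.Helper24.bg13v_mem_of_map_conj_eq hG hM
    rw [Cfsg.Agent.Helper54.bg14t_map_conj_comp M r⁻¹ (n * g), ← hrM,
      Cfsg.Agent.Helper54.bg14t_map_conj_inv]
  · have key : ∀ a ∈ N, N.map (MulAut.conj a).toMonoidHom = N := by
      intro a ha
      ext z
      rw [Cfsg.Agent.Helper54.bg14t_mem_map_conj, N.mul_mem_cancel_right ha,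
        N.mul_mem_cancel_left (N.inv_mem ha)]
    rw [Cfsg.Agent.Helper54.bg14t_map_conj_comp N' r⁻¹ (n * g),
      Cfsg.Agent.Helper54.bg14t_map_conj_comp N' n g, hg, key n hn, key r⁻¹ (N.inv_mem hrN)]

end Cfsg.Agent.Helper10
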