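import Mathlib
import Cfsg.Agent.S1351
import Cfsg.Agent.S1352

/-! CALL BG36 (helper2, row S1436): piece KA. -/

set_option autoImplicit false

namespace Cfsg.Agent.Helper10

open Cfsg Subgroup

universe u

variable {G : Type u} [Group G] [Finite G]

/-- PIECE KA: `κ(M) ≠ ∅` gives a σ-decomposition with `K ≠ 1` (S1351, S1352). -/
theorem bg36_kU (hG : IsMinSimpleOddOrder G) {M : Subgroup G} (hM : IsCoatom M)
    (hne : kappa M ≠ ∅) : ∃ K U : Subgroup G, IsSigmaDecomposition M K U ∧ K ≠ ⊥ := by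
  obtain ⟨⟨K, hK⟩, hKc⟩ := Cfsg.Agent.S1351.result hG M hM
  obtain ⟨⟨U, hKU⟩, -⟩ := Cfsg.Agent.S1352.result hG M hM K (hKc K hK) hK
  refine ⟨K, U, hKU, ?_⟩
  obtain ⟨r, hr⟩ := Set.nonempty_iff_ne_empty.mpr hne
  intro hK1
  have hrp : r.Prime := hr.1
  have hrM : r ∣ Nat.card M := hr.2.1
  have hidx : ¬ r ∣ K.relIndex M := hK.2.2 r hrp hr
  rw [hK1, Subgroup.relIndex_bot_left] at hidx
  exact hidx hrM

end Cfsg.Agent.Helper10
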