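import Mathlib
import Cfsg.Agent.S1372
import Cfsg.Agent.Helper23.Uniq
import Cfsg.Agent.Helper1.BGUniqA

/-! CALL BG36 (helper2, row S1436): piece KB. -/

set_option autoImplicit false

namespace Cfsg.Agent.Helper10

open Cfsg Subgroup

universe u

variable {G : Type u} [Group G] [Finite G]

/-- PIECE KB: `K ≠ 1`, `U ≠ 1` would make `F(M) ⊇ M_σ` a TI-subset (S1372), but `C_G(x) ⊄ M`
and `N_G(F(M)) = M`. -/
theorem bg36_U_bot (hG : IsMinSimpleOddOrder G) {M K U : Subgroup G} (hM : IsCoatom M)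
    (hKU : IsSigmaDecomposition M K U) (hK1 : K ≠ ⊥) {x : G} (hx : x ∈ sigmaCore M)
    (hx1 : x ≠ 1) (hxM : ¬ centralizer ({x} : Set G) ≤ M) : U = ⊥ := by
  by_contra hU
  obtain ⟨-, hTI, hσF⟩ := Cfsg.Agent.S1372.result hG M hM K U hKU hK1 hU
  have hxF : x ∈ fittingOf M := hσF hx
  have hF1 : fittingOf M ≠ ⊥ := by
    intro h
    rw [h] at hxF
    exact hx1 (Subgroup.mem_bot.mp hxF)
  have hNF : normalizer (fittingOf M : Set G) = M :=
    Cfsg.Agent.Helper23.uq_normalizer_eq hG hM hF1 (Cfsg.Agent.Helper1.bgu_fittingOf_le M)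
      (Cfsg.Agent.Helper1.bgu_le_normalizer_fittingOf M)
  apply hxM
  intro g hg
  by_contra hgM
  have hgn : g ∉ normalizer (fittingOf M : Set G) := by
    rw [hNF]
    exact hgM
  have hcomm : x * g = g * x := (Subgroup.mem_centralizer_iff.mp hg) x (Set.mem_singleton x)
  have hconj : g * x * g⁻¹ = x := by
    rw [← hcomm, mul_inv_cancel_right]
  exact hx1 (hTI g hgn x hxF (by rw [hconj]; exact hxF))

end Cfsg.Agent.Helper10
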