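import Mathlib
import Cfsg.Agent.S1351
import Cfsg.Agent.S1352
import Cfsg.Agent.S1375
import Cfsg.Agent.S1378
import Cfsg.Agent.Helper54.BG14T4
import Cfsg.Agent.Helper54.BG14S
import Cfsg.Agent.Helper23.Trans

/-! CALL BG36 (helper2, row S1436): piece T1. -/

set_option autoImplicit false

namespace Cfsg.Agent.Helper10

open Cfsg Subgroup

universe u

variable {G : Type u} [Group G] [Finite G]

/-- PIECE T1: `q ∈ σ(N) ∩ σ(M)` would make `N` conjugate to `M` (S1378), so `σ(N) = σ(M)` and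
the `σ(N)`-element `x ∈ N` would lie in `N_σ`, against S1375. -/
theorem bg36_q_not_sigma (hG : IsMinSimpleOddOrder G) {M N : Subgroup G} (hM : IsCoatom M)
    {x : G} (hx : x ∈ sigmaCore M) (hx1 : x ≠ 1) (hxM : ¬ centralizer ({x} : Set G) ≤ M)
    (hN : IsCoatom N) (hxN : centralizer ({x} : Set G) ≤ N) {q : ℕ} (hq : q ∈ sigma N) :
    q ∉ sigma M := by
  intro hqM
  obtain ⟨g, hg⟩ := (Cfsg.Agent.S1378.result hG).2 M N hM hN ⟨q, hqM, hq⟩
  have hσ : sigma N = sigma M := by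
    rw [hg]
    exact Cfsg.Agent.Helper54.bg14t_sigma_conj M g
  have hxN' : x ∈ N := hxN (by
    rw [Subgroup.mem_centralizer_iff]
    intro y hy
    rw [Set.mem_singleton_iff] at hy
    rw [hy])
  have hxσ : x ∈ sigmaCore N := by
    refine Cfsg.Agent.Helper54.bg14s_mem_sigmaCore hG hN hxN' ?_
    intro s hs hsx
    rw [hσ]
    exact Cfsg.Agent.Helper23.mem_of_dvd_card_piCoreOf (sigma M) M hs
      (hsx.trans (Subgroup.orderOf_dvd_natCard _ hx))
  obtain ⟨N₀, ⟨hN₀, hxN₀⟩, huniq, -, -, -, -, hdec⟩ :=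
    Cfsg.Agent.S1375.result hG M hM x hx hx1 hxM
  have hNN : N = N₀ := huniq N hN hxN
  rw [← hNN] at hdec
  obtain ⟨⟨K, hK⟩, hKc⟩ := Cfsg.Agent.S1351.result hG N hN
  obtain ⟨⟨U, hKU⟩, -⟩ := Cfsg.Agent.S1352.result hG N hN K (hKc K hK) hK
  exact (hdec K U hKU).2.2 hxσ

end Cfsg.Agent.Helper10
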