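import Mathlib
import Cfsg.Agent.Helper24.BG13V

set_option autoImplicit false

/-! CALL S1390 (helper24): piece CJ. -/

namespace Cfsg.Agent.Helper10

open Cfsg Subgroup

universe u

variable {G : Type u} [Group G] [Finite G]

/-- CJ. If `C_G(z) ≤ M` and `M` is the only maximal subgroup over `C_G(g z g⁻¹)`, then `g ∈ M`:
`M.map (MulAut.conj g)` is a maximal subgroup containing `C_G(g z g⁻¹)`, so it equals `M`
(`Helper24.bg13v_mem_of_map_conj_eq`). -/
theorem bg90_mem_of_uniq_conj (hG : IsMinSimpleOddOrder G) {M : Subgroup G} (hM : IsCoatom M)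
    {z g : G} (h1 : centralizer ({z} : Set G) ≤ M)
    (h2 : ∀ L : Subgroup G, IsCoatom L → centralizer ({g * z * g⁻¹} : Set G) ≤ L → L = M) :
    g ∈ M := by
  apply Cfsg.Agent.Helper24.bg13v_mem_of_map_conj_eq hG hM
  apply h2
  · -- the image of a coatom under an automorphism is a coatom
    let e : Subgroup G ≃o Subgroup G := MulEquiv.mapSubgroup (MulAut.conj g : G ≃* G)
    have he : e M = M.map (MulAut.conj g).toMonoidHom := rfl
    rw [← he]
    exact (OrderIso.isCoatom_iff e M).mpr hM
  · intro x hx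
    rw [Subgroup.mem_centralizer_iff] at hx
    have hx' : x * (g * z * g⁻¹) = (g * z * g⁻¹) * x := (hx _ (Set.mem_singleton _)).symm
    refine ⟨g⁻¹ * x * g, h1 ?_, ?_⟩
    · rw [Subgroup.mem_centralizer_iff]
      intro y hy
      rw [Set.mem_singleton_iff] at hy
      subst hy
      have : g⁻¹ * (x * (g * y * g⁻¹)) * g = g⁻¹ * ((g * y * g⁻¹) * x) * g := by rw [hx']
      calc y * (g⁻¹ * x * g) = g⁻¹ * ((g * y * g⁻¹) * x) * g := by group
        _ = g⁻¹ * (x * (g * y * g⁻¹)) * g := by rw [hx']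
        _ = g⁻¹ * x * g * y := by group
    · show (MulAut.conj g) (g⁻¹ * x * g) = x
      rw [MulAut.conj_apply]
      group

end Cfsg.Agent.Helper10
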