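import Mathlib
import Cfsg.Agent.S1403
import Cfsg.Agent.Helper22.BG10b
import Cfsg.Agent.Helper23.FittingHall

set_option autoImplicit false

/-! CALL S1390 (helper24): piece EPR. -/

namespace Cfsg.Agent.Helper10

open Cfsg Subgroup

universe u

variable {G : Type u} [Group G] [Finite G]

/-- EPR. The order of a complement of `M_σ` in `M` is a `σ(M)'`-number
(`Helper22.bg10_sigma_hall`: `M_σ` is a Hall `σ(M)`-subgroup of `M`;
`Helper23.card_of_isComplIn`). -/
theorem bg90_compl_primes (hG : IsMinSimpleOddOrder G) {M E : Subgroup G} (hM : IsCoatom M)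
    (hE : IsComplIn E (sigmaCore M) M) :
    ∀ p : ℕ, p.Prime → p ∣ Nat.card E → p ∉ sigma M := by
  intro p hp hpd hpσ
  have hBU : Cfsg.Agent.Helper22.BGUniq G :=
    fun K hK h1 h2 => Cfsg.Agent.S1403.result hG K hK h1 h2
  obtain ⟨⟨hle, -, hidx⟩, -, -⟩ := Cfsg.Agent.Helper22.bg10_sigma_hall hG hBU hM
  have hcard := Cfsg.Agent.Helper23.card_of_isComplIn E (sigmaCore M) M hE
  have hrel : (sigmaCore M).relIndex M * Nat.card (sigmaCore M) = Nat.card M := by
    rw [Subgroup.relIndex, ← Nat.card_congr (Subgroup.subgroupOfEquivOfLe hle).toEquiv]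
    exact Subgroup.index_mul_card _
  have hpos : 0 < Nat.card (sigmaCore M) := Nat.card_pos
  have hEeq : (sigmaCore M).relIndex M = Nat.card E := by
    have : (sigmaCore M).relIndex M * Nat.card (sigmaCore M)
        = Nat.card E * Nat.card (sigmaCore M) := by rw [hrel, hcard]
    exact Nat.eq_of_mul_eq_mul_right hpos this
  exact hidx p hp hpσ (hEeq ▸ hpd)

end Cfsg.Agent.Helper10
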