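import Mathlib
import Cfsg.Agent.S1351
import Cfsg.Agent.S1352
import Cfsg.Agent.S1437

set_option autoImplicit false

/-! CALL S1390 (helper24): piece MFE. -/

namespace Cfsg.Agent.Helper10

open Cfsg Subgroup

universe u

variable {G : Type u} [Group G] [Finite G]

/-- MFE. `κ(M) = ∅` gives `M_F = M_σ`: otherwise S1437 (for a decomposition `(K, U)` from
S1351 + S1352) says `|K|` is a prime, which then lies in `κ(M)`. -/
theorem bg90_MF_eq_of_no_kappa (hG : IsMinSimpleOddOrder G) {M : Subgroup G} (hM : IsCoatom M)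
    (hκ : ∀ p : ℕ, p ∉ kappa M) : fittingHallOf M = sigmaCore M := by
  by_contra hne
  obtain ⟨⟨K, hK⟩, hKc⟩ := Cfsg.Agent.S1351.result hG M hM
  obtain ⟨⟨U₀, hKU⟩, -⟩ := Cfsg.Agent.S1352.result hG M hM K (hKc K hK) hK
  obtain ⟨-, -, hKp, -⟩ := Cfsg.Agent.S1437.result hG M hM K U₀ hKU hne
  exact hκ _ (hK.2.1 _ hKp dvd_rfl)

end Cfsg.Agent.Helper10
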