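import Mathlib

/-!
Helper library of seat helper10: conjugates of subgroups `MulAut.conj g • H`.
Everything lives in `Cfsg.Agent.Helper10`.
-/

set_option autoImplicit false

namespace Cfsg.Agent.Helper10

open Pointwise

theorem conj_smul_smul {G : Type*} [Group G] (a b : G) (H : Subgroup G) :
    MulAut.conj a • MulAut.conj b • H = MulAut.conj (a * b) • H := by
  rw [smul_smul, ← map_mul]

theorem conj_smul_inv_smul {G : Type*} [Group G] (g : G) (H : Subgroup G) :
    MulAut.conj g • MulAut.conj g⁻¹ • H = H := by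
  rw [smul_smul, ← map_mul, mul_inv_cancel, map_one, one_smul]

theorem conj_inv_smul_smul {G : Type*} [Group G] (g : G) (H : Subgroup G) :
    MulAut.conj g⁻¹ • MulAut.conj g • H = H := by
  rw [smul_smul, ← map_mul, inv_mul_cancel, map_one, one_smul]

theorem mem_conj_smul_iff {G : Type*} [Group G] (g x : G) (H : Subgroup G) :
    x ∈ MulAut.conj g • H ↔ g⁻¹ * x * g ∈ H := by
  rw [Subgroup.mem_pointwise_smul_iff_inv_smul_mem, MulAut.smul_def, ← map_inv, MulAut.conj_apply,
    inv_inv]

theorem conj_mem_conj_smul {G : Type*} [Group G] (g x : G) (H : Subgroup G) (hx : x ∈ H) :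
    g * x * g⁻¹ ∈ MulAut.conj g • H := by
  rw [mem_conj_smul_iff]
  have : g⁻¹ * (g * x * g⁻¹) * g = x := by group
  rwa [this]

theorem card_conj_smul {G : Type*} [Group G] (g : G) (H : Subgroup G) :
    Nat.card (MulAut.conj g • H : Subgroup G) = Nat.card H :=
  (Nat.card_congr (Subgroup.equivSMul (MulAut.conj g) H).toEquiv).symm

theorem conj_smul_eq_of_mem_normalizer {G : Type*} [Group G] {g : G} {H : Subgroup G}
    (hg : g ∈ Subgroup.normalizer (H : Set G)) : MulAut.conj g • H = H := by
  ext y
  rw [mem_conj_smul_iff]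
  have := (Subgroup.mem_normalizer_iff.mp hg) (g⁻¹ * y * g)
  rw [this]
  have e : g * (g⁻¹ * y * g) * g⁻¹ = y := by group
  rw [e]

theorem mem_normalizer_of_conj_smul_eq {G : Type*} [Group G] {g : G} {H : Subgroup G}
    (hg : MulAut.conj g • H = H) : g ∈ Subgroup.normalizer (H : Set G) := by
  rw [Subgroup.mem_normalizer_iff]
  intro h
  have := mem_conj_smul_iff g (g * h * g⁻¹) H
  rw [hg] at this
  rw [this]
  have e : g⁻¹ * (g * h * g⁻¹) * g = h := by group
  rw [e]

theorem mem_normalizer_iff_conj_smul_eq {G : Type*} [Group G] {g : G} {H : Subgroup G} :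
    g ∈ Subgroup.normalizer (H : Set G) ↔ MulAut.conj g • H = H :=
  ⟨conj_smul_eq_of_mem_normalizer, mem_normalizer_of_conj_smul_eq⟩

/-- In a finite group a conjugate of `H` containing `H` equals `H`. -/
theorem conj_smul_eq_of_le {G : Type*} [Group G] [Finite G] {g : G} {H : Subgroup G}
    (h : H ≤ MulAut.conj g • H) : MulAut.conj g • H = H :=
  (Subgroup.eq_of_le_of_card_ge h (le_of_eq (card_conj_smul g H))).symm

/-- In a finite group a conjugate of `H` contained in `H` equals `H`. -/
theorem conj_smul_eq_of_ge {G : Type*} [Group G] [Finite G] {g : G} {H : Subgroup G}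
    (h : MulAut.conj g • H ≤ H) : MulAut.conj g • H = H :=
  Subgroup.eq_of_le_of_card_ge h (le_of_eq (card_conj_smul g H).symm)

/-- `A` normal in `H` (as `A.subgroupOf H`): conjugation by elements of `H` fixes `A`. -/
theorem conj_smul_eq_of_normal_subgroupOf {G : Type*} [Group G] {A H : Subgroup G} (hAH : A ≤ H)
    (hn : (A.subgroupOf H).Normal) {h : G} (hh : h ∈ H) : MulAut.conj h • A = A := by
  have key : ∀ k ∈ H, MulAut.conj k • A ≤ A := by
    intro k hk y hy
    rw [mem_conj_smul_iff] at hy
    have := (Subgroup.normal_subgroupOf_iff hAH).mp hn _ k hy hk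
    have e : k * (k⁻¹ * y * k) * k⁻¹ = y := by group
    rwa [e] at this
  apply le_antisymm (key h hh)
  have := (Subgroup.pointwise_smul_le_pointwise_smul_iff (a := MulAut.conj h)).mpr (key h⁻¹ (H.inv_mem hh))
  rwa [conj_smul_inv_smul] at this

end Cfsg.Agent.Helper10
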