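import Mathlib
import Cfsg.Agent.Helper10.Thompson

set_option autoImplicit false

/-!
# Actions through a `p`-group on a `p`-subgroup are nilpotent

`W ≤ V` with `W ≤ [W, A]` forces `W = 1` when `V` is a `p`-group normalized by `A` and `A` acts on `V`
through a group of exponent `p` (every `a ^ p` centralizes `V`).
-/

namespace Cfsg.Agent.Helper10

open scoped commutatorElement
open scoped Pointwise

variable {G : Type*} [Group G]

/-- `W ≤ V`, `W ≤ [W, Q]` with `Q` a `p`-group normalizing the `p`-group `V`: then `W = 1`. -/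
theorem eq_bot_of_le_commutator_of_pgroup [Finite G] {p : ℕ} [Fact p.Prime]
    (V Q W : Subgroup G) (hV : IsPGroup p V) (hQ : IsPGroup p Q)
    (hQV : Q ≤ Subgroup.normalizer (V : Set G)) (hWV : W ≤ V) (hW : W ≤ ⁅W, Q⁆) : W = ⊥ := by
  have hY : IsPGroup p ↥(Q ⊔ V) := IsPGroup.to_sup_of_normal_right' hQ hV hQV
  have hnil : Group.IsNilpotent ↥(Q ⊔ V) := hY.isNilpotent
  obtain ⟨n, hn⟩ := Subgroup.nilpotent_iff_lowerCentralSeries.mp hnil
  have hWY : W ≤ Q ⊔ V := hWV.trans le_sup_right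
  have hstep : W.subgroupOf (Q ⊔ V) ≤ ⁅W.subgroupOf (Q ⊔ V), (⊤ : Subgroup ↥(Q ⊔ V))⁆ := by
    have h1 : W.subgroupOf (Q ⊔ V) ≤ ⁅W.subgroupOf (Q ⊔ V), Q.subgroupOf (Q ⊔ V)⁆ := by
      rw [← Subgroup.map_le_map_iff_of_injective (Subgroup.subtype_injective _),
        Subgroup.map_commutator, Subgroup.map_subgroupOf_eq_of_le hWY,
        Subgroup.map_subgroupOf_eq_of_le le_sup_left]
      exact hW
    exact h1.trans (Subgroup.commutator_mono le_rfl le_top)
  have hall : ∀ k, W.subgroupOf (Q ⊔ V) ≤ (⊤ : Subgroup ↥(Q ⊔ V)).lowerCentralSeries k := by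
    intro k
    induction k with
    | zero => simp
    | succ k ih =>
      rw [Subgroup.lowerCentralSeries_succ]
      exact hstep.trans (Subgroup.commutator_mono ih le_rfl)
  have h0 : W.subgroupOf (Q ⊔ V) = ⊥ := le_bot_iff.mp (hn ▸ hall n)
  rw [Subgroup.subgroupOf_eq_bot] at h0
  exact h0.eq_bot_of_le hWY

/-- `W ≤ V`, `W ≤ [W, A]` where `A` normalizes the `p`-group `V` and every `a ^ p` (`a ∈ A`)
centralizes `V`: then `W = 1`. -/
theorem eq_bot_of_le_commutator_of_pow_mem [Finite G] {p : ℕ} [Fact p.Prime]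
    (V A W : Subgroup G) (hV : IsPGroup p V) (hAV : A ≤ Subgroup.normalizer (V : Set G))
    (hp : ∀ a ∈ A, a ^ p ∈ Subgroup.centralizer (V : Set G)) (hWV : W ≤ V) (hW : W ≤ ⁅W, A⁆) :
    W = ⊥ := by
  set C : Subgroup ↥A := (Subgroup.centralizer (V : Set G)).subgroupOf A with hC
  have hCn : C.Normal := by
    constructor
    rintro ⟨c, hcA⟩ hc ⟨a, ha⟩
    rw [hC, Subgroup.mem_subgroupOf] at hc ⊢
    show a * c * a⁻¹ ∈ Subgroup.centralizer (V : Set G)
    have hc' : c ∈ Subgroup.centralizer (V : Set G) := hc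
    intro v hv
    have hv' : a⁻¹ * v * a ∈ V := by
      have := (Subgroup.mem_normalizer_iff.mp (hAV (A.inv_mem ha)) v).mp hv
      simpa using this
    have h1 := hc' _ hv'
    calc v * (a * c * a⁻¹) = a * ((a⁻¹ * v * a) * c) * a⁻¹ := by group
      _ = a * (c * (a⁻¹ * v * a)) * a⁻¹ := by rw [h1]
      _ = a * c * a⁻¹ * v := by group
  have hquot : IsPGroup p (↥A ⧸ C) := by
    intro q
    induction q using QuotientGroup.induction_on with
    | H a =>
      refine ⟨1, ?_⟩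
      rw [pow_one, ← QuotientGroup.mk_pow, QuotientGroup.eq_one_iff, hC, Subgroup.mem_subgroupOf]
      simpa using hp a a.2
  obtain ⟨k, hk⟩ := IsPGroup.iff_card.mp hquot
  let P : Sylow p ↥A := default
  have htop : (P : Subgroup ↥A) ⊔ C = ⊤ := by
    rw [← Subgroup.index_eq_one]
    have h1 : ((P : Subgroup ↥A) ⊔ C).index ∣ (P : Subgroup ↥A).index :=
      Subgroup.index_dvd_of_le le_sup_left
    have h2 : ((P : Subgroup ↥A) ⊔ C).index ∣ p ^ k := by
      rw [← hk, ← Subgroup.index_eq_card]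
      exact Subgroup.index_dvd_of_le le_sup_right
    obtain ⟨j, hj, hj'⟩ := (Nat.dvd_prime_pow (Fact.out)).mp h2
    rcases Nat.eq_zero_or_pos j with rfl | hjpos
    · simpa using hj'
    · exfalso
      apply P.not_dvd_index
      exact dvd_trans (hj' ▸ dvd_pow_self p hjpos.ne') h1
  have hQp : IsPGroup p ((P : Subgroup ↥A).map A.subtype) := P.2.map _
  have hQA : (P : Subgroup ↥A).map A.subtype ≤ A := Subgroup.map_subtype_le _
  have hWQ : W ≤ ⁅W, (P : Subgroup ↥A).map A.subtype⁆ := by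
    refine hW.trans ?_
    rw [Subgroup.commutator_le]
    intro w hw a ha
    have hmem : (⟨a, ha⟩ : A) ∈ ((P : Subgroup ↥A) ⊔ C) := by rw [htop]; trivial
    rw [← SetLike.mem_coe, Subgroup.mul_normal] at hmem
    obtain ⟨x, hx, c, hc, hxc⟩ := Set.mem_mul.mp hmem
    have hxc' : a = (x : G) * c := by
      have := congrArg Subtype.val hxc
      simpa using this.symm
    have hcV : (c : G) ∈ Subgroup.centralizer (V : Set G) := by
      rw [SetLike.mem_coe, hC, Subgroup.mem_subgroupOf] at hc; exact hc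
    have hcw := hcV w⁻¹ (V.inv_mem (hWV hw))
    have e : ⁅w, a⁆ = ⁅w, (x : G)⁆ := by
      rw [hxc', commutatorElement_def, commutatorElement_def]
      generalize (x : G) = x' at *
      generalize (c : G) = c' at *
      calc w * (x' * c') * w⁻¹ * (x' * c')⁻¹ = w * x' * (c' * w⁻¹) * c'⁻¹ * x'⁻¹ := by group
        _ = w * x' * (w⁻¹ * c') * c'⁻¹ * x'⁻¹ := by rw [hcw]
        _ = w * x' * w⁻¹ * x'⁻¹ := by group
    rw [e]
    exact Subgroup.commutator_mem_commutator hw (Subgroup.mem_map_of_mem _ hx)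
  exact eq_bot_of_le_commutator_of_pgroup V _ W hV hQp (hQA.trans hAV) hWV hWQ

theorem commutator_le_of_le_normalizer (V A : Subgroup G)
    (hAV : A ≤ Subgroup.normalizer (V : Set G)) : ⁅V, A⁆ ≤ V := by
  rw [Subgroup.commutator_le]
  intro v hv a ha
  have h1 : a * v⁻¹ * a⁻¹ ∈ V :=
    (Subgroup.mem_normalizer_iff.mp (hAV ha) v⁻¹).mp (V.inv_mem hv)
  have h2 : ⁅v, a⁆ = v * (a * v⁻¹ * a⁻¹) := by rw [commutatorElement_def]; group
  rw [h2]
  exact V.mul_mem hv h1

/-- If `V = X C_V(A)` with `X ≤ [V, A]` (for an action through a group of exponent `p` on the abelian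
`p`-group `V`) then `[V, A] = 1`. -/
theorem commutator_eq_bot_of_le_sup_fixed [Finite G] {p : ℕ} [Fact p.Prime] (V A : Subgroup G)
    (hV : Cfsg.IsElementaryAbelian p V) (hAV : A ≤ Subgroup.normalizer (V : Set G))
    (hp : ∀ a ∈ A, a ^ p ∈ Subgroup.centralizer (V : Set G))
    (h : V ≤ ⁅V, A⁆ ⊔ (V ⊓ Subgroup.centralizer (A : Set G))) : ⁅V, A⁆ = ⊥ := by
  have hc : ∀ x ∈ V, ∀ y ∈ V, x * y = y * x := ((elemAb_iff p V).mp hV).1
  have hWV : ⁅V, A⁆ ≤ V := commutator_le_of_le_normalizer V A hAV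
  have hNV : ⁅⁅V, A⁆, A⁆ ≤ V := (Subgroup.commutator_mono hWV le_rfl).trans hWV
  apply eq_bot_of_le_commutator_of_pow_mem V A ⁅V, A⁆ (elemAb_isPGroup hV) hAV hp hWV
  rw [Subgroup.commutator_le]
  intro v hv a ha
  have hv' : v ∈ Subgroup.closure (((⁅V, A⁆ : Subgroup G) : Set G) ∪
      ((V ⊓ Subgroup.centralizer (A : Set G) : Subgroup G) : Set G)) := by
    rw [Subgroup.closure_union, Subgroup.closure_eq, Subgroup.closure_eq]
    exact h hv
  have key : ∀ x, x ∈ Subgroup.closure (((⁅V, A⁆ : Subgroup G) : Set G) ∪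
      ((V ⊓ Subgroup.centralizer (A : Set G) : Subgroup G) : Set G)) →
      x ∈ V ∧ ∀ b ∈ A, ⁅x, b⁆ ∈ ⁅⁅V, A⁆, A⁆ := by
    intro x hx
    induction hx using Subgroup.closure_induction with
    | mem x hx =>
      rcases hx with hx | hx
      · exact ⟨hWV hx, fun b hb => Subgroup.commutator_mem_commutator hx hb⟩
      · refine ⟨hx.1, fun b hb => ?_⟩
        have : ⁅x, b⁆ = 1 := by
          rw [commutatorElement_eq_one_iff_commute]
          exact (hx.2 b hb).symm
        rw [this]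
        exact Subgroup.one_mem _
    | one =>
      refine ⟨V.one_mem, fun b hb => ?_⟩
      rw [commutatorElement_one_left]
      exact Subgroup.one_mem _
    | mul x y _ _ ihx ihy =>
      refine ⟨V.mul_mem ihx.1 ihy.1, fun b hb => ?_⟩
      have e : ⁅x * y, b⁆ = x * ⁅y, b⁆ * x⁻¹ * ⁅x, b⁆ := by
        simp only [commutatorElement_def]; group
      have e2 : x * ⁅y, b⁆ * x⁻¹ = ⁅y, b⁆ := by
        rw [hc x ihx.1 _ (hNV (ihy.2 b hb))]; group
      rw [e, e2]
      exact Subgroup.mul_mem _ (ihy.2 b hb) (ihx.2 b hb)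
    | inv x _ ihx =>
      refine ⟨V.inv_mem ihx.1, fun b hb => ?_⟩
      have e : ⁅x⁻¹, b⁆ = x⁻¹ * ⁅x, b⁆⁻¹ * x := by
        simp only [commutatorElement_def]; group
      have e2 : x⁻¹ * ⁅x, b⁆⁻¹ * x = ⁅x, b⁆⁻¹ := by
        rw [mul_assoc, ← hc x ihx.1 _ (V.inv_mem (hNV (ihx.2 b hb)))]; group
      rw [e, e2]
      exact Subgroup.inv_mem _ (ihx.2 b hb)
  exact (key v hv').2 a ha

end Cfsg.Agent.Helper10
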