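import Mathlib
import Cfsg.Agent.Helper10.Offender

/-!
Helper10: best offenders under Hypothesis S, continued: sub-offenders avoiding a given element,
and the decomposition of a best offender into best offenders of order `p`.
-/

set_option autoImplicit false

namespace Cfsg.Agent.Helper10

open scoped commutatorElement

/-- For each nontrivial element `a` of a best offender `A` there is a sub-best-offender `B` of
index at most `p` avoiding `a`, with the same value of `|B| * |C_V(B)|`. -/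
theorem exists_sub_offender_not_mem {G : Type*} [Group G] [Finite G] {p : ℕ} [Fact p.Prime]
    (V H Q : Subgroup G)
    (hV : Cfsg.IsElementaryAbelian p V) (hHV : H ≤ Subgroup.normalizer (V : Set G))
    (hf : H ⊓ Subgroup.centralizer (V : Set G) = ⊥) (hQH : Q ≤ H)
    (hHQ : H ≤ Subgroup.normalizer (Q : Set G)) (hQp : ¬ p ∣ Nat.card Q)
    (hfaith : ∀ x ∈ H, x ^ p = 1 → x ∈ Subgroup.centralizer (Q : Set G) → x = 1)
    (A : Subgroup G) (hAH : A ≤ H) (hA : Cfsg.IsBestOffenderOn p V A)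
    (a : G) (haA : a ∈ A) (ha1 : a ≠ 1) :
    ∃ B : Subgroup G, B ≤ A ∧ a ∉ B ∧ B.relIndex A ≤ p ∧ Cfsg.IsBestOffenderOn p V B ∧
      Nat.card B * Nat.card ↥(V ⊓ Subgroup.centralizer (B : Set G)) =
        Nat.card A * Nat.card ↥(V ⊓ Subgroup.centralizer (A : Set G)) := by
  have hA1 : A ≠ ⊥ := by
    rintro rfl
    exact ha1 (Subgroup.mem_bot.mp haA)
  have hp : p.Prime := Fact.out
  have hVp : IsPGroup p V := elemAb_isPGroup hV
  -- `A` is elementary abelian
  have hAA : ⁅A, A⁆ = ⊥ := by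
    rw [eq_bot_iff, ← hf]
    exact le_inf ((Subgroup.commutator_le_self A).trans hAH) hA.2.1
  have hAcomm : ∀ a ∈ A, ∀ b ∈ A, a * b = b * a := by
    intro a ha b hb
    have h1 := Subgroup.commutator_eq_bot_iff_le_centralizer.mp hAA ha
    exact (Subgroup.mem_centralizer_iff.mp h1 b hb).symm
  have hApow : ∀ a ∈ A, a ^ p = 1 := by
    intro a ha
    have h1 : a ^ p ∈ H ⊓ Subgroup.centralizer (V : Set G) :=
      ⟨hAH (A.pow_mem ha p), hA.2.2 a ha⟩
    rw [hf] at h1
    exact Subgroup.mem_bot.mp h1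
  have hAea : Cfsg.IsElementaryAbelian p A := (Helper10.elemAb_iff p A).mpr ⟨hAcomm, hApow⟩
  have hAp : IsPGroup p A := Helper10.elemAb_isPGroup hAea
  -- `A` does not centralize `Q`
  have hAQ : ¬ A ≤ Subgroup.centralizer (Q : Set G) := by
    intro h
    apply hA1
    rw [eq_bot_iff]
    intro a ha
    exact Subgroup.mem_bot.mpr (hfaith a (hAH ha) (hApow a ha) (h ha))
  -- Step 1: a subgroup `B` of index at most `p` avoiding `a` with `C_Q(B)` not centralized by `A`
  have step1 : ∃ B : Subgroup G, B ≤ A ∧ B.relIndex A ≤ p ∧ a ∉ B ∧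
      ¬ A ≤ Subgroup.centralizer ((Q ⊓ Subgroup.centralizer (B : Set G) : Subgroup G) : Set G) := by
    by_cases hA2 : p ^ 2 ≤ Nat.card A
    · by_contra hcon
      push Not at hcon
      apply ha1
      apply hfaith a (hAH haA) (hApow a haA)
      have hQa : Q ≤ Subgroup.centralizer ({a} : Set G) := by
        have hgen := S1324.result p A Q hAea hA2 hQp (hAH.trans hHQ)
        rw [hgen]
        refine iSup_le ?_
        rintro ⟨B, hBA, hBp⟩
        by_cases haB : a ∈ B
        · exact inf_le_right.trans (Subgroup.centralizer_le (Set.singleton_subset_iff.mpr haB))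
        · intro q hq
          rw [Subgroup.mem_centralizer_iff]
          intro h hh
          rw [Set.mem_singleton_iff] at hh
          subst hh
          exact (Subgroup.mem_centralizer_iff.mp (hcon B hBA hBp haB haA) q hq).symm
      rw [Subgroup.mem_centralizer_iff]
      intro q hq
      exact (Subgroup.mem_centralizer_iff.mp (hQa hq) a rfl).symm
    · refine ⟨⊥, bot_le, ?_, fun h => ha1 (Subgroup.mem_bot.mp h), ?_⟩
      · rw [Subgroup.relIndex_bot_left]
        obtain ⟨k, hk⟩ := IsPGroup.iff_card.mp hAp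
        rw [hk] at hA2 ⊢
        have hk2 : k < 2 := by
          by_contra h
          exact hA2 (Nat.pow_le_pow_right hp.pos (not_lt.mp h))
        calc p ^ k ≤ p ^ 1 := Nat.pow_le_pow_right hp.pos (by omega)
          _ = p := pow_one p
      · intro h
        apply hAQ
        refine h.trans (Subgroup.centralizer_le ?_)
        intro q hq
        refine ⟨hq, ?_⟩
        show q ∈ Subgroup.centralizer (((⊥ : Subgroup G)) : Set G)
        rw [Subgroup.mem_centralizer_iff]
        intro b hb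
        rw [SetLike.mem_coe, Subgroup.mem_bot] at hb
        rw [hb, one_mul, mul_one]
  obtain ⟨B, hBA, hBp, haB, hBQ⟩ := step1
  -- Step 2: `A` does not centralize `C_V(B)`
  have step2 : ¬ V ⊓ Subgroup.centralizer (B : Set G) ≤ Subgroup.centralizer (A : Set G) := by
    intro hVB
    apply hBQ
    rw [Subgroup.le_centralizer_iff, ← Subgroup.commutator_eq_bot_iff_le_centralizer]
    have hQ'Q : ⁅Q ⊓ Subgroup.centralizer (B : Set G), A⁆ ≤ Q :=
      (Subgroup.commutator_mono inf_le_left le_rfl).trans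
        (Helper10.commutator_le_of_le_normalizer Q A (hAH.trans hHQ))
    have hQ'H : ⁅Q ⊓ Subgroup.centralizer (B : Set G), A⁆ ≤ H := hQ'Q.trans hQH
    have hAB : A ≤ Subgroup.centralizer (B : Set G) := by
      intro a ha
      rw [Subgroup.mem_centralizer_iff]
      intro b hb
      exact hAcomm b (hBA hb) a ha
    have hQ'B : ⁅Q ⊓ Subgroup.centralizer (B : Set G), A⁆ ≤ Subgroup.centralizer (B : Set G) := by
      rw [Subgroup.commutator_le]
      intro q hq a ha
      rw [commutatorElement_def]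
      exact Subgroup.mul_mem _ (Subgroup.mul_mem _ (Subgroup.mul_mem _ hq.2 (hAB ha))
        (Subgroup.inv_mem _ hq.2)) (Subgroup.inv_mem _ (hAB ha))
    have hQ'V0 : ⁅Q ⊓ Subgroup.centralizer (B : Set G), A⁆ ≤
        Subgroup.centralizer ((V ⊓ Subgroup.centralizer (B : Set G) : Subgroup G) : Set G) := by
      rw [Subgroup.commutator_le]
      intro q hq a ha
      rw [Subgroup.mem_centralizer_iff]
      intro v hv
      have e1 : a * v = v * a := Subgroup.mem_centralizer_iff.mp (hVB hv) a ha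
      have hv' : q⁻¹ * v * q ∈ V ⊓ Subgroup.centralizer (B : Set G) := by
        constructor
        · have h1 := (Subgroup.mem_normalizer_iff.mp
            (hHV (H.inv_mem (hQH hq.1))) v).mp hv.1
          rwa [inv_inv] at h1
        · exact Subgroup.mul_mem _ (Subgroup.mul_mem _ (Subgroup.inv_mem _ hq.2) hv.2) hq.2
      have e2 : a * (q⁻¹ * v * q) = (q⁻¹ * v * q) * a :=
        Subgroup.mem_centralizer_iff.mp (hVB hv') a ha
      have e3 : a⁻¹ * v = v * a⁻¹ := by
        calc a⁻¹ * v = a⁻¹ * (v * a) * a⁻¹ := by group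
          _ = a⁻¹ * (a * v) * a⁻¹ := by rw [e1]
          _ = v * a⁻¹ := by group
      rw [commutatorElement_def]
      calc v * (q * a * q⁻¹ * a⁻¹) = q * ((q⁻¹ * v * q) * a) * q⁻¹ * a⁻¹ := by group
        _ = q * (a * (q⁻¹ * v * q)) * q⁻¹ * a⁻¹ := by rw [e2]
        _ = q * a * q⁻¹ * (v * a⁻¹) := by group
        _ = q * a * q⁻¹ * (a⁻¹ * v) := by rw [e3]
        _ = q * a * q⁻¹ * a⁻¹ * v := by group
    have hQ'cop : (Nat.card ↥(⁅Q ⊓ Subgroup.centralizer (B : Set G), A⁆)).Coprime p := by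
      rw [Nat.coprime_comm, Nat.Prime.coprime_iff_not_dvd hp]
      intro h
      exact hQp (h.trans (Subgroup.card_dvd_of_le hQ'Q))
    have hPQ := S0028.result p B ⁅Q ⊓ Subgroup.centralizer (B : Set G), A⁆ V
      (hAp.to_le hBA) hQ'cop hVp (Subgroup.le_centralizer_iff.mp hQ'B)
      ((hBA.trans hAH).trans hHV) (hQ'H.trans hHV) (Subgroup.le_centralizer_iff.mp hQ'V0)
    rw [eq_bot_iff, ← hf]
    exact le_inf hQ'H hPQ
  -- Step 3: counting
  have hcAB : V ⊓ Subgroup.centralizer (A : Set G) ≤ V ⊓ Subgroup.centralizer (B : Set G) :=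
    inf_le_inf_left _ (Subgroup.centralizer_le hBA)
  have hcard1 := Helper10.card_eq_card_mul_relIndex hcAB
  have hcard2 := Helper10.card_eq_card_mul_relIndex hBA
  have hrel : p ≤ (V ⊓ Subgroup.centralizer (A : Set G)).relIndex
      (V ⊓ Subgroup.centralizer (B : Set G)) := by
    have hne : (V ⊓ Subgroup.centralizer (A : Set G)).relIndex
        (V ⊓ Subgroup.centralizer (B : Set G)) ≠ 1 := by
      intro h
      exact step2 ((Subgroup.relIndex_eq_one.mp h).trans inf_le_right)
    obtain ⟨m, hm⟩ := IsPGroup.iff_card.mp (hVp.to_le (inf_le_left :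
      V ⊓ Subgroup.centralizer (B : Set G) ≤ V))
    have hdvd : (V ⊓ Subgroup.centralizer (A : Set G)).relIndex
        (V ⊓ Subgroup.centralizer (B : Set G)) ∣ p ^ m := by
      rw [← hm]; exact Subgroup.relIndex_dvd_card _ _
    obtain ⟨j, -, hj⟩ := (Nat.dvd_prime_pow hp).mp hdvd
    rw [hj] at hne ⊢
    have hj0 : j ≠ 0 := by
      rintro rfl
      exact hne (pow_zero p)
    exact Nat.le_self_pow hj0 p
  have hle := hA.1 B hBA
  have hge : Nat.card A * Nat.card ↥(V ⊓ Subgroup.centralizer (A : Set G)) ≤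
      Nat.card B * Nat.card ↥(V ⊓ Subgroup.centralizer (B : Set G)) := by
    rw [hcard1, hcard2]
    calc Nat.card B * B.relIndex A * Nat.card ↥(V ⊓ Subgroup.centralizer (A : Set G))
        ≤ Nat.card B * p * Nat.card ↥(V ⊓ Subgroup.centralizer (A : Set G)) :=
          Nat.mul_le_mul_right _ (Nat.mul_le_mul_left _ hBp)
      _ = Nat.card B * (Nat.card ↥(V ⊓ Subgroup.centralizer (A : Set G)) * p) := by ring
      _ ≤ Nat.card B * (Nat.card ↥(V ⊓ Subgroup.centralizer (A : Set G)) *
            (V ⊓ Subgroup.centralizer (A : Set G)).relIndex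
              (V ⊓ Subgroup.centralizer (B : Set G))) :=
          Nat.mul_le_mul_left _ (Nat.mul_le_mul_left _ hrel)
  have hEq := le_antisymm hle hge
  have hBbo : Cfsg.IsBestOffenderOn p V B :=
    ⟨fun C hCB => (hA.1 C (hCB.trans hBA)).trans (le_of_eq hEq.symm),
      (Subgroup.commutator_mono hBA hBA).trans hA.2.1, fun b hb => hA.2.2 b (hBA hb)⟩
  exact ⟨B, hBA, haB, hBp, hBbo, hEq⟩

/-- Elements of the join of two elementwise commuting subgroups are products. -/
theorem mem_sup_of_commute' {G : Type*} [Group G] {X Y : Subgroup G}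
    (hc : ∀ x ∈ X, ∀ y ∈ Y, x * y = y * x) {z : G} (hz : z ∈ X ⊔ Y) :
    ∃ a ∈ X, ∃ b ∈ Y, z = a * b := by
  rw [sup_eq_iSup] at hz
  refine Subgroup.iSup_induction _ (C := fun z => ∃ a ∈ X, ∃ b ∈ Y, z = a * b) hz ?_ ?_ ?_
  · intro i x hx
    cases i with
    | false => exact ⟨1, X.one_mem, x, hx, (one_mul x).symm⟩
    | true => exact ⟨x, hx, 1, Y.one_mem, (mul_one x).symm⟩
  · exact ⟨1, X.one_mem, 1, Y.one_mem, (mul_one 1).symm⟩
  · rintro _ _ ⟨a, ha, b, hb, rfl⟩ ⟨a', ha', b', hb', rfl⟩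
    refine ⟨a * a', X.mul_mem ha ha', b * b', Y.mul_mem hb hb', ?_⟩
    have e := hc a' ha' b hb
    calc a * b * (a' * b') = a * (b * a') * b' := by group
      _ = a * (a' * b) * b' := by rw [e]
      _ = a * a' * (b * b') := by group

theorem iSup_fin_cons {α : Type*} [CompleteLattice α] {k : ℕ} (a : α) (f : Fin k → α) :
    (⨆ i, (Fin.cons a f : Fin (k + 1) → α) i) = a ⊔ ⨆ i, f i := by
  apply le_antisymm
  · refine iSup_le (fun i => ?_)
    refine Fin.cases ?_ (fun j => ?_) i
    · rw [Fin.cons_zero]; exact le_sup_left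
    · rw [Fin.cons_succ]; exact (le_iSup f j).trans le_sup_right
  · refine sup_le ?_ (iSup_le fun j => ?_)
    · exact le_iSup_of_le (0 : Fin (k + 1)) (by rw [Fin.cons_zero])
    · exact le_iSup_of_le j.succ (by rw [Fin.cons_succ])

/-- Adding a subgroup meeting the join trivially to an independent family, inside an abelian
subgroup. -/
theorem iSupIndep_fin_cons {G : Type*} [Group G] {D E : Subgroup G} {k : ℕ}
    {B : Fin k → Subgroup G} (hD : ∀ x ∈ D, ∀ y ∈ D, x * y = y * x) (hE : E ≤ D)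
    (hB : ∀ i, B i ≤ D) (hind : iSupIndep B) (hdisj : E ⊓ ⨆ i, B i = ⊥) :
    iSupIndep (Fin.cons E B : Fin (k + 1) → Subgroup G) := by
  rw [iSupIndep_def]
  intro i
  refine Fin.cases ?_ (fun i' => ?_) i
  · rw [Fin.cons_zero, disjoint_iff, eq_bot_iff, ← hdisj]
    refine inf_le_inf_left _ (iSup₂_le fun j hj => ?_)
    obtain ⟨j', rfl⟩ := Fin.exists_succ_eq.mpr hj
    rw [Fin.cons_succ]; exact le_iSup B j'
  · rw [Fin.cons_succ, disjoint_iff, eq_bot_iff]
    have hle : (⨆ (j : Fin (k + 1)) (_ : j ≠ i'.succ),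
        (Fin.cons E B : Fin (k + 1) → Subgroup G) j) ≤
        E ⊔ ⨆ (j' : Fin k) (_ : j' ≠ i'), B j' := by
      refine iSup₂_le fun j hj => ?_
      revert hj
      refine Fin.cases ?_ (fun j' => ?_) j
      · intro _; rw [Fin.cons_zero]; exact le_sup_left
      · intro hj; rw [Fin.cons_succ]
        have hne : j' ≠ i' := fun h => hj (by rw [h])
        exact (le_iSup₂ (f := fun (j' : Fin k) (_ : j' ≠ i') => B j') j' hne).trans le_sup_right
    intro x hx
    have hx1 : x ∈ B i' := hx.1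
    have hx2 := hle hx.2
    have hC : (⨆ (j' : Fin k) (_ : j' ≠ i'), B j') ≤ D := iSup₂_le fun j' _ => hB j'
    obtain ⟨e, he, c, hc, rfl⟩ :=
      mem_sup_of_commute' (fun x hx y hy => hD x (hE hx) y (hC hy)) hx2
    have hc' : c ∈ ⨆ i, B i :=
      (iSup₂_le (fun j' _ => le_iSup B j') :
        (⨆ (j' : Fin k) (_ : j' ≠ i'), B j') ≤ ⨆ i, B i) hc
    have he1 : e = 1 := by
      have h1 : e ∈ E ⊓ ⨆ i, B i := by
        refine ⟨he, ?_⟩
        have e' : e = (e * c) * c⁻¹ := by group
        rw [e']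
        exact Subgroup.mul_mem _ (le_iSup B i' hx1) (Subgroup.inv_mem _ hc')
      rw [hdisj] at h1; exact Subgroup.mem_bot.mp h1
    rw [he1, one_mul] at hx1 ⊢
    have h2 : c ∈ B i' ⊓ ⨆ (j' : Fin k) (_ : j' ≠ i'), B j' := ⟨hx1, hc⟩
    rw [(iSupIndep_def.mp hind i').eq_bot] at h2
    exact h2

/-- Inside a best offender `D` with a subgroup `B₀` of index at most `p`: below any best offender
`E ≤ D` not contained in `B₀` there is a best offender of order `p` not contained in `B₀`. -/
theorem exists_order_p_offender_not_le {G : Type*} [Group G] [Finite G] {p : ℕ} [Fact p.Prime]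
    (V H Q : Subgroup G)
    (hV : Cfsg.IsElementaryAbelian p V) (hHV : H ≤ Subgroup.normalizer (V : Set G))
    (hf : H ⊓ Subgroup.centralizer (V : Set G) = ⊥) (hQH : Q ≤ H)
    (hHQ : H ≤ Subgroup.normalizer (Q : Set G)) (hQp : ¬ p ∣ Nat.card Q)
    (hfaith : ∀ x ∈ H, x ^ p = 1 → x ∈ Subgroup.centralizer (Q : Set G) → x = 1)
    (B₀ D : Subgroup G) (hB₀p : B₀.relIndex D ≤ p) (m : ℕ) :
    ∀ E : Subgroup G, Nat.card E = m → E ≤ D → E ≤ H → Cfsg.IsBestOffenderOn p V E → ¬ E ≤ B₀ →
      ∃ E₁ : Subgroup G, E₁ ≤ E ∧ Cfsg.IsBestOffenderOn p V E₁ ∧ Nat.card E₁ = p ∧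
        ¬ E₁ ≤ B₀ := by
  have hp : p.Prime := Fact.out
  induction m using Nat.strong_induction_on with
  | _ m ih =>
    intro E hm hED hEH hE hEB
    have hEea := offender_elemAb V H hf E hEH hE
    have hEp : IsPGroup p E := elemAb_isPGroup hEea
    have hE1 : E ≠ ⊥ := by
      rintro rfl
      exact hEB bot_le
    by_cases hint : E ⊓ B₀ = ⊥
    · refine ⟨E, le_rfl, hE, ?_, hEB⟩
      have h1 : B₀.relIndex E ≤ B₀.relIndex D :=
        Subgroup.relIndex_le_of_le_right hED Subgroup.index_ne_zero_of_finite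
      have h2 : B₀.relIndex E = Nat.card E := by
        rw [← Subgroup.inf_relIndex_right, inf_comm, hint, Subgroup.relIndex_bot_left]
      obtain ⟨k, hk⟩ := IsPGroup.iff_card.mp hEp
      have hk0 : k ≠ 0 := by
        rintro rfl
        rw [pow_zero] at hk
        exact hE1 (Subgroup.eq_bot_of_card_eq E hk)
      apply le_antisymm (h2 ▸ h1.trans hB₀p)
      rw [hk]
      exact Nat.le_self_pow hk0 p
    · obtain ⟨a, ha, ha1⟩ : ∃ a ∈ E ⊓ B₀, a ≠ 1 := by
        by_contra h
        push Not at h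
        exact hint (eq_bot_iff.mpr fun x hx => Subgroup.mem_bot.mpr (h x hx))
      obtain ⟨E', hE'E, haE', hE'p, hE'bo, -⟩ :=
        exists_sub_offender_not_mem V H Q hV hHV hf hQH hHQ hQp hfaith E hEH hE a ha.1 ha1
      have hE'B : ¬ E' ≤ B₀ := by
        intro hle
        have h1 : E' ≤ E ⊓ B₀ := le_inf hE'E hle
        have c1 := card_eq_card_mul_relIndex hE'E
        have c2 := card_eq_card_mul_relIndex (inf_le_left : E ⊓ B₀ ≤ E)
        have hr : p ≤ (E ⊓ B₀).relIndex E := by
          have hne : (E ⊓ B₀).relIndex E ≠ 1 :=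
            fun h => hEB ((Subgroup.relIndex_eq_one.mp h).trans inf_le_right)
          obtain ⟨k, hk⟩ := IsPGroup.iff_card.mp hEp
          have hdvd : (E ⊓ B₀).relIndex E ∣ p ^ k := by
            rw [← hk]; exact Subgroup.relIndex_dvd_card _ _
          obtain ⟨j, -, hj⟩ := (Nat.dvd_prime_pow hp).mp hdvd
          rw [hj] at hne ⊢
          have hj0 : j ≠ 0 := by
            rintro rfl
            exact hne (pow_zero p)
          exact Nat.le_self_pow hj0 p
        have hcard : Nat.card (E ⊓ B₀ : Subgroup G) ≤ Nat.card E' := by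
          have h3 : Nat.card (E ⊓ B₀ : Subgroup G) * p ≤ Nat.card E' * p := by
            calc Nat.card (E ⊓ B₀ : Subgroup G) * p
                ≤ Nat.card (E ⊓ B₀ : Subgroup G) * (E ⊓ B₀).relIndex E :=
                  Nat.mul_le_mul_left _ hr
              _ = Nat.card E := c2.symm
              _ = Nat.card E' * E'.relIndex E := c1
              _ ≤ Nat.card E' * p := Nat.mul_le_mul_left _ hE'p
          exact Nat.le_of_mul_le_mul_right h3 hp.pos
        have heq := Subgroup.eq_of_le_of_card_ge h1 hcard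
        exact haE' (heq ▸ ha)
      have hlt : Nat.card E' < m := by
        rw [← hm]
        by_contra h
        have heq := Subgroup.eq_of_le_of_card_ge hE'E (not_lt.mp h)
        exact haE' (heq ▸ ha.1)
      obtain ⟨E₁, hE₁, hbo, hc, hnb⟩ :=
        ih _ hlt E' rfl (hE'E.trans hED) (hE'E.trans hEH) hE'bo hE'B
      exact ⟨E₁, hE₁.trans hE'E, hbo, hc, hnb⟩

/-- Every best offender is the direct product of best offenders of order `p`. -/
theorem offender_decomp {G : Type*} [Group G] [Finite G] {p : ℕ} [Fact p.Prime]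
    (V H Q : Subgroup G)
    (hV : Cfsg.IsElementaryAbelian p V) (hHV : H ≤ Subgroup.normalizer (V : Set G))
    (hf : H ⊓ Subgroup.centralizer (V : Set G) = ⊥) (hQH : Q ≤ H)
    (hHQ : H ≤ Subgroup.normalizer (Q : Set G)) (hQp : ¬ p ∣ Nat.card Q)
    (hfaith : ∀ x ∈ H, x ^ p = 1 → x ∈ Subgroup.centralizer (Q : Set G) → x = 1) (n : ℕ) :
    ∀ D : Subgroup G, Nat.card D = n → D ≤ H → Cfsg.IsBestOffenderOn p V D →
      ∃ (k : ℕ) (B : Fin k → Subgroup G),
        (∀ i, B i ≤ D ∧ Cfsg.IsBestOffenderOn p V (B i) ∧ Nat.card (B i) = p) ∧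
          iSupIndep B ∧ ⨆ i, B i = D := by
  have hp : p.Prime := Fact.out
  induction n using Nat.strong_induction_on with
  | _ n ih =>
    intro D hn hDH hD
    by_cases hD1 : D = ⊥
    · subst hD1
      exact ⟨0, fun i => i.elim0, fun i => i.elim0, iSupIndep_subsingleton _, iSup_of_empty _⟩
    obtain ⟨B₀, hB₀D, hB₀ne, hB₀p, hB₀bo, -⟩ :=
      exists_sub_offender V H Q hV hHV hf hQH hHQ hQp hfaith D hDH hD hD1
    have hlt : Nat.card B₀ < n := by
      rw [← hn]
      by_contra h
      exact hB₀ne (Subgroup.eq_of_le_of_card_ge hB₀D (not_lt.mp h))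
    obtain ⟨k, B, hB, hind, hsup⟩ := ih _ hlt B₀ rfl (hB₀D.trans hDH) hB₀bo
    obtain ⟨E₁, hE₁D, hE₁bo, hE₁c, hE₁B⟩ :=
      exists_order_p_offender_not_le V H Q hV hHV hf hQH hHQ hQp hfaith B₀ D hB₀p _ D rfl le_rfl
        hDH hD (fun h => hB₀ne (le_antisymm hB₀D h))
    have hDea := offender_elemAb V H hf D hDH hD
    have hDp : IsPGroup p D := elemAb_isPGroup hDea
    have hDc : ∀ x ∈ D, ∀ y ∈ D, x * y = y * x := ((elemAb_iff p D).mp hDea).1
    have hdisj : E₁ ⊓ B₀ = ⊥ := by
      have hdvd : Nat.card (E₁ ⊓ B₀ : Subgroup G) ∣ p :=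
        hE₁c ▸ Subgroup.card_dvd_of_le inf_le_left
      rcases (Nat.dvd_prime hp).mp hdvd with h | h
      · exact Subgroup.eq_bot_of_card_eq _ h
      · exfalso
        apply hE₁B
        have heq : E₁ ⊓ B₀ = E₁ :=
          Subgroup.eq_of_le_of_card_ge inf_le_left (by rw [h, hE₁c])
        exact inf_eq_left.mp heq
    have hDsup : E₁ ⊔ B₀ = D := by
      apply Subgroup.eq_of_le_of_card_ge (sup_le hE₁D hB₀D)
      have c1 := card_eq_card_mul_relIndex hB₀D
      have c2 := card_eq_card_mul_relIndex (le_sup_right : B₀ ≤ E₁ ⊔ B₀)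
      have hr : p ≤ B₀.relIndex (E₁ ⊔ B₀) := by
        have hne : B₀.relIndex (E₁ ⊔ B₀) ≠ 1 :=
          fun h => hE₁B (le_sup_left.trans (Subgroup.relIndex_eq_one.mp h))
        obtain ⟨j, hj⟩ := IsPGroup.iff_card.mp (hDp.to_le (sup_le hE₁D hB₀D))
        have hdvd : B₀.relIndex (E₁ ⊔ B₀) ∣ p ^ j := by
          rw [← hj]; exact Subgroup.relIndex_dvd_card _ _
        obtain ⟨i, -, hi⟩ := (Nat.dvd_prime_pow hp).mp hdvd
        rw [hi] at hne ⊢
        have hi0 : i ≠ 0 := by
          rintro rfl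
          exact hne (pow_zero p)
        exact Nat.le_self_pow hi0 p
      rw [c1, c2]
      exact (Nat.mul_le_mul_left _ hB₀p).trans (Nat.mul_le_mul_left _ hr)
    refine ⟨k + 1, (Fin.cons E₁ B : Fin (k + 1) → Subgroup G), ?_, ?_, ?_⟩
    · intro i
      refine Fin.cases ?_ (fun j => ?_) i
      · rw [Fin.cons_zero]; exact ⟨hE₁D, hE₁bo, hE₁c⟩
      · rw [Fin.cons_succ]; exact ⟨(hB j).1.trans hB₀D, (hB j).2.1, (hB j).2.2⟩
    · exact iSupIndep_fin_cons hDc hE₁D (fun i => (hB i).1.trans hB₀D) hind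
        (by rw [hsup]; exact hdisj)
    · rw [iSup_fin_cons, hsup]; exact hDsup

end Cfsg.Agent.Helper10
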