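/-
helper10: two transvections with distinct centers on an elementary abelian group of order `p ^ 2`
generate `SL(2, p)` (abstract version, for an action `φ : L →* MulAut M`).
Everything lives in `Cfsg.Agent.Helper10`.
-/
import Mathlib
import Cfsg.Agent.Helper24.SL2Mat

set_option autoImplicit false

namespace Cfsg.Agent.Helper10

open Cfsg.Agent.Helper24

/-- Every element of `SL(2, F)` is a product of elementary matrices. -/
theorem sl2gen_mem_of_elementary {F : Type*} [Field F] (R : Subgroup (SL2 F))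
    (hu : ∀ t : F, uM t ∈ R) (hv : ∀ s : F, vM s ∈ R) (x : SL2 F) : x ∈ R := by
  have key : ∀ y : SL2 F, y 1 0 ≠ 0 → y ∈ R := by
    intro y hy
    have hd := sl2_det y
    have e : y = uM ((y 0 0 - 1) / y 1 0) * vM (y 1 0) * uM ((y 1 1 - 1) / y 1 0) := by
      apply sl2_ext
      · simp
        field_simp
        ring
      · simp
        field_simp
        linear_combination -hd
      · simp
      · simp
        field_simp
        ring
    rw [e]
    exact mul_mem (mul_mem (hu _) (hv _)) (hu _)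
  by_cases h : x 1 0 = 0
  · have h00 : x 0 0 ≠ 0 := by
      intro h0
      have := upper_diag h
      rw [h0, zero_mul] at this
      exact zero_ne_one this
    have h1 : vM 1 * x ∈ R := by
      apply key
      simp [h]
      exact h00
    have e : x = (vM 1)⁻¹ * (vM 1 * x) := by group
    rw [e]
    exact mul_mem (inv_mem (hv 1)) h1
  · exact key x h

/-- A subgroup of `SL(2, p)` containing `u(t)` and `v(s)` with `t, s ≠ 0` is everything. -/
theorem sl2gen_top_of_uM_vM {p : ℕ} [Fact p.Prime] (R : Subgroup (SL2 (ZMod p))) {t s : ZMod p}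
    (ht : t ≠ 0) (hs : s ≠ 0) (hu : uM t ∈ R) (hv : vM s ∈ R) (x : SL2 (ZMod p)) : x ∈ R := by
  apply sl2gen_mem_of_elementary R
  · intro u
    have e : uM u = (uM t) ^ (u / t).val := by
      rw [uM_pow, ZMod.natCast_zmod_val, div_mul_cancel₀ _ ht]
    rw [e]
    exact pow_mem hu _
  · intro u
    have e : vM u = (vM s) ^ (u / s).val := by
      rw [vM_pow, ZMod.natCast_zmod_val, div_mul_cancel₀ _ hs]
    rw [e]
    exact pow_mem hv _


/-- Two transvections with independent centers on a commutative group of order `p ^ 2` and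
exponent `p`, acting faithfully: the group they generate is `SL(2, p)`. -/
theorem sl2gen_of_transvection_pair_comm {p : ℕ} [Fact p.Prime] {M : Type*} [CommGroup M] [Finite M]
    (hMp : ∀ x : M, x ^ p = 1) (hcard : Nat.card M = p ^ 2)
    {L : Type*} [Group L] (φ : L →* MulAut M) (hφ : Function.Injective φ)
    (a b : L) (hgen : Subgroup.closure {a, b} = ⊤)
    (d₁ d₂ : M) (hd₁ : d₁ ≠ 1) (hd₂ : d₂ ∉ Subgroup.zpowers d₁)
    (ha1 : φ a d₁ = d₁) (ha2 : φ a d₂ / d₂ ∈ Subgroup.zpowers d₁) (ha3 : φ a d₂ ≠ d₂)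
    (hb2 : φ b d₂ = d₂) (hb1 : φ b d₁ / d₁ ∈ Subgroup.zpowers d₂) (hb3 : φ b d₁ ≠ d₁) :
    Nonempty (L ≃* SL2 (ZMod p)) := by
  have hp : p.Prime := Fact.out
  haveI : Module (ZMod p) (Additive M) := AddCommGroup.zmodModule (fun x => by
    apply Additive.toMul.injective
    rw [toMul_nsmul, toMul_zero]
    exact hMp _)
  let ρ : L →* Module.End (ZMod p) (Additive M) :=
    { toFun := fun h => (MonoidHom.toAdditive (φ h).toMonoidHom).toZModLinearMap p
      map_one' := by
        ext v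
        simp only [map_one]
        rfl
      map_mul' := fun g h => by
        ext v
        simp only [map_mul]
        rfl }
  have hρ : ∀ (h : L) (m : M), ρ h (Additive.ofMul m) = Additive.ofMul (φ h m) := fun h m => rfl
  -- the basis
  set e₁ : Additive M := Additive.ofMul d₁ with he₁
  set e₂ : Additive M := Additive.ofMul d₂ with he₂
  have hsm : ∀ (c : ZMod p) (m : M), c • Additive.ofMul m = Additive.ofMul (m ^ c.val) := by
    intro c m
    conv_lhs => rw [← ZMod.natCast_zmod_val c, Nat.cast_smul_eq_nsmul]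
    rfl
  have hsmz : ∀ (k : ℤ) (m : M), Additive.ofMul (m ^ k) = (k : ZMod p) • Additive.ofMul m := by
    intro k m
    rw [Int.cast_smul_eq_zsmul]
    rfl
  have hli : LinearIndependent (ZMod p) ![e₁, e₂] := by
    rw [LinearIndependent.pair_iff]
    intro s t hst
    have ht : t = 0 := by
      by_contra ht
      apply hd₂
      have h1 : e₂ = (-(s / t)) • e₁ := by
        have : t • e₂ = -(s • e₁) := by
          rw [eq_neg_iff_add_eq_zero, add_comm]; exact hst
        calc e₂ = t⁻¹ • (t • e₂) := by rw [smul_smul, inv_mul_cancel₀ ht, one_smul]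
          _ = (-(s / t)) • e₁ := by rw [this, smul_neg, smul_smul, neg_smul, div_eq_inv_mul]
      rw [he₁, hsm] at h1
      have h2 : d₂ = d₁ ^ (-(s / t)).val := Additive.ofMul.injective h1
      rw [h2]
      exact Subgroup.pow_mem _ (Subgroup.mem_zpowers _) _
    refine ⟨?_, ht⟩
    rw [ht, zero_smul, add_zero] at hst
    by_contra hs
    apply hd₁
    have : e₁ = 0 := by
      calc e₁ = s⁻¹ • (s • e₁) := by rw [smul_smul, inv_mul_cancel₀ hs, one_smul]
        _ = 0 := by rw [hst, smul_zero]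
    exact Additive.ofMul.injective this
  haveI : Fintype M := Fintype.ofFinite M
  haveI : Fintype (Additive M) := Fintype.ofFinite _
  have hfin : Module.finrank (ZMod p) (Additive M) = 2 := by
    have h1 : Fintype.card (Additive M) = Fintype.card (ZMod p) ^ Module.finrank (ZMod p) (Additive M) :=
      Module.card_eq_pow_finrank
    rw [ZMod.card] at h1
    have h2 : Fintype.card (Additive M) = p ^ 2 := by
      rw [← hcard, ← Nat.card_eq_fintype_card]
      rfl
    rw [h2] at h1
    exact (Nat.pow_right_injective hp.two_le h1).symm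
  let bas : Module.Basis (Fin 2) (ZMod p) (Additive M) :=
    basisOfLinearIndependentOfCardEqFinrank hli (by rw [hfin]; rfl)
  have hbas0 : bas 0 = e₁ := by
    show (basisOfLinearIndependentOfCardEqFinrank hli _) 0 = e₁
    rw [coe_basisOfLinearIndependentOfCardEqFinrank]
    rfl
  have hbas1 : bas 1 = e₂ := by
    show (basisOfLinearIndependentOfCardEqFinrank hli _) 1 = e₂
    rw [coe_basisOfLinearIndependentOfCardEqFinrank]
    rfl
  let ψ₀ : L →* Matrix (Fin 2) (Fin 2) (ZMod p) :=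
    (MonoidHomClass.toMonoidHom (LinearMap.toMatrixAlgEquiv bas)).comp ρ
  have hψ₀ : ∀ (g : L) (i j : Fin 2), ψ₀ g i j = bas.repr (ρ g (bas j)) i := by
    intro g i j
    show LinearMap.toMatrixAlgEquiv bas (ρ g) i j = _
    rw [LinearMap.toMatrixAlgEquiv_apply]
  -- the matrix of `a`
  obtain ⟨k, hk⟩ := Subgroup.mem_zpowers_iff.mp ha2
  obtain ⟨l, hl⟩ := Subgroup.mem_zpowers_iff.mp hb1
  have hae₁ : ρ a e₁ = e₁ := by rw [he₁, hρ, ha1]
  have hbe₂ : ρ b e₂ = e₂ := by rw [he₂, hρ, hb2]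
  have hae₂ : ρ a e₂ = e₂ + (k : ZMod p) • e₁ := by
    rw [he₁, ← hsmz, hk, he₂, hρ]
    apply Additive.toMul.injective
    show φ a d₂ = d₂ * (φ a d₂ / d₂)
    rw [mul_div_cancel]
  have hbe₁ : ρ b e₁ = e₁ + (l : ZMod p) • e₂ := by
    rw [he₂, ← hsmz, hl, he₁, hρ]
    apply Additive.toMul.injective
    show φ b d₁ = d₁ * (φ b d₁ / d₁)
    rw [mul_div_cancel]
  have hk0 : (k : ZMod p) ≠ 0 := by
    intro h0
    rw [h0, zero_smul, add_zero, he₂, hρ] at hae₂
    exact ha3 (Additive.ofMul.injective hae₂)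
  have hl0 : (l : ZMod p) ≠ 0 := by
    intro h0
    rw [h0, zero_smul, add_zero, he₁, hρ] at hbe₁
    exact hb3 (Additive.ofMul.injective hbe₁)
  have hψa : ψ₀ a = (uM (k : ZMod p)).val := by
    ext i j
    rw [hψ₀]
    fin_cases i <;> fin_cases j
    · show bas.repr (ρ a (bas 0)) 0 = 1
      rw [hbas0, hae₁, ← hbas0, Module.Basis.repr_self]
      simp
    · show bas.repr (ρ a (bas 1)) 0 = (k : ZMod p)
      rw [hbas1, hae₂, ← hbas0, ← hbas1, map_add, map_smul, Module.Basis.repr_self, Module.Basis.repr_self]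
      simp
    · show bas.repr (ρ a (bas 0)) 1 = 0
      rw [hbas0, hae₁, ← hbas0, Module.Basis.repr_self]
      simp
    · show bas.repr (ρ a (bas 1)) 1 = 1
      rw [hbas1, hae₂, ← hbas0, ← hbas1, map_add, map_smul, Module.Basis.repr_self, Module.Basis.repr_self]
      simp
  have hψb : ψ₀ b = (vM (l : ZMod p)).val := by
    ext i j
    rw [hψ₀]
    fin_cases i <;> fin_cases j
    · show bas.repr (ρ b (bas 0)) 0 = 1
      rw [hbas0, hbe₁, ← hbas0, ← hbas1, map_add, map_smul, Module.Basis.repr_self, Module.Basis.repr_self]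
      simp
    · show bas.repr (ρ b (bas 1)) 0 = 0
      rw [hbas1, hbe₂, ← hbas1, Module.Basis.repr_self]
      simp
    · show bas.repr (ρ b (bas 0)) 1 = (l : ZMod p)
      rw [hbas0, hbe₁, ← hbas0, ← hbas1, map_add, map_smul, Module.Basis.repr_self, Module.Basis.repr_self]
      simp
    · show bas.repr (ρ b (bas 1)) 1 = 1
      rw [hbas1, hbe₂, ← hbas1, Module.Basis.repr_self]
      simp
  -- determinant one
  have hdet : ∀ g : L, (ψ₀ g).det = 1 := by
    intro g
    have hle : Subgroup.closure {a, b} ≤ ((Matrix.detMonoidHom (n := Fin 2) (R := ZMod p)).comp ψ₀).ker := by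
      rw [Subgroup.closure_le]
      intro y hy
      rcases hy with rfl | rfl
      · show (ψ₀ y).det = 1
        rw [hψa]
        exact (uM (k : ZMod p)).2
      · show (ψ₀ y).det = 1
        rw [hψb]
        exact (vM (l : ZMod p)).2
    have hg : g ∈ Subgroup.closure {a, b} := by rw [hgen]; trivial
    exact hle hg
  let ψ : L →* SL2 (ZMod p) :=
    { toFun := fun g => ⟨ψ₀ g, hdet g⟩
      map_one' := Subtype.ext (map_one ψ₀)
      map_mul' := fun g h => Subtype.ext (map_mul ψ₀ g h) }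
  have hψa' : ψ a = uM (k : ZMod p) := Subtype.ext hψa
  have hψb' : ψ b = vM (l : ZMod p) := Subtype.ext hψb
  have hsurj : Function.Surjective ψ := by
    intro y
    have : y ∈ ψ.range :=
      sl2gen_top_of_uM_vM ψ.range hk0 hl0 ⟨a, hψa'⟩ ⟨b, hψb'⟩ y
    exact this
  have hinj : Function.Injective ψ := by
    rw [injective_iff_map_eq_one]
    intro g hg
    have h1 : ψ₀ g = 1 := congrArg Subtype.val hg
    have h2 : ρ g = 1 := by
      apply (LinearMap.toMatrixAlgEquiv bas).injective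
      rw [map_one]
      exact h1
    apply hφ
    rw [map_one]
    ext m
    have h3 := LinearMap.congr_fun h2 (Additive.ofMul m)
    rw [hρ] at h3
    exact Additive.ofMul.injective h3
  exact ⟨MulEquiv.ofBijective ψ ⟨hinj, hsurj⟩⟩

/-- The same with the commutativity of `M` as a hypothesis. -/
theorem sl2gen_of_transvection_pair {p : ℕ} [Fact p.Prime] {M : Type*} [Group M] [Finite M]
    (hcomm : ∀ x y : M, x * y = y * x)
    (hMp : ∀ x : M, x ^ p = 1) (hcard : Nat.card M = p ^ 2)
    {L : Type*} [Group L] (φ : L →* MulAut M) (hφ : Function.Injective φ)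
    (a b : L) (hgen : Subgroup.closure {a, b} = ⊤)
    (d₁ d₂ : M) (hd₁ : d₁ ≠ 1) (hd₂ : d₂ ∉ Subgroup.zpowers d₁)
    (ha1 : φ a d₁ = d₁) (ha2 : φ a d₂ / d₂ ∈ Subgroup.zpowers d₁) (ha3 : φ a d₂ ≠ d₂)
    (hb2 : φ b d₂ = d₂) (hb1 : φ b d₁ / d₁ ∈ Subgroup.zpowers d₂) (hb3 : φ b d₁ ≠ d₁) :
    Nonempty (L ≃* SL2 (ZMod p)) := by
  letI : CommGroup M := { ‹Group M› with mul_comm := hcomm }
  exact sl2gen_of_transvection_pair_comm hMp hcard φ hφ a b hgen d₁ d₂ hd₁ hd₂ ha1 ha2 ha3
    hb2 hb1 hb3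

/-- For `p ≥ 5`, `SL(2, p)` contains a nontrivial commutator of order `p`. -/
theorem sl2gen_commutator_order_p {p : ℕ} [Fact p.Prime] (h5 : 5 ≤ p) :
    ∃ x y : SL2 (ZMod p), x * y * x⁻¹ * y⁻¹ ≠ 1 ∧ (x * y * x⁻¹ * y⁻¹) ^ p = 1 := by
  have hp : p.Prime := Fact.out
  have h2 : (2 : ZMod p) ≠ 0 := by
    intro h
    have h' : ((2 : ℕ) : ZMod p) = 0 := by exact_mod_cast h
    rw [ZMod.natCast_eq_zero_iff] at h'
    have := Nat.le_of_dvd (by norm_num) h'
    omega
  have h3 : (3 : ZMod p) ≠ 0 := by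
    intro h
    have h' : ((3 : ℕ) : ZMod p) = 0 := by exact_mod_cast h
    rw [ZMod.natCast_eq_zero_iff] at h'
    have := Nat.le_of_dvd (by norm_num) h'
    omega
  have hd : (2 : ZMod p) * 2⁻¹ - 0 * 0 = 1 := by
    rw [mul_inv_cancel₀ h2]; ring
  refine ⟨mkSL2 2 0 0 2⁻¹ hd, uM 1, ?_, ?_⟩
  · have e : mkSL2 2 0 0 2⁻¹ hd * uM 1 * (mkSL2 2 0 0 2⁻¹ hd)⁻¹ * (uM 1)⁻¹ = uM (3 : ZMod p) := by
      apply sl2_ext <;> simp <;> field_simp <;> ring_nf
    rw [e]
    intro h1
    have := congrArg (fun m : SL2 (ZMod p) => m 0 1) h1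
    simp at this
    exact h3 this
  · have e : mkSL2 2 0 0 2⁻¹ hd * uM 1 * (mkSL2 2 0 0 2⁻¹ hd)⁻¹ * (uM 1)⁻¹ = uM (3 : ZMod p) := by
      apply sl2_ext <;> simp <;> field_simp <;> ring_nf
    rw [e, uM_pow]
    have : ((p : ℕ) : ZMod p) = 0 := ZMod.natCast_self p
    rw [this, zero_mul, uM_zero]

end Cfsg.Agent.Helper10
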