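import Mathlib
import Cfsg.Agent.Helper10.Offender2
import Cfsg.Agent.Helper10.PAction
import Cfsg.Agent.Helper10.Conj
import Cfsg.Agent.Helper10.SL2Gen

/-!
Helper10: the pair of a minimal offender `A` of order `p` and a conjugate `A ^ x` under a
`p'`-element `x` not centralizing `A` (Kurzweil–Stellmacher 9.3): general lemmas and the
resulting `SL(2, p)`.
-/

set_option autoImplicit false

namespace Cfsg.Agent.Helper10

open scoped commutatorElement Pointwise

/-- `⁅V, A ⊔ B⁆ ≤ U` as soon as `⁅V, A⁆` and `⁅V, B⁆` lie in `U ≤ V` (`V` abelian). -/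
theorem ffp_commutator_sup_le {G : Type*} [Group G] (V A B U : Subgroup G)
    (hc : ∀ x ∈ V, ∀ y ∈ V, x * y = y * x)
    (hA : A ≤ Subgroup.normalizer (V : Set G)) (hB : B ≤ Subgroup.normalizer (V : Set G))
    (hU : U ≤ V) (h1 : ⁅V, A⁆ ≤ U) (h2 : ⁅V, B⁆ ≤ U) : ⁅V, A ⊔ B⁆ ≤ U := by
  let S : Subgroup G :=
    { carrier := {g | g ∈ Subgroup.normalizer (V : Set G) ∧ ∀ v ∈ V, ⁅v, g⁆ ∈ U}
      one_mem' := ⟨Subgroup.one_mem _, fun v _ => by
        rw [commutatorElement_one_right]; exact U.one_mem⟩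
      mul_mem' := by
        rintro g h ⟨hg, hg'⟩ ⟨hh, hh'⟩
        refine ⟨Subgroup.mul_mem _ hg hh, fun v hv => ?_⟩
        have hu := hh' v hv
        have hu' := hg' _ (hU hu)
        have e : ⁅v, g * h⁆ = ⁅v, g⁆ * ((⁅⁅v, h⁆, g⁆)⁻¹ * ⁅v, h⁆) := by
          simp only [commutatorElement_def]; group
        rw [e]
        exact U.mul_mem (hg' v hv) (U.mul_mem (U.inv_mem hu') hu)
      inv_mem' := by
        rintro g ⟨hg, hg'⟩
        refine ⟨Subgroup.inv_mem _ hg, fun v hv => ?_⟩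
        have hv' : g⁻¹ * v⁻¹ * g ∈ V := by
          have := (Subgroup.mem_normalizer_iff.mp (Subgroup.inv_mem _ hg) v⁻¹).mp (V.inv_mem hv)
          simpa using this
        have hu := hg' _ hv'
        have e : ⁅v, g⁻¹⁆ = v * ⁅g⁻¹ * v⁻¹ * g, g⁆ * v⁻¹ := by
          simp only [commutatorElement_def]; group
        rw [e, hc v hv _ (hU hu), mul_inv_cancel_right]
        exact hu }
  have hAS : A ≤ S := fun a ha =>
    ⟨hA ha, fun v hv => h1 (Subgroup.commutator_mem_commutator hv ha)⟩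
  have hBS : B ≤ S := fun b hb =>
    ⟨hB hb, fun v hv => h2 (Subgroup.commutator_mem_commutator hv hb)⟩
  rw [Subgroup.commutator_le]
  intro v hv g hg
  exact ((sup_le hAS hBS) hg).2 v hv

/-- If `k` fixes `u = k v k⁻¹ v⁻¹` then `k ^ n` moves `v` to `u ^ n * v`. -/
theorem ffp_conj_pow {G : Type*} [Group G] (k v : G)
    (h : k * (k * v * k⁻¹ * v⁻¹) * k⁻¹ = k * v * k⁻¹ * v⁻¹) (n : ℕ) :
    k ^ n * v * (k ^ n)⁻¹ = (k * v * k⁻¹ * v⁻¹) ^ n * v := by
  induction n with
  | zero => simp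
  | succ n ih =>
    have e : k ^ (n + 1) * v * (k ^ (n + 1))⁻¹ = k * (k ^ n * v * (k ^ n)⁻¹) * k⁻¹ := by
      rw [pow_succ']; group
    have e2 : k * ((k * v * k⁻¹ * v⁻¹) ^ n * v) * k⁻¹ =
        (k * (k * v * k⁻¹ * v⁻¹) * k⁻¹) ^ n * ((k * v * k⁻¹ * v⁻¹) * v) := by
      rw [conj_pow]; group
    rw [e, ih, e2, h, pow_succ]
    exact (mul_assoc _ _ _).symm

/-- An element acting trivially on `⁅V, k⁆` (for `V` of exponent `p`) has `p`-th power
centralizing `V`. -/
theorem ffp_pow_p_mem_centralizer {G : Type*} [Group G] {p : ℕ} (V : Subgroup G)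
    (hexp : ∀ v ∈ V, v ^ p = 1) (k : G) (hk : k ∈ Subgroup.normalizer (V : Set G))
    (h : ∀ v ∈ V, k * (k * v * k⁻¹ * v⁻¹) * k⁻¹ = k * v * k⁻¹ * v⁻¹) :
    k ^ p ∈ Subgroup.centralizer (V : Set G) := by
  rw [Subgroup.mem_centralizer_iff]
  intro v hv
  have h1 := ffp_conj_pow k v (h v hv) p
  have hu : k * v * k⁻¹ * v⁻¹ ∈ V :=
    V.mul_mem ((Subgroup.mem_normalizer_iff.mp hk v).mp hv) (V.inv_mem hv)
  rw [hexp _ hu, one_mul] at h1
  calc v * k ^ p = (k ^ p * v * (k ^ p)⁻¹) * k ^ p := by rw [h1]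
    _ = k ^ p * v := by group

/-- Elements of `A ⊔ Q` are products when `A` normalizes `Q`. -/
theorem ffp_mem_sup_of_le_normalizer {G : Type*} [Group G] (A Q : Subgroup G)
    (hAQ : A ≤ Subgroup.normalizer (Q : Set G)) {g : G} (hg : g ∈ A ⊔ Q) :
    ∃ a ∈ A, ∃ q ∈ Q, g = a * q := by
  have hg' : g ∈ ((A ⊔ Q : Subgroup G) : Set G) := hg
  rw [Subgroup.coe_mul_of_left_le_normalizer_right A Q hAQ] at hg'
  obtain ⟨a, ha, q, hq, rfl⟩ := Set.mem_mul.mp hg'
  exact ⟨a, ha, q, hq, rfl⟩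

/-- `A ⊔ Q` is abelian modulo `Q` when `A` is abelian and normalizes `Q`. -/
theorem ffp_commutator_mem_of_sup {G : Type*} [Group G] (A Q : Subgroup G)
    (hAQ : A ≤ Subgroup.normalizer (Q : Set G)) (hA : ∀ x ∈ A, ∀ y ∈ A, x * y = y * x)
    {g h : G} (hg : g ∈ A ⊔ Q) (hh : h ∈ A ⊔ Q) : ⁅g, h⁆ ∈ Q := by
  obtain ⟨a, ha, q, hq, rfl⟩ := ffp_mem_sup_of_le_normalizer A Q hAQ hg
  obtain ⟨a', ha', q', hq', rfl⟩ := ffp_mem_sup_of_le_normalizer A Q hAQ hh
  have hn : ∀ c ∈ A, ∀ y ∈ Q, c * y * c⁻¹ ∈ Q := fun c hc y hy =>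
    (Subgroup.mem_normalizer_iff.mp (hAQ hc) y).mp hy
  have e := hA a ha a' ha'
  have e1 : ⁅a * q, a' * q'⁆ = (a * q * a⁻¹) * ((a * a') * (q' * q⁻¹) * (a * a')⁻¹) *
      ((a * a' * a⁻¹) * q'⁻¹ * (a * a' * a⁻¹)⁻¹) * (a * a' * a⁻¹ * a'⁻¹) := by
    rw [commutatorElement_def]; group
  have e2 : a * a' * a⁻¹ = a' := by rw [e]; group
  rw [e1, e2, mul_inv_cancel, mul_one]
  exact Q.mul_mem (Q.mul_mem (hn a ha q hq)
    (hn _ (A.mul_mem ha ha') _ (Q.mul_mem hq' (Q.inv_mem hq)))) (hn a' ha' _ (Q.inv_mem hq'))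

/-- An element normalizing `V` and `L` normalizes `⁅V, L⁆`. -/
theorem ffp_mem_normalizer_commutator {G : Type*} [Group G] (V L : Subgroup G) {g : G}
    (hV : g ∈ Subgroup.normalizer (V : Set G)) (hL : g ∈ Subgroup.normalizer (L : Set G)) :
    g ∈ Subgroup.normalizer ((⁅V, L⁆ : Subgroup G) : Set G) := by
  rw [mem_normalizer_iff_conj_smul_eq] at hV hL ⊢
  have : MulAut.conj g • ⁅V, L⁆ = ⁅MulAut.conj g • V, MulAut.conj g • L⁆ :=
    Subgroup.map_commutator _ _ _
  rw [this, hV, hL]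

/-- An element normalizing `W` normalizes its centralizer. -/
theorem ffp_mem_normalizer_centralizer {G : Type*} [Group G] (W : Subgroup G) {g : G}
    (hg : g ∈ Subgroup.normalizer (W : Set G)) :
    g ∈ Subgroup.normalizer ((Subgroup.centralizer (W : Set G) : Subgroup G) : Set G) := by
  rw [Subgroup.mem_normalizer_iff]
  intro h
  constructor
  · intro hh
    rw [Subgroup.mem_centralizer_iff] at hh ⊢
    intro w hw
    have hw' : g⁻¹ * w * g ∈ W := by
      have := (Subgroup.mem_normalizer_iff.mp (Subgroup.inv_mem _ hg) w).mp hw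
      simpa using this
    have e := hh _ hw'
    calc w * (g * h * g⁻¹) = g * (g⁻¹ * w * g * h) * g⁻¹ := by group
      _ = g * (h * (g⁻¹ * w * g)) * g⁻¹ := by rw [e]
      _ = g * h * g⁻¹ * w := by group
  · intro hh
    rw [Subgroup.mem_centralizer_iff] at hh ⊢
    intro w hw
    have hw' : g * w * g⁻¹ ∈ W := (Subgroup.mem_normalizer_iff.mp hg w).mp hw
    have e := hh _ hw'
    calc w * h = g⁻¹ * (g * w * g⁻¹ * (g * h * g⁻¹)) * g := by group
      _ = g⁻¹ * (g * h * g⁻¹ * (g * w * g⁻¹)) * g := by rw [e]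
      _ = h * w := by group

/-- The order of the join of two elementwise commuting subgroups with trivial intersection. -/
theorem ffp_card_sup_of_disjoint {G : Type*} [Group G] (D E : Subgroup G)
    (hc : ∀ x ∈ D, ∀ y ∈ E, x * y = y * x) (hdisj : D ⊓ E = ⊥) :
    Nat.card ↥(D ⊔ E) = Nat.card D * Nat.card E := by
  rw [← Nat.card_prod]
  symm
  apply Nat.card_congr
  refine Equiv.ofBijective (fun de : ↥D × ↥E => (⟨(de.1 : G) * de.2,
    Subgroup.mul_mem _ (Subgroup.mem_sup_left de.1.2) (Subgroup.mem_sup_right de.2.2)⟩ :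
      ↥(D ⊔ E))) ⟨?_, ?_⟩
  · rintro ⟨d, e⟩ ⟨d', e'⟩ h
    have h1 : (d : G) * e = d' * e' := congrArg Subtype.val h
    have h2 : (d' : G)⁻¹ * d = e' * (e : G)⁻¹ := by
      calc (d' : G)⁻¹ * d = (d' : G)⁻¹ * (d * e) * (e : G)⁻¹ := by group
        _ = e' * (e : G)⁻¹ := by rw [h1]; group
    have h3 : (d' : G)⁻¹ * d ∈ D ⊓ E :=
      ⟨D.mul_mem (D.inv_mem d'.2) d.2, by rw [h2]; exact E.mul_mem e'.2 (E.inv_mem e.2)⟩
    rw [hdisj, Subgroup.mem_bot] at h3
    have h4 : (d : G) = d' := by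
      calc (d : G) = d' * ((d' : G)⁻¹ * d) := by group
        _ = d' := by rw [h3, mul_one]
    have h5 : (e : G) = e' := by
      rw [h4] at h1
      exact mul_left_cancel h1
    exact Prod.ext (Subtype.ext h4) (Subtype.ext h5)
  · rintro ⟨z, hz⟩
    obtain ⟨a, ha, b, hb, rfl⟩ := mem_sup_of_commute' hc hz
    exact ⟨(⟨a, ha⟩, ⟨b, hb⟩), rfl⟩

/-- A subgroup of a subgroup of prime order is trivial or everything. -/
theorem ffp_eq_bot_or_eq_of_card_prime {G : Type*} [Group G] [Finite G] {p : ℕ} (hp : p.Prime)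
    {X A : Subgroup G} (hA : Nat.card A = p) (hXA : X ≤ A) : X = ⊥ ∨ X = A := by
  have h1 : Nat.card X ∣ p := hA ▸ Subgroup.card_dvd_of_le hXA
  rcases (Nat.dvd_prime hp).mp h1 with h | h
  · left
    exact Subgroup.card_eq_one.mp h
  · right
    exact Subgroup.eq_of_le_of_card_ge hXA (by rw [hA, h])

/-- **The `SL(2, p)` generated by an offender of order `p` and a conjugate.** `V` elementary
abelian, `H ≤ N(V)` faithful, `Q ≤ H` a normal `p'`-subgroup, `A ≤ H` of order `p` with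
`|⁅V, A⁆| = p`, and `x ∈ Q` not centralizing `A`. Then `L = ⟨A, A ^ x⟩` acts faithfully on
`W = ⁅V, L⁆ = ⁅V, A⁆ × ⁅V, A ^ x⁆` of order `p ^ 2`, `L ≅ SL(2, p)` and `p ≤ 3`. -/
theorem ffp_pair_sl2 {G : Type*} [Group G] [Finite G] {p : ℕ} [Fact p.Prime]
    (V H Q A : Subgroup G) (hV : Cfsg.IsElementaryAbelian p V)
    (hHV : H ≤ Subgroup.normalizer (V : Set G))
    (hf : H ⊓ Subgroup.centralizer (V : Set G) = ⊥)
    (hQH : Q ≤ H) (hHQ : H ≤ Subgroup.normalizer (Q : Set G)) (hQp : ¬ p ∣ Nat.card Q)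
    (hAH : A ≤ H) (hAc : Nat.card A = p) (hD : Nat.card ↥(⁅V, A⁆) = p)
    (x : G) (hx : x ∈ Q) (hxA : x ∉ Subgroup.centralizer (A : Set G)) :
    (p = 2 ∨ p = 3) ∧
    Nat.card ↥(⁅V, A ⊔ A.map (MulAut.conj x).toMonoidHom⁆) = p ^ 2 ∧
    (A ⊔ A.map (MulAut.conj x).toMonoidHom) ⊓ Subgroup.centralizer
      ((⁅V, A ⊔ A.map (MulAut.conj x).toMonoidHom⁆ : Subgroup G) : Set G) = ⊥ ∧
    Nonempty (↥(A ⊔ A.map (MulAut.conj x).toMonoidHom) ≃*
      Matrix.SpecialLinearGroup (Fin 2) (ZMod p)) ∧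
    ⁅V, A ⊔ A.map (MulAut.conj x).toMonoidHom⁆ =
      ⁅V, A⁆ ⊔ ⁅V, A.map (MulAut.conj x).toMonoidHom⁆ ∧
    ⁅V, A⁆ ⊓ ⁅V, A.map (MulAut.conj x).toMonoidHom⁆ = ⊥ := by
  have hp : p.Prime := Fact.out
  obtain ⟨hc, hexp⟩ := (elemAb_iff p V).mp hV
  set B : Subgroup G := A.map (MulAut.conj x).toMonoidHom with hBdef
  have hxH : x ∈ H := hQH hx
  have hBH : B ≤ H := by
    rintro _ ⟨a, ha, rfl⟩
    show x * a * x⁻¹ ∈ H
    exact H.mul_mem (H.mul_mem hxH (hAH ha)) (H.inv_mem hxH)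
  set L : Subgroup G := A ⊔ B with hLdef
  have hLH : L ≤ H := sup_le hAH hBH
  have hAV : A ≤ Subgroup.normalizer (V : Set G) := hAH.trans hHV
  have hBV : B ≤ Subgroup.normalizer (V : Set G) := hBH.trans hHV
  have hLV : L ≤ Subgroup.normalizer (V : Set G) := hLH.trans hHV
  set D : Subgroup G := ⁅V, A⁆ with hDdef
  set D' : Subgroup G := ⁅V, B⁆ with hD'def
  set W : Subgroup G := ⁅V, L⁆ with hWdef
  have hWV : W ≤ V := commutator_le_of_le_normalizer V L hLV
  have hDV : D ≤ V := commutator_le_of_le_normalizer V A hAV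
  have hD'V : D' ≤ V := commutator_le_of_le_normalizer V B hBV
  have hDW : D ≤ W := Subgroup.commutator_mono le_rfl le_sup_left
  have hD'W : D' ≤ W := Subgroup.commutator_mono le_rfl le_sup_right
  have hWeq : W = D ⊔ D' :=
    le_antisymm (ffp_commutator_sup_le V A B (D ⊔ D') hc hAV hBV (sup_le hDV hD'V)
      le_sup_left le_sup_right) (sup_le hDW hD'W)
  have hxV : x ∈ Subgroup.normalizer (V : Set G) := hHV hxH
  have hD'conj : D' = D.map (MulAut.conj x).toMonoidHom := by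
    rw [hDdef, Subgroup.map_commutator]
    have : V.map (MulAut.conj x).toMonoidHom = V := conj_smul_eq_of_mem_normalizer hxV
    rw [this]
  have hD'c : Nat.card D' = p := by
    rw [hD'conj, Subgroup.card_map_of_injective (MulAut.conj x).injective]
    exact hD
  have hAp : IsPGroup p A := IsPGroup.of_card (n := 1) (by rw [hAc, pow_one])
  have hApow : ∀ y ∈ A, y ^ p = 1 := by
    intro y hy
    have h1 : (⟨y, hy⟩ : ↥A) ^ Nat.card A = 1 := pow_card_eq_one'
    rw [hAc] at h1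
    exact congrArg Subtype.val h1
  obtain ⟨a, haA, ha1⟩ : ∃ a ∈ A, a ≠ 1 := by
    by_contra hcon
    push Not at hcon
    have : A = ⊥ := (Subgroup.eq_bot_iff_forall A).mpr hcon
    rw [this, Subgroup.card_bot] at hAc
    exact hp.one_lt.ne hAc
  have hAz : A = Subgroup.zpowers a := by
    rcases ffp_eq_bot_or_eq_of_card_prime hp hAc ((Subgroup.zpowers_le).mpr haA) with h | h
    · exfalso
      apply ha1
      have := Subgroup.mem_zpowers a
      rw [h] at this
      exact Subgroup.mem_bot.mp this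
    · exact h.symm
  have hAcomm : ∀ y ∈ A, ∀ z ∈ A, y * z = z * y := by
    intro y hy z hz
    rw [hAz] at hy hz
    obtain ⟨i, rfl⟩ := Subgroup.mem_zpowers_iff.mp hy
    obtain ⟨j, rfl⟩ := Subgroup.mem_zpowers_iff.mp hz
    exact (Commute.zpow_zpow_self a i j).eq
  have hap : a ^ p = 1 := hApow a haA
  set b : G := x * a * x⁻¹ with hbdef
  have hbB : b ∈ B := ⟨a, haA, rfl⟩
  have hQ1 : ∀ q ∈ Q, q ^ p = 1 → q = 1 := by
    intro q hq hqp
    have h3 : orderOf q ∣ p := orderOf_dvd_of_pow_eq_one hqp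
    have h4 : orderOf q ∣ Nat.card Q := by
      have := orderOf_dvd_natCard (⟨q, hq⟩ : ↥Q)
      rwa [Subgroup.orderOf_mk] at this
    rcases (Nat.dvd_prime hp).mp h3 with h | h
    · exact orderOf_eq_one_iff.mp h
    · exact absurd (h ▸ h4) hQp
  set T : Subgroup G := A ⊔ Q with hTdef
  have hAQ : A ≤ Subgroup.normalizer (Q : Set G) := hAH.trans hHQ
  have hBT : B ≤ T := by
    rintro _ ⟨a', ha', rfl⟩
    show x * a' * x⁻¹ ∈ T
    exact T.mul_mem (T.mul_mem (Subgroup.mem_sup_right hx) (Subgroup.mem_sup_left ha'))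
      (T.inv_mem (Subgroup.mem_sup_right hx))
  have hLT : L ≤ T := sup_le le_sup_left hBT
  have hLW : L ≤ Subgroup.normalizer (W : Set G) := fun g hg =>
    ffp_mem_normalizer_commutator V L (hLV hg) (Subgroup.le_normalizer hg)
  have hLCW : L ≤ Subgroup.normalizer
      ((Subgroup.centralizer (W : Set G) : Subgroup G) : Set G) := fun g hg =>
    ffp_mem_normalizer_centralizer W (hLW hg)
  set K : Subgroup G := L ⊓ Subgroup.centralizer (W : Set G) with hKdef
  -- step 1: `K` has exponent `p`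
  have hKp : ∀ k ∈ K, k ^ p = 1 := by
    intro k hk
    have hkL : k ∈ L := hk.1
    have hkc := Subgroup.mem_centralizer_iff.mp hk.2
    have h1 : k ^ p ∈ Subgroup.centralizer (V : Set G) := by
      apply ffp_pow_p_mem_centralizer V hexp k (hLV hkL)
      intro v hv
      have hu : k * v * k⁻¹ * v⁻¹ ∈ W := by
        have h2 : ⁅v, k⁆ ∈ W := Subgroup.commutator_mem_commutator hv hkL
        have e : k * v * k⁻¹ * v⁻¹ = ⁅v, k⁆⁻¹ := by rw [commutatorElement_def]; group
        rw [e]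
        exact W.inv_mem h2
      have e := hkc _ hu
      calc k * (k * v * k⁻¹ * v⁻¹) * k⁻¹ = (k * v * k⁻¹ * v⁻¹) * k * k⁻¹ := by rw [e]
        _ = k * v * k⁻¹ * v⁻¹ := by group
    have h2 : k ^ p ∈ H ⊓ Subgroup.centralizer (V : Set G) := ⟨H.pow_mem (hLH hkL) p, h1⟩
    rw [hf] at h2
    exact Subgroup.mem_bot.mp h2
  -- step 2: `K` is central in `L`
  have hKZ : ∀ k ∈ K, ∀ g ∈ L, k * g = g * k := by
    intro k hk g hg
    have hc1 : ⁅k, g⁆ ∈ Q := ffp_commutator_mem_of_sup A Q hAQ hAcomm (hLT hk.1) (hLT hg)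
    have hc2 : ⁅k, g⁆ ∈ K := by
      have h1 : g * k⁻¹ * g⁻¹ ∈ K :=
        ⟨L.mul_mem (L.mul_mem hg (L.inv_mem hk.1)) (L.inv_mem hg),
          (Subgroup.mem_normalizer_iff.mp (hLCW hg) _).mp (Subgroup.inv_mem _ hk.2)⟩
      have e : ⁅k, g⁆ = k * (g * k⁻¹ * g⁻¹) := by rw [commutatorElement_def]; group
      rw [e]
      exact K.mul_mem hk h1
    have h3 := hQ1 _ hc1 (hKp _ hc2)
    exact commutatorElement_eq_one_iff_mul_comm.mp h3
  -- step 3: `K ≤ A`
  have hKA : ∀ k ∈ K, k ∈ A := by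
    intro k hk
    obtain ⟨a₀, ha₀, q₀, hq₀, rfl⟩ := ffp_mem_sup_of_le_normalizer A Q hAQ (hLT hk.1)
    have hcomm : (a₀ * q₀) * a₀ = a₀ * (a₀ * q₀) := hKZ _ hk a₀ (Subgroup.mem_sup_left ha₀)
    have hq : q₀ ^ p = 1 := by
      have e : q₀ = a₀⁻¹ * (a₀ * q₀) := by group
      have hcm : Commute a₀⁻¹ (a₀ * q₀) := Commute.inv_left (show Commute a₀ (a₀ * q₀) from hcomm.symm)
      rw [e, hcm.mul_pow, hKp _ hk, mul_one, inv_pow, hApow a₀ ha₀, inv_one]
    rw [hQ1 q₀ hq₀ hq, mul_one]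
    exact ha₀
  -- step 4: `K = ⊥`
  have hK : K = ⊥ := by
    rw [Subgroup.eq_bot_iff_forall]
    intro k hk
    by_contra hk1
    have hkA := hKA k hk
    have hzk : Subgroup.zpowers k = A := by
      rcases ffp_eq_bot_or_eq_of_card_prime hp hAc ((Subgroup.zpowers_le).mpr hkA) with h | h
      · exfalso
        apply hk1
        have := Subgroup.mem_zpowers k
        rw [h] at this
        exact Subgroup.mem_bot.mp this
      · exact h
    have hak : a ∈ Subgroup.zpowers k := by rw [hzk]; exact haA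
    obtain ⟨i, hi⟩ := Subgroup.mem_zpowers_iff.mp hak
    have hab : a * b = b * a := by
      have h1 : k * b = b * k := hKZ k hk b (Subgroup.mem_sup_right hbB)
      rw [← hi]
      exact (Commute.zpow_left (show Commute k b from h1) i).eq
    have hcQ : a⁻¹ * b ∈ Q := by
      have h1 : a⁻¹ * x * a ∈ Q := by
        have := (Subgroup.mem_normalizer_iff.mp (hAQ (A.inv_mem haA)) x).mp hx
        simpa using this
      have e : a⁻¹ * b = (a⁻¹ * x * a) * x⁻¹ := by rw [hbdef]; group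
      rw [e]
      exact Q.mul_mem h1 (Q.inv_mem hx)
    have hbp : b ^ p = 1 := by rw [hbdef, conj_pow, hap]; group
    have hcp : (a⁻¹ * b) ^ p = 1 := by
      have hcm : Commute a⁻¹ b := Commute.inv_left hab
      rw [hcm.mul_pow, inv_pow, hap, hbp, inv_one, mul_one]
    have h1 := hQ1 _ hcQ hcp
    have hba : b = a := by
      calc b = a * (a⁻¹ * b) := by group
        _ = a := by rw [h1, mul_one]
    have hxa : x * a = a * x := by
      calc x * a = (x * a * x⁻¹) * x := by group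
        _ = a * x := by rw [← hbdef, hba]
    apply hxA
    rw [Subgroup.mem_centralizer_iff]
    intro y hy
    have hy' : y ∈ Subgroup.zpowers a := hAz ▸ hy
    obtain ⟨j, rfl⟩ := Subgroup.mem_zpowers_iff.mp hy'
    exact (Commute.zpow_left (show Commute a x from hxa.symm) j).eq
  -- `A` centralizes `D`
  have hDA : D ≤ Subgroup.centralizer (A : Set G) := by
    have hVp : IsPGroup p V := elemAb_isPGroup hV
    have hDDA : ⁅D, A⁆ ≤ D := by
      apply commutator_le_of_le_normalizer D A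
      intro g hg
      exact ffp_mem_normalizer_commutator V A (hAV hg) (Subgroup.le_normalizer hg)
    rcases ffp_eq_bot_or_eq_of_card_prime hp hD hDDA with h | h
    · exact (Subgroup.commutator_eq_bot_iff_le_centralizer).mp h
    · exfalso
      have h0 := eq_bot_of_le_commutator_of_pgroup V A D hVp hAp hAV hDV (le_of_eq h.symm)
      rw [h0, Subgroup.card_bot] at hD
      exact hp.one_lt.ne hD
  -- `B` centralizes `D'`
  have hD'B : D' ≤ Subgroup.centralizer (B : Set G) := by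
    rw [hD'conj]
    rintro _ ⟨d, hd, rfl⟩
    rw [Subgroup.mem_centralizer_iff]
    rintro _ ⟨a', ha', rfl⟩
    show x * a' * x⁻¹ * (x * d * x⁻¹) = x * d * x⁻¹ * (x * a' * x⁻¹)
    have e := Subgroup.mem_centralizer_iff.mp (hDA hd) a' ha'
    calc x * a' * x⁻¹ * (x * d * x⁻¹) = x * (a' * d) * x⁻¹ := by group
      _ = x * (d * a') * x⁻¹ := by rw [e]
      _ = x * d * x⁻¹ * (x * a' * x⁻¹) := by group
  -- `D ∩ D' = 1`
  have hDD' : D ⊓ D' = ⊥ := by
    rcases ffp_eq_bot_or_eq_of_card_prime hp hD (inf_le_left : D ⊓ D' ≤ D) with h | h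
    · exact h
    · exfalso
      have hle : D ≤ D' := inf_eq_left.mp h
      have heq : D = D' := Subgroup.eq_of_le_of_card_ge hle (by rw [hD, hD'c])
      have hWD : W = D := by rw [hWeq, ← heq, sup_idem]
      have haK : a ∈ K := by
        refine ⟨Subgroup.mem_sup_left haA, ?_⟩
        show a ∈ Subgroup.centralizer (W : Set G)
        rw [Subgroup.mem_centralizer_iff]
        intro w hw
        have hw' : w ∈ D := hWD ▸ hw
        exact (Subgroup.mem_centralizer_iff.mp (hDA hw') a haA).symm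
      rw [hK] at haK
      exact ha1 (Subgroup.mem_bot.mp haK)
  have hWc : Nat.card W = p ^ 2 := by
    rw [hWeq, ffp_card_sup_of_disjoint D D' (fun y hy z hz => hc y (hDV hy) z (hD'V hz)) hDD',
      hD, hD'c, sq]
  -- the action of `L` on `W`
  have hcW : ∀ y z : ↥W, y * z = z * y := fun y z => Subtype.ext (hc _ (hWV y.2) _ (hWV z.2))
  have hWexp : ∀ y : ↥W, y ^ p = 1 := fun y => Subtype.ext (by
    rw [Subgroup.coe_pow, Subgroup.coe_one]
    exact hexp _ (hWV y.2))
  let φ : ↥L →* MulAut ↥W := (Subgroup.normalizerMonoidHom W).comp (Subgroup.inclusion hLW)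
  have hφ_apply : ∀ (g : ↥L) (w : ↥W), ((φ g w : ↥W) : G) = g * w * (g : G)⁻¹ := fun g w => rfl
  have hφinj : Function.Injective φ := by
    rw [injective_iff_map_eq_one]
    intro g hg
    have hgK : (g : G) ∈ K := by
      refine ⟨g.2, ?_⟩
      show (g : G) ∈ Subgroup.centralizer (W : Set G)
      rw [Subgroup.mem_centralizer_iff]
      intro w hw
      have h1 : ((φ g ⟨w, hw⟩ : ↥W) : G) = w := by rw [hg]; rfl
      rw [hφ_apply] at h1
      calc w * (g : G) = ((g : G) * w * (g : G)⁻¹) * g := by rw [h1]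
        _ = g * w := by group
    rw [hK] at hgK
    exact Subtype.ext (Subgroup.mem_bot.mp hgK)
  have hBz : B = Subgroup.zpowers b := by
    rw [hBdef, hAz, MonoidHom.map_zpowers]
    rfl
  let a' : ↥L := ⟨a, Subgroup.mem_sup_left haA⟩
  let b' : ↥L := ⟨b, Subgroup.mem_sup_right hbB⟩
  have hgen : Subgroup.closure ({a', b'} : Set ↥L) = ⊤ := by
    rw [eq_top_iff]
    have h1 : L ≤ (Subgroup.closure ({a', b'} : Set ↥L)).map L.subtype := by
      apply sup_le
      · rw [hAz, Subgroup.zpowers_le]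
        exact ⟨a', Subgroup.subset_closure (by simp), rfl⟩
      · rw [hBz, Subgroup.zpowers_le]
        exact ⟨b', Subgroup.subset_closure (by simp), rfl⟩
    intro g _
    obtain ⟨g', hg', e⟩ := h1 g.2
    have : g' = g := Subtype.ext e
    rwa [this] at hg'
  -- the basis
  obtain ⟨d, hdD, hd1⟩ : ∃ d ∈ D, d ≠ 1 := by
    by_contra hcon
    push Not at hcon
    have h0 : D = ⊥ := (Subgroup.eq_bot_iff_forall D).mpr hcon
    rw [h0, Subgroup.card_bot] at hD
    exact hp.one_lt.ne hD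
  have hDz : D = Subgroup.zpowers d := by
    rcases ffp_eq_bot_or_eq_of_card_prime hp hD ((Subgroup.zpowers_le).mpr hdD) with h | h
    · exfalso
      apply hd1
      have := Subgroup.mem_zpowers d
      rw [h] at this
      exact Subgroup.mem_bot.mp this
    · exact h.symm
  set d' : G := x * d * x⁻¹ with hd'def
  have hd'D' : d' ∈ D' := by
    rw [hD'conj]
    exact ⟨d, hdD, rfl⟩
  have hD'z : D' = Subgroup.zpowers d' := by
    rw [hD'conj, hDz, MonoidHom.map_zpowers]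
    rfl
  have hd'1 : d' ≠ 1 := by
    intro h
    apply hd1
    calc d = x⁻¹ * (x * d * x⁻¹) * x := by group
      _ = 1 := by rw [← hd'def, h]; group
  let d₁ : ↥W := ⟨d, hDW hdD⟩
  let d₂ : ↥W := ⟨d', hD'W hd'D'⟩
  have hd₁ : d₁ ≠ 1 := fun h => hd1 (congrArg Subtype.val h)
  have hd₂ : d₂ ∉ Subgroup.zpowers d₁ := by
    intro h
    obtain ⟨k, hk⟩ := Subgroup.mem_zpowers_iff.mp h
    have hk' : d ^ k = d' := by
      have := congrArg Subtype.val hk
      rwa [Subgroup.coe_zpow] at this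
    have h1 : d' ∈ D ⊓ D' := ⟨hk' ▸ D.zpow_mem hdD k, hd'D'⟩
    rw [hDD'] at h1
    exact hd'1 (Subgroup.mem_bot.mp h1)
  -- lifting memberships in `D`, `D'` to `zpowers` in `W`
  have hliftD : ∀ w : ↥W, (w : G) ∈ D → w ∈ Subgroup.zpowers d₁ := by
    intro w hw
    rw [hDz] at hw
    obtain ⟨k, hk⟩ := Subgroup.mem_zpowers_iff.mp hw
    exact Subgroup.mem_zpowers_iff.mpr ⟨k, Subtype.ext (by rw [Subgroup.coe_zpow]; exact hk)⟩
  have hliftD' : ∀ w : ↥W, (w : G) ∈ D' → w ∈ Subgroup.zpowers d₂ := by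
    intro w hw
    rw [hD'z] at hw
    obtain ⟨k, hk⟩ := Subgroup.mem_zpowers_iff.mp hw
    exact Subgroup.mem_zpowers_iff.mpr ⟨k, Subtype.ext (by rw [Subgroup.coe_zpow]; exact hk)⟩
  have ha1' : φ a' d₁ = d₁ := by
    apply Subtype.ext
    rw [hφ_apply]
    show a * d * a⁻¹ = d
    have e := Subgroup.mem_centralizer_iff.mp (hDA hdD) a haA
    rw [e]
    group
  have hb2' : φ b' d₂ = d₂ := by
    apply Subtype.ext
    rw [hφ_apply]
    show b * d' * b⁻¹ = d'
    have e := Subgroup.mem_centralizer_iff.mp (hD'B hd'D') b hbB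
    rw [e]
    group
  have ha2' : φ a' d₂ / d₂ ∈ Subgroup.zpowers d₁ := by
    apply hliftD
    rw [div_eq_mul_inv]
    show a * d' * a⁻¹ * d'⁻¹ ∈ D
    have h2 : ⁅d', a⁆ ∈ D := Subgroup.commutator_mem_commutator (hD'V hd'D') haA
    have e : a * d' * a⁻¹ * d'⁻¹ = ⁅d', a⁆⁻¹ := by rw [commutatorElement_def]; group
    rw [e]
    exact D.inv_mem h2
  have hb1' : φ b' d₁ / d₁ ∈ Subgroup.zpowers d₂ := by
    apply hliftD'
    rw [div_eq_mul_inv]
    show b * d * b⁻¹ * d⁻¹ ∈ D'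
    have h2 : ⁅d, b⁆ ∈ D' := Subgroup.commutator_mem_commutator (hDV hdD) hbB
    have e : b * d * b⁻¹ * d⁻¹ = ⁅d, b⁆⁻¹ := by rw [commutatorElement_def]; group
    rw [e]
    exact D'.inv_mem h2
  -- an element of `L` commuting with `d` and `d'` is trivial
  have htriv : ∀ g ∈ L, g * d = d * g → g * d' = d' * g → g = 1 := by
    intro g hg h1 h2
    have hgK : g ∈ K := by
      refine ⟨hg, ?_⟩
      show g ∈ Subgroup.centralizer (W : Set G)
      have hle : W ≤ Subgroup.centralizer ({g} : Set G) := by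
        rw [hWeq, hDz, hD'z]
        apply sup_le
        · rw [Subgroup.zpowers_le, Subgroup.mem_centralizer_iff]
          intro y hy
          rw [Set.mem_singleton_iff.mp hy]
          exact h1
        · rw [Subgroup.zpowers_le, Subgroup.mem_centralizer_iff]
          intro y hy
          rw [Set.mem_singleton_iff.mp hy]
          exact h2
      rw [Subgroup.mem_centralizer_iff]
      intro w hw
      exact (Subgroup.mem_centralizer_iff.mp (hle hw) g rfl).symm
    rw [hK] at hgK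
    exact Subgroup.mem_bot.mp hgK
  have hb1ne : b ≠ 1 := by
    intro h
    apply ha1
    calc a = x⁻¹ * (x * a * x⁻¹) * x := by group
      _ = 1 := by rw [← hbdef, h]; group
  have ha3' : φ a' d₂ ≠ d₂ := by
    intro h
    have h1 : a * d' * a⁻¹ = d' := by
      have := congrArg Subtype.val h
      rwa [hφ_apply] at this
    apply ha1
    apply htriv a (Subgroup.mem_sup_left haA)
    · exact Subgroup.mem_centralizer_iff.mp (hDA hdD) a haA
    · calc a * d' = (a * d' * a⁻¹) * a := by group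
        _ = d' * a := by rw [h1]
  have hb3' : φ b' d₁ ≠ d₁ := by
    intro h
    have h1 : b * d * b⁻¹ = d := by
      have := congrArg Subtype.val h
      rwa [hφ_apply] at this
    apply hb1ne
    apply htriv b (Subgroup.mem_sup_right hbB)
    · calc b * d = (b * d * b⁻¹) * b := by group
        _ = d * b := by rw [h1]
    · exact Subgroup.mem_centralizer_iff.mp (hD'B hd'D') b hbB
  have hiso : Nonempty (↥L ≃* Matrix.SpecialLinearGroup (Fin 2) (ZMod p)) :=
    sl2gen_of_transvection_pair hcW hWexp hWc φ hφinj a' b' hgen d₁ d₂ hd₁ hd₂ ha1' ha2' ha3'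
      hb2' hb1' hb3'
  -- `p ≤ 3`
  have hp23 : p = 2 ∨ p = 3 := by
    by_contra hcon
    push Not at hcon
    have h4 : p ≠ 4 := by
      rintro rfl
      exact absurd hp (by norm_num)
    have h5 : 5 ≤ p := by
      have := hp.two_le
      omega
    obtain ⟨X, Y, hne, hpow⟩ := sl2gen_commutator_order_p (p := p) h5
    obtain ⟨e⟩ := hiso
    set g : ↥L := e.symm X with hg
    set h : ↥L := e.symm Y with hh
    have hcQ : ((g * h * g⁻¹ * h⁻¹ : ↥L) : G) ∈ Q := by
      have h1 : ⁅(g : G), (h : G)⁆ ∈ Q :=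
        ffp_commutator_mem_of_sup A Q hAQ hAcomm (hLT g.2) (hLT h.2)
      rw [commutatorElement_def] at h1
      exact h1
    have he : e (g * h * g⁻¹ * h⁻¹) = X * Y * X⁻¹ * Y⁻¹ := by
      rw [map_mul, map_mul, map_mul, map_inv, map_inv, hg, hh, e.apply_symm_apply,
        e.apply_symm_apply]
    have hcp : (g * h * g⁻¹ * h⁻¹ : ↥L) ^ p = 1 := by
      apply e.injective
      rw [map_pow, he, hpow, map_one]
    have hcp' : ((g * h * g⁻¹ * h⁻¹ : ↥L) : G) ^ p = 1 := by
      rw [← Subgroup.coe_pow, hcp, Subgroup.coe_one]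
    have h1 := hQ1 _ hcQ hcp'
    have h2 : (g * h * g⁻¹ * h⁻¹ : ↥L) = 1 := Subtype.ext h1
    apply hne
    rw [← he, h2, map_one]
  exact ⟨hp23, hWc, hK, hiso, hWeq, hDD'⟩

end Cfsg.Agent.Helper10
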