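import Mathlib
import Cfsg.Agent.Helper10.FFPair

/-!
Helper10: the pair of a minimal offender `A` of order `p` and a conjugate `A ^ x`, continued:
all conjugates of `A` under the normal `p'`-subgroup `Q` lie in `L = ⟨A, A ^ x⟩`, hence
`⁅Q, A⁆ A = L` (Kurzweil–Stellmacher 9.3).
-/

set_option autoImplicit false

namespace Cfsg.Agent.Helper10

open scoped commutatorElement Pointwise

/-- In a `p'`-group an element with trivial `p`-th power is trivial. -/
theorem ffp_eq_one_of_pow_p {G : Type*} [Group G] [Finite G] {p : ℕ} [Fact p.Prime]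
    (Q : Subgroup G) (hQp : ¬ p ∣ Nat.card Q) {q : G} (hq : q ∈ Q) (hqp : q ^ p = 1) : q = 1 := by
  have hp : p.Prime := Fact.out
  have h3 : orderOf q ∣ p := orderOf_dvd_of_pow_eq_one hqp
  have h4 : orderOf q ∣ Nat.card Q := by
    have := orderOf_dvd_natCard (⟨q, hq⟩ : ↥Q)
    rwa [Subgroup.orderOf_mk] at this
  rcases (Nat.dvd_prime hp).mp h3 with h | h
  · exact orderOf_eq_one_iff.mp h
  · exact absurd (h ▸ h4) hQp

/-- Elements of a subgroup of order `p` have trivial `p`-th power. -/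
theorem ffp_pow_p_of_card {G : Type*} [Group G] {p : ℕ} (A : Subgroup G) (hAc : Nat.card A = p)
    {y : G} (hy : y ∈ A) : y ^ p = 1 := by
  have h1 : (⟨y, hy⟩ : ↥A) ^ Nat.card A = 1 := pow_card_eq_one'
  rw [hAc] at h1
  exact congrArg Subtype.val h1

/-- A subgroup of prime order is generated by each of its nontrivial elements. -/
theorem ffp_eq_zpowers_of_card_prime {G : Type*} [Group G] [Finite G] {p : ℕ} (hp : p.Prime)
    {A : Subgroup G} (hAc : Nat.card A = p) {a : G} (ha : a ∈ A) (ha1 : a ≠ 1) :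
    A = Subgroup.zpowers a := by
  rcases ffp_eq_bot_or_eq_of_card_prime hp hAc ((Subgroup.zpowers_le).mpr ha) with h | h
  · exfalso
    apply ha1
    have := Subgroup.mem_zpowers a
    rw [h] at this
    exact Subgroup.mem_bot.mp this
  · exact h.symm

/-- A subgroup of prime order has a nontrivial element. -/
theorem ffp_exists_ne_one_of_card_prime {G : Type*} [Group G] {p : ℕ} (hp : p.Prime)
    {A : Subgroup G} (hAc : Nat.card A = p) : ∃ a ∈ A, a ≠ 1 := by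
  by_contra hcon
  push Not at hcon
  have : A = ⊥ := (Subgroup.eq_bot_iff_forall A).mpr hcon
  rw [this, Subgroup.card_bot] at hAc
  exact hp.one_lt.ne hAc

/-- A group `A` of order `p` centralizes `⁅V, A⁆` when the latter has order `p`. -/
theorem ffp_commutator_le_centralizer {G : Type*} [Group G] [Finite G] {p : ℕ} [Fact p.Prime]
    (V A : Subgroup G) (hV : Cfsg.IsElementaryAbelian p V)
    (hAV : A ≤ Subgroup.normalizer (V : Set G)) (hAc : Nat.card A = p)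
    (hD : Nat.card ↥(⁅V, A⁆) = p) : ⁅V, A⁆ ≤ Subgroup.centralizer (A : Set G) := by
  have hp : p.Prime := Fact.out
  have hAp : IsPGroup p A := IsPGroup.of_card (n := 1) (by rw [hAc, pow_one])
  have hVp : IsPGroup p V := elemAb_isPGroup hV
  have hDV : ⁅V, A⁆ ≤ V := commutator_le_of_le_normalizer V A hAV
  have hDDA : ⁅⁅V, A⁆, A⁆ ≤ ⁅V, A⁆ := by
    apply commutator_le_of_le_normalizer ⁅V, A⁆ A
    intro g hg
    exact ffp_mem_normalizer_commutator V A (hAV hg) (Subgroup.le_normalizer hg)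
  rcases ffp_eq_bot_or_eq_of_card_prime hp hD hDDA with h | h
  · exact (Subgroup.commutator_eq_bot_iff_le_centralizer).mp h
  · exfalso
    have h0 := eq_bot_of_le_commutator_of_pgroup V A ⁅V, A⁆ hVp hAp hAV hDV (le_of_eq h.symm)
    rw [h0, Subgroup.card_bot] at hD
    exact hp.one_lt.ne hD

/-- `⁅V, A ^ x⁆ = ⁅V, A⁆ ^ x` for `x` normalizing `V`. -/
theorem ffp_commutator_map_conj {G : Type*} [Group G] (V A : Subgroup G) {x : G}
    (hx : x ∈ Subgroup.normalizer (V : Set G)) :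
    ⁅V, A.map (MulAut.conj x).toMonoidHom⁆ = (⁅V, A⁆).map (MulAut.conj x).toMonoidHom := by
  rw [Subgroup.map_commutator]
  have : V.map (MulAut.conj x).toMonoidHom = V := conj_smul_eq_of_mem_normalizer hx
  rw [this]

theorem ffp_card_map_conj {G : Type*} [Group G] (A : Subgroup G) (x : G) :
    Nat.card ↥(A.map (MulAut.conj x).toMonoidHom) = Nat.card A :=
  Subgroup.card_map_of_injective (MulAut.conj x).injective

theorem ffp_mem_map_conj {G : Type*} [Group G] (A : Subgroup G) (x : G) {a : G} (ha : a ∈ A) :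
    x * a * x⁻¹ ∈ A.map (MulAut.conj x).toMonoidHom := ⟨a, ha, rfl⟩

/-- An element of the `p'`-group `Q` normalizing `A` (of order `p`, normalizing `Q`)
centralizes `A`. -/
theorem ffp_mem_centralizer_of_map_conj_le {G : Type*} [Group G] [Finite G] {p : ℕ}
    [Fact p.Prime] (Q A : Subgroup G) (hAQ : A ≤ Subgroup.normalizer (Q : Set G))
    (hQp : ¬ p ∣ Nat.card Q) (hAc : Nat.card A = p) {x : G} (hx : x ∈ Q)
    (h : A.map (MulAut.conj x).toMonoidHom ≤ A) : x ∈ Subgroup.centralizer (A : Set G) := by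
  rw [Subgroup.mem_centralizer_iff]
  intro a' ha'
  have h1 : x * a' * x⁻¹ * a'⁻¹ ∈ A := A.mul_mem (h (ffp_mem_map_conj A x ha')) (A.inv_mem ha')
  have h2 : x * a' * x⁻¹ * a'⁻¹ ∈ Q := by
    have h3 : a' * x⁻¹ * a'⁻¹ ∈ Q :=
      (Subgroup.mem_normalizer_iff.mp (hAQ ha') _).mp (Q.inv_mem hx)
    have e : x * a' * x⁻¹ * a'⁻¹ = x * (a' * x⁻¹ * a'⁻¹) := by group
    rw [e]
    exact Q.mul_mem hx h3
  have h3 := ffp_eq_one_of_pow_p Q hQp h2 (ffp_pow_p_of_card A hAc h1)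
  calc a' * x = (x * a' * x⁻¹ * a'⁻¹)⁻¹ * (x * a') := by group
    _ = x * a' := by rw [h3, inv_one, one_mul]

/-- An element centralizing `A` fixes `A` under conjugation. -/
theorem ffp_map_conj_eq_of_mem_centralizer {G : Type*} [Group G] (A : Subgroup G) {x : G}
    (hx : x ∈ Subgroup.centralizer (A : Set G)) : A.map (MulAut.conj x).toMonoidHom = A := by
  have key : ∀ a ∈ A, x * a * x⁻¹ = a := by
    intro a ha
    have e := Subgroup.mem_centralizer_iff.mp hx a ha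
    calc x * a * x⁻¹ = (a * x) * x⁻¹ := by rw [e]
      _ = a := by group
  ext y
  constructor
  · rintro ⟨a, ha, rfl⟩
    show x * a * x⁻¹ ∈ A
    rw [key a ha]
    exact ha
  · intro hy
    exact ⟨y, hy, key y hy⟩

/-- In the situation of `ffp_pair_sl2`, neither of `A`, `A ^ x` centralizes the commutator
of the other. -/
theorem ffp_star {G : Type*} [Group G] [Finite G] {p : ℕ} [Fact p.Prime]
    (V H Q A : Subgroup G) (hV : Cfsg.IsElementaryAbelian p V)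
    (hHV : H ≤ Subgroup.normalizer (V : Set G))
    (hf : H ⊓ Subgroup.centralizer (V : Set G) = ⊥)
    (hQH : Q ≤ H) (hHQ : H ≤ Subgroup.normalizer (Q : Set G)) (hQp : ¬ p ∣ Nat.card Q)
    (hAH : A ≤ H) (hAc : Nat.card A = p) (hD : Nat.card ↥(⁅V, A⁆) = p)
    (x : G) (hx : x ∈ Q) (hxA : x ∉ Subgroup.centralizer (A : Set G)) :
    ¬ (⁅V, A⁆ ≤ Subgroup.centralizer ((A.map (MulAut.conj x).toMonoidHom : Subgroup G) : Set G))
    ∧ ¬ (⁅V, A.map (MulAut.conj x).toMonoidHom⁆ ≤ Subgroup.centralizer (A : Set G)) := by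
  have hp : p.Prime := Fact.out
  obtain ⟨-, -, hK, -, hWeq, -⟩ :=
    ffp_pair_sl2 V H Q A hV hHV hf hQH hHQ hQp hAH hAc hD x hx hxA
  have hxH : x ∈ H := hQH hx
  have hAV : A ≤ Subgroup.normalizer (V : Set G) := hAH.trans hHV
  have hBH : A.map (MulAut.conj x).toMonoidHom ≤ H := by
    rintro _ ⟨a, ha, rfl⟩
    show x * a * x⁻¹ ∈ H
    exact H.mul_mem (H.mul_mem hxH (hAH ha)) (H.inv_mem hxH)
  have hBc : Nat.card ↥(A.map (MulAut.conj x).toMonoidHom) = p := by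
    rw [ffp_card_map_conj]; exact hAc
  have hD'c : Nat.card ↥(⁅V, A.map (MulAut.conj x).toMonoidHom⁆) = p := by
    rw [ffp_commutator_map_conj V A (hHV hxH), ffp_card_map_conj]; exact hD
  have hDA := ffp_commutator_le_centralizer V A hV hAV hAc hD
  have hD'B := ffp_commutator_le_centralizer V _ hV (hBH.trans hHV) hBc hD'c
  constructor
  · intro h
    have h1 : ⁅V, A ⊔ A.map (MulAut.conj x).toMonoidHom⁆ ≤
        Subgroup.centralizer ((A.map (MulAut.conj x).toMonoidHom : Subgroup G) : Set G) := by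
      rw [hWeq]
      exact sup_le h hD'B
    have h2 : A.map (MulAut.conj x).toMonoidHom ≤ ⊥ := by
      rw [← hK]
      exact le_inf le_sup_right (Subgroup.le_centralizer_iff.mp h1)
    rw [le_bot_iff] at h2
    rw [h2, Subgroup.card_bot] at hBc
    exact hp.one_lt.ne hBc
  · intro h
    have h1 : ⁅V, A ⊔ A.map (MulAut.conj x).toMonoidHom⁆ ≤
        Subgroup.centralizer (A : Set G) := by
      rw [hWeq]
      exact sup_le hDA h
    have h2 : A ≤ ⊥ := by
      rw [← hK]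
      exact le_inf le_sup_left (Subgroup.le_centralizer_iff.mp h1)
    rw [le_bot_iff] at h2
    rw [h2, Subgroup.card_bot] at hAc
    exact hp.one_lt.ne hAc

/-- In the situation of `ffp_pair_sl2`, every element of `W = ⁅V, L⁆` outside `⁅V, A⁆` is
conjugate under `A` to an element of `⁅V, A ^ x⁆`. -/
theorem ffp_line_conj {G : Type*} [Group G] [Finite G] {p : ℕ} [Fact p.Prime]
    (V H Q A : Subgroup G) (hV : Cfsg.IsElementaryAbelian p V)
    (hHV : H ≤ Subgroup.normalizer (V : Set G))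
    (hf : H ⊓ Subgroup.centralizer (V : Set G) = ⊥)
    (hQH : Q ≤ H) (hHQ : H ≤ Subgroup.normalizer (Q : Set G)) (hQp : ¬ p ∣ Nat.card Q)
    (hAH : A ≤ H) (hAc : Nat.card A = p) (hD : Nat.card ↥(⁅V, A⁆) = p)
    (x : G) (hx : x ∈ Q) (hxA : x ∉ Subgroup.centralizer (A : Set G))
    {w : G} (hw : w ∈ ⁅V, A ⊔ A.map (MulAut.conj x).toMonoidHom⁆) (hwD : w ∉ ⁅V, A⁆) :
    ∃ g ∈ A, g * w * g⁻¹ ∈ ⁅V, A.map (MulAut.conj x).toMonoidHom⁆ := by
  have hp : p.Prime := Fact.out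
  obtain ⟨hc, hexp⟩ := (elemAb_iff p V).mp hV
  obtain ⟨-, -, hK, -, hWeq, -⟩ :=
    ffp_pair_sl2 V H Q A hV hHV hf hQH hHQ hQp hAH hAc hD x hx hxA
  obtain ⟨-, hstar⟩ := ffp_star V H Q A hV hHV hf hQH hHQ hQp hAH hAc hD x hx hxA
  have hxH : x ∈ H := hQH hx
  have hAV : A ≤ Subgroup.normalizer (V : Set G) := hAH.trans hHV
  have hBH : A.map (MulAut.conj x).toMonoidHom ≤ H := by
    rintro _ ⟨a, ha, rfl⟩
    show x * a * x⁻¹ ∈ H
    exact H.mul_mem (H.mul_mem hxH (hAH ha)) (H.inv_mem hxH)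
  have hD'c : Nat.card ↥(⁅V, A.map (MulAut.conj x).toMonoidHom⁆) = p := by
    rw [ffp_commutator_map_conj V A (hHV hxH), ffp_card_map_conj]; exact hD
  have hDA := ffp_commutator_le_centralizer V A hV hAV hAc hD
  have hDV : ⁅V, A⁆ ≤ V := commutator_le_of_le_normalizer V A hAV
  have hD'V : ⁅V, A.map (MulAut.conj x).toMonoidHom⁆ ≤ V :=
    commutator_le_of_le_normalizer V _ (hBH.trans hHV)
  rw [hWeq] at hw
  obtain ⟨δ, hδ, δ', hδ', rfl⟩ :=
    mem_sup_of_commute' (fun y hy z hz => hc y (hDV hy) z (hD'V hz)) hw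
  have hδ'1 : δ' ≠ 1 := by
    rintro rfl
    rw [mul_one] at hwD
    exact hwD hδ
  obtain ⟨a, haA, ha1⟩ := ffp_exists_ne_one_of_card_prime hp hAc
  have hAz := ffp_eq_zpowers_of_card_prime hp hAc haA ha1
  have hwV : δ * δ' ∈ V := V.mul_mem (hDV hδ) (hD'V hδ')
  set u : G := a * (δ * δ') * a⁻¹ * (δ * δ')⁻¹ with hu
  have huD : u ∈ ⁅V, A⁆ := by
    have h2 : ⁅δ * δ', a⁆ ∈ ⁅V, A⁆ := Subgroup.commutator_mem_commutator hwV haA
    have e : u = ⁅δ * δ', a⁆⁻¹ := by rw [hu, commutatorElement_def]; group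
    rw [e]
    exact Subgroup.inv_mem _ h2
  have haδ : a * δ = δ * a := Subgroup.mem_centralizer_iff.mp (hDA hδ) a haA
  have hu1 : u ≠ 1 := by
    intro h1
    apply hstar
    rw [ffp_eq_zpowers_of_card_prime hp hD'c hδ' hδ'1, hAz, Subgroup.zpowers_le]
    have hcomm : a * (δ * δ') = (δ * δ') * a := by
      calc a * (δ * δ') = (a * (δ * δ') * a⁻¹ * (δ * δ')⁻¹) * ((δ * δ') * a) := by group
        _ = (δ * δ') * a := by rw [← hu, h1, one_mul]
    have hcomm' : a * δ' = δ' * a := by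
      have e1 : a * (δ * δ') = δ * (a * δ') := by rw [← mul_assoc, haδ, mul_assoc]
      rw [e1, mul_assoc] at hcomm
      exact mul_left_cancel hcomm
    rw [Subgroup.mem_centralizer_iff]
    intro y hy
    obtain ⟨j, rfl⟩ := Subgroup.mem_zpowers_iff.mp hy
    exact (Commute.zpow_left (show Commute a δ' from hcomm') j).eq
  have hau : a * u * a⁻¹ = u := by
    have e := Subgroup.mem_centralizer_iff.mp (hDA huD) a haA
    rw [e]
    group
  have hpow := ffp_conj_pow a (δ * δ') hau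
  have hDz := ffp_eq_zpowers_of_card_prime hp hD huD hu1
  have hδu : δ⁻¹ ∈ Subgroup.zpowers u := by
    rw [← hDz]
    exact Subgroup.inv_mem _ hδ
  obtain ⟨n, hn⟩ := (Submonoid.mem_powers_iff _ _).mp (mem_powers_iff_mem_zpowers.mpr hδu)
  refine ⟨a ^ n, A.pow_mem haA n, ?_⟩
  rw [hpow n, hn, inv_mul_cancel_left]
  exact hδ'

/-- In the situation of `ffp_pair_sl2`, every conjugate of `A` under `Q` lies in
`L = ⟨A, A ^ x⟩`. -/
theorem ffp_conj_le {G : Type*} [Group G] [Finite G] {p : ℕ} [Fact p.Prime]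
    (V H Q A : Subgroup G) (hV : Cfsg.IsElementaryAbelian p V)
    (hHV : H ≤ Subgroup.normalizer (V : Set G))
    (hf : H ⊓ Subgroup.centralizer (V : Set G) = ⊥)
    (hQH : Q ≤ H) (hHQ : H ≤ Subgroup.normalizer (Q : Set G)) (hQp : ¬ p ∣ Nat.card Q)
    (hAH : A ≤ H) (hAc : Nat.card A = p) (hD : Nat.card ↥(⁅V, A⁆) = p)
    (x : G) (hx : x ∈ Q) (hxA : x ∉ Subgroup.centralizer (A : Set G))
    (z : G) (hz : z ∈ Q) :
    A.map (MulAut.conj z).toMonoidHom ≤ A ⊔ A.map (MulAut.conj x).toMonoidHom := by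
  have hp : p.Prime := Fact.out
  obtain ⟨-, hWc, -, -, -, -⟩ :=
    ffp_pair_sl2 V H Q A hV hHV hf hQH hHQ hQp hAH hAc hD x hx hxA
  set B : Subgroup G := A.map (MulAut.conj x).toMonoidHom with hB
  set L : Subgroup G := A ⊔ B with hL
  set W : Subgroup G := ⁅V, L⁆ with hW
  have hxH : x ∈ H := hQH hx
  have hzH : z ∈ H := hQH hz
  have hAV : A ≤ Subgroup.normalizer (V : Set G) := hAH.trans hHV
  have hAQ : A ≤ Subgroup.normalizer (Q : Set G) := hAH.trans hHQ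
  have hconjH : ∀ t ∈ H, A.map (MulAut.conj t).toMonoidHom ≤ H := by
    rintro t ht _ ⟨a, ha, rfl⟩
    show t * a * t⁻¹ ∈ H
    exact H.mul_mem (H.mul_mem ht (hAH ha)) (H.inv_mem ht)
  have hBH : B ≤ H := hconjH x hxH
  have hBc : Nat.card ↥B = p := by rw [hB, ffp_card_map_conj]; exact hAc
  have hD'c : Nat.card ↥(⁅V, B⁆) = p := by
    rw [hB, ffp_commutator_map_conj V A (hHV hxH), ffp_card_map_conj]; exact hD
  set A₃ : Subgroup G := A.map (MulAut.conj z).toMonoidHom with hA₃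
  have hA₃H : A₃ ≤ H := hconjH z hzH
  have hD₃c : Nat.card ↥(⁅V, A₃⁆) = p := by
    rw [hA₃, ffp_commutator_map_conj V A (hHV hzH), ffp_card_map_conj]; exact hD
  obtain ⟨a, haA, ha1⟩ := ffp_exists_ne_one_of_card_prime hp hAc
  have hAz := ffp_eq_zpowers_of_card_prime hp hAc haA ha1
  set a₃ : G := z * a * z⁻¹ with ha₃def
  have ha₃ : a₃ ∈ A₃ := ffp_mem_map_conj A z haA
  have hLV : L ≤ Subgroup.normalizer (V : Set G) := (sup_le hAH hBH).trans hHV
  have hWV : W ≤ V := commutator_le_of_le_normalizer V L hLV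
  -- pigeonhole: a nontrivial element of `W` centralizing `a₃`
  let f : ↥W → ↥(⁅V, A₃⁆) := fun w =>
    ⟨⁅(w : G), a₃⁆, Subgroup.commutator_mem_commutator (hWV w.2) ha₃⟩
  have hlt : Nat.card ↥(⁅V, A₃⁆) < Nat.card ↥W := by
    rw [hD₃c, hWc]
    nlinarith [hp.one_lt]
  obtain ⟨w₁, w₂, hne, heq⟩ : ∃ w₁ w₂ : ↥W, w₁ ≠ w₂ ∧ f w₁ = f w₂ := by
    by_contra hcon
    push Not at hcon
    have hinj : Function.Injective f := fun u v huv => by
      by_contra hne
      exact hcon u v hne huv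
    have := Nat.card_le_card_of_injective f hinj
    omega
  have heq' : ⁅(w₁ : G), a₃⁆ = ⁅(w₂ : G), a₃⁆ := congrArg Subtype.val heq
  set w : G := (w₂ : G)⁻¹ * w₁ with hw
  have hwW : w ∈ W := W.mul_mem (W.inv_mem w₂.2) w₁.2
  have hw1 : w ≠ 1 := by
    intro h
    apply hne
    apply Subtype.ext
    calc (w₁ : G) = w₂ * ((w₂ : G)⁻¹ * w₁) := by group
      _ = w₂ := by rw [← hw, h, mul_one]
  have hwa : w * a₃ = a₃ * w := by
    rw [commutatorElement_def, commutatorElement_def] at heq'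
    have h1 : (w₁ : G) * a₃ * (w₁ : G)⁻¹ = w₂ * a₃ * (w₂ : G)⁻¹ := mul_right_cancel heq'
    calc w * a₃ = (w₂ : G)⁻¹ * ((w₁ : G) * a₃ * (w₁ : G)⁻¹) * w₁ := by rw [hw]; group
      _ = (w₂ : G)⁻¹ * ((w₂ : G) * a₃ * (w₂ : G)⁻¹) * w₁ := by rw [h1]
      _ = a₃ * w := by rw [hw]; group
  have hwA₃ : ∀ a' ∈ A, w * (z * a' * z⁻¹) = (z * a' * z⁻¹) * w := by
    intro a' ha'
    rw [hAz] at ha'
    obtain ⟨j, rfl⟩ := Subgroup.mem_zpowers_iff.mp ha'
    have e : z * a ^ j * z⁻¹ = a₃ ^ j := by rw [ha₃def, conj_zpow]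
    rw [e]
    exact (Commute.zpow_right (show Commute w a₃ from hwa) j).eq
  by_cases hwD : w ∈ ⁅V, A⁆
  · by_cases hzA : z ∈ Subgroup.centralizer (A : Set G)
    · rw [hA₃, ffp_map_conj_eq_of_mem_centralizer A hzA]
      exact le_sup_left
    · exfalso
      obtain ⟨hstar, -⟩ := ffp_star V H Q A hV hHV hf hQH hHQ hQp hAH hAc hD z hz hzA
      apply hstar
      rw [ffp_eq_zpowers_of_card_prime hp hD hwD hw1, Subgroup.zpowers_le,
        Subgroup.mem_centralizer_iff]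
      rintro _ ⟨a', ha', rfl⟩
      exact (hwA₃ a' ha').symm
  · obtain ⟨g, hgA, hgw⟩ :=
      ffp_line_conj V H Q A hV hHV hf hQH hHQ hQp hAH hAc hD x hx hxA hwW hwD
    set w' : G := g * w * g⁻¹ with hw'
    have hw'1 : w' ≠ 1 := by
      intro h
      apply hw1
      calc w = g⁻¹ * (g * w * g⁻¹) * g := by group
        _ = 1 := by rw [← hw', h]; group
    set z'' : G := g * z * g⁻¹ with hz''
    have hz''Q : z'' ∈ Q := (Subgroup.mem_normalizer_iff.mp (hAQ hgA) z).mp hz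
    set y : G := z'' * x⁻¹ with hy
    have hyQ : y ∈ Q := Q.mul_mem hz''Q (Q.inv_mem hx)
    have hcen : ⁅V, B⁆ ≤ Subgroup.centralizer
        ((B.map (MulAut.conj y).toMonoidHom : Subgroup G) : Set G) := by
      rw [ffp_eq_zpowers_of_card_prime hp hD'c hgw hw'1, Subgroup.zpowers_le,
        Subgroup.mem_centralizer_iff]
      rintro _ ⟨_, ⟨a', ha', rfl⟩, rfl⟩
      show y * (x * a' * x⁻¹) * y⁻¹ * w' = w' * (y * (x * a' * x⁻¹) * y⁻¹)
      have ha'' : g⁻¹ * a' * g ∈ A := A.mul_mem (A.mul_mem (A.inv_mem hgA) ha') hgA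
      have e := hwA₃ _ ha''
      have e1 : y * (x * a' * x⁻¹) * y⁻¹ = g * (z * (g⁻¹ * a' * g) * z⁻¹) * g⁻¹ := by
        rw [hy, hz'']; group
      rw [e1, hw']
      calc g * (z * (g⁻¹ * a' * g) * z⁻¹) * g⁻¹ * (g * w * g⁻¹)
          = g * ((z * (g⁻¹ * a' * g) * z⁻¹) * w) * g⁻¹ := by group
        _ = g * (w * (z * (g⁻¹ * a' * g) * z⁻¹)) * g⁻¹ := by rw [e]
        _ = g * w * g⁻¹ * (g * (z * (g⁻¹ * a' * g) * z⁻¹) * g⁻¹) := by group
    have hyB : y ∈ Subgroup.centralizer (B : Set G) := by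
      by_contra hyB
      obtain ⟨hstar, -⟩ := ffp_star V H Q B hV hHV hf hQH hHQ hQp hBH hBc hD'c y hyQ hyB
      exact hstar hcen
    rintro _ ⟨a', ha', rfl⟩
    show z * a' * z⁻¹ ∈ L
    have ha'' : g * a' * g⁻¹ ∈ A := A.mul_mem (A.mul_mem hgA ha') (A.inv_mem hgA)
    have hb : x * (g * a' * g⁻¹) * x⁻¹ ∈ B := ffp_mem_map_conj A x ha''
    have e := Subgroup.mem_centralizer_iff.mp hyB _ hb
    have e1 : z * a' * z⁻¹ = g⁻¹ * (y * (x * (g * a' * g⁻¹) * x⁻¹) * y⁻¹) * g := by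
      rw [hy, hz'']; group
    have e2 : y * (x * (g * a' * g⁻¹) * x⁻¹) * y⁻¹ = x * (g * a' * g⁻¹) * x⁻¹ := by
      rw [← e]; group
    rw [e1, e2]
    exact L.mul_mem (L.mul_mem (L.inv_mem (Subgroup.mem_sup_left hgA))
      (Subgroup.mem_sup_right hb)) (Subgroup.mem_sup_left hgA)

/-- In the situation of `ffp_pair_sl2`: `⁅Q, A⁆ ≤ L ∩ Q`. -/
theorem ffp_commutator_Q_le {G : Type*} [Group G] [Finite G] {p : ℕ} [Fact p.Prime]
    (V H Q A : Subgroup G) (hV : Cfsg.IsElementaryAbelian p V)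
    (hHV : H ≤ Subgroup.normalizer (V : Set G))
    (hf : H ⊓ Subgroup.centralizer (V : Set G) = ⊥)
    (hQH : Q ≤ H) (hHQ : H ≤ Subgroup.normalizer (Q : Set G)) (hQp : ¬ p ∣ Nat.card Q)
    (hAH : A ≤ H) (hAc : Nat.card A = p) (hD : Nat.card ↥(⁅V, A⁆) = p)
    (x : G) (hx : x ∈ Q) (hxA : x ∉ Subgroup.centralizer (A : Set G)) :
    ⁅Q, A⁆ ≤ (A ⊔ A.map (MulAut.conj x).toMonoidHom) ⊓ Q := by
  rw [Subgroup.commutator_le]
  intro q hq a' ha'
  constructor
  · have h1 : q * a' * q⁻¹ ∈ A ⊔ A.map (MulAut.conj x).toMonoidHom :=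
      ffp_conj_le V H Q A hV hHV hf hQH hHQ hQp hAH hAc hD x hx hxA q hq
        (ffp_mem_map_conj A q ha')
    have e : ⁅q, a'⁆ = (q * a' * q⁻¹) * a'⁻¹ := by rw [commutatorElement_def]
    rw [e]
    exact Subgroup.mul_mem _ h1 (Subgroup.inv_mem _ (Subgroup.mem_sup_left ha'))
  · have h3 : a' * q⁻¹ * a'⁻¹ ∈ Q :=
      (Subgroup.mem_normalizer_iff.mp ((hAH.trans hHQ) ha') _).mp (Q.inv_mem hq)
    have e : ⁅q, a'⁆ = q * (a' * q⁻¹ * a'⁻¹) := by rw [commutatorElement_def]; group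
    rw [e]
    exact Q.mul_mem hq h3

/-- In the situation of `ffp_pair_sl2`: `⁅Q, A⁆ A = L`. -/
theorem ffp_commutator_Q_sup {G : Type*} [Group G] [Finite G] {p : ℕ} [Fact p.Prime]
    (V H Q A : Subgroup G) (hV : Cfsg.IsElementaryAbelian p V)
    (hHV : H ≤ Subgroup.normalizer (V : Set G))
    (hf : H ⊓ Subgroup.centralizer (V : Set G) = ⊥)
    (hQH : Q ≤ H) (hHQ : H ≤ Subgroup.normalizer (Q : Set G)) (hQp : ¬ p ∣ Nat.card Q)
    (hAH : A ≤ H) (hAc : Nat.card A = p) (hD : Nat.card ↥(⁅V, A⁆) = p)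
    (x : G) (hx : x ∈ Q) (hxA : x ∉ Subgroup.centralizer (A : Set G)) :
    ⁅Q, A⁆ ⊔ A = A ⊔ A.map (MulAut.conj x).toMonoidHom := by
  apply le_antisymm
  · exact sup_le ((ffp_commutator_Q_le V H Q A hV hHV hf hQH hHQ hQp hAH hAc hD x hx hxA).trans
      inf_le_left) le_sup_left
  · apply sup_le le_sup_right
    rintro _ ⟨a', ha', rfl⟩
    show x * a' * x⁻¹ ∈ ⁅Q, A⁆ ⊔ A
    have e : x * a' * x⁻¹ = ⁅x, a'⁆ * a' := by rw [commutatorElement_def]; group
    rw [e]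
    exact Subgroup.mul_mem _ (Subgroup.mem_sup_left (Subgroup.commutator_mem_commutator hx ha'))
      (Subgroup.mem_sup_right ha')

/-- `(a r) ^ n ∈ a ^ n Q` for `a` normalizing `Q` and `r ∈ Q`. -/
theorem ffp_mul_pow_mem {G : Type*} [Group G] (Q : Subgroup G) {a r : G}
    (ha : a ∈ Subgroup.normalizer (Q : Set G)) (hr : r ∈ Q) (n : ℕ) :
    (a ^ n)⁻¹ * (a * r) ^ n ∈ Q := by
  induction n with
  | zero => simp
  | succ n ih =>
    have h1 : a⁻¹ * ((a ^ n)⁻¹ * (a * r) ^ n) * a ∈ Q := by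
      have := (Subgroup.mem_normalizer_iff.mp (Subgroup.inv_mem _ ha) _).mp ih
      simpa using this
    have e : (a ^ (n + 1))⁻¹ * (a * r) ^ (n + 1) = a⁻¹ * ((a ^ n)⁻¹ * (a * r) ^ n) * a * r := by
      rw [pow_succ, pow_succ]; group
    rw [e]
    exact Q.mul_mem h1 hr

/-- Two non-commuting elements of order dividing `4` in `SL(2, 3)`. -/
theorem sl2gen_three_noncomm :
    ∃ I J : Cfsg.Agent.Helper24.SL2 (ZMod 3), I ^ 4 = 1 ∧ J ^ 4 = 1 ∧ I * J ≠ J * I := by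
  have hI : (0 : ZMod 3) * 0 - 1 * (-1) = 1 := by decide
  have hJ : (1 : ZMod 3) * (-1) - 1 * 1 = 1 := by decide
  have hN : (-1 : ZMod 3) * (-1) - 0 * 0 = 1 := by decide
  have hI2 : Cfsg.Agent.Helper24.mkSL2 0 1 (-1) 0 hI * Cfsg.Agent.Helper24.mkSL2 0 1 (-1) 0 hI =
      Cfsg.Agent.Helper24.mkSL2 (-1) 0 0 (-1) hN := by
    apply Cfsg.Agent.Helper24.sl2_ext <;> simp
  have hJ2 : Cfsg.Agent.Helper24.mkSL2 1 1 1 (-1) hJ * Cfsg.Agent.Helper24.mkSL2 1 1 1 (-1) hJ =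
      Cfsg.Agent.Helper24.mkSL2 (-1) 0 0 (-1) hN := by
    apply Cfsg.Agent.Helper24.sl2_ext <;> simp <;> decide
  have hN2 : Cfsg.Agent.Helper24.mkSL2 (-1) 0 0 (-1) hN *
      Cfsg.Agent.Helper24.mkSL2 (-1) 0 0 (-1) hN = 1 := by
    apply Cfsg.Agent.Helper24.sl2_ext <;> simp
  refine ⟨Cfsg.Agent.Helper24.mkSL2 0 1 (-1) 0 hI, Cfsg.Agent.Helper24.mkSL2 1 1 1 (-1) hJ,
    ?_, ?_, ?_⟩
  · rw [show 4 = 2 + 2 from rfl, pow_add, pow_two, hI2, hN2]
  · rw [show 4 = 2 + 2 from rfl, pow_add, pow_two, hJ2, hN2]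
  · intro h
    have := congrArg (fun m : Cfsg.Agent.Helper24.SL2 (ZMod 3) => m 0 0) h
    simp at this
    revert this
    decide

end Cfsg.Agent.Helper10
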