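import Mathlib
import Cfsg.Agent.Helper10.FFPair2
import Cfsg.Agent.S0611

/-!
Helper10: transvection subgroups ("T-subgroups": order `p` with commutator of order `p` on `V`)
in a faithful group `H` with a normal self-centralizing `p'`-subgroup `Q`
(Kurzweil–Stellmacher 9.3, towards the structure theorem for failure of factorization).

* `FFHyp.tsub_unique` : a T-subgroup is determined by its commutator `⁅V, A⁆`;
* `FFHyp.irred` : `L = ⟨A, A ^ x⟩` is irreducible on `W = ⁅V, L⁆`;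
* `FFHyp.dichotomy` : another T-subgroup lies in `L` or centralizes `L` and `W`.
-/

set_option autoImplicit false

namespace Cfsg.Agent.Helper10

open scoped commutatorElement Pointwise

/-- The standing hypothesis: `V` elementary abelian, `H ≤ N(V)` faithful, `Q` a normal
`p'`-subgroup of `H` such that no nontrivial element of order `p` of `H` centralizes `Q`. -/
structure FFHyp {G : Type*} [Group G] (p : ℕ) (V H Q : Subgroup G) : Prop where
  hV : Cfsg.IsElementaryAbelian p V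
  hHV : H ≤ Subgroup.normalizer (V : Set G)
  hf : H ⊓ Subgroup.centralizer (V : Set G) = ⊥
  hQH : Q ≤ H
  hHQ : H ≤ Subgroup.normalizer (Q : Set G)
  hQp : ¬ p ∣ Nat.card Q
  hfaith : ∀ x ∈ H, x ^ p = 1 → x ∈ Subgroup.centralizer (Q : Set G) → x = 1

/-- A T-subgroup: a subgroup of `H` of order `p` whose commutator with `V` has order `p`. -/
def IsTSub {G : Type*} [Group G] (p : ℕ) (V H A : Subgroup G) : Prop :=
  A ≤ H ∧ Nat.card A = p ∧ Nat.card ↥(⁅V, A⁆) = p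

section

variable {G : Type*} [Group G] [Finite G] {p : ℕ} [Fact p.Prime] {V H Q : Subgroup G}

theorem FFHyp.pair (h : FFHyp p V H Q) {A : Subgroup G} (hA : IsTSub p V H A) {x : G}
    (hx : x ∈ Q) (hxA : x ∉ Subgroup.centralizer (A : Set G)) :
    (p = 2 ∨ p = 3) ∧
    Nat.card ↥(⁅V, A ⊔ A.map (MulAut.conj x).toMonoidHom⁆) = p ^ 2 ∧
    (A ⊔ A.map (MulAut.conj x).toMonoidHom) ⊓ Subgroup.centralizer
      ((⁅V, A ⊔ A.map (MulAut.conj x).toMonoidHom⁆ : Subgroup G) : Set G) = ⊥ ∧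
    Nonempty (↥(A ⊔ A.map (MulAut.conj x).toMonoidHom) ≃*
      Matrix.SpecialLinearGroup (Fin 2) (ZMod p)) ∧
    ⁅V, A ⊔ A.map (MulAut.conj x).toMonoidHom⁆ =
      ⁅V, A⁆ ⊔ ⁅V, A.map (MulAut.conj x).toMonoidHom⁆ ∧
    ⁅V, A⁆ ⊓ ⁅V, A.map (MulAut.conj x).toMonoidHom⁆ = ⊥ :=
  ffp_pair_sl2 V H Q A h.hV h.hHV h.hf h.hQH h.hHQ h.hQp hA.1 hA.2.1 hA.2.2 x hx hxA

theorem FFHyp.star (h : FFHyp p V H Q) {A : Subgroup G} (hA : IsTSub p V H A) {x : G}
    (hx : x ∈ Q) (hxA : x ∉ Subgroup.centralizer (A : Set G)) :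
    ¬ (⁅V, A⁆ ≤ Subgroup.centralizer ((A.map (MulAut.conj x).toMonoidHom : Subgroup G) : Set G))
    ∧ ¬ (⁅V, A.map (MulAut.conj x).toMonoidHom⁆ ≤ Subgroup.centralizer (A : Set G)) :=
  ffp_star V H Q A h.hV h.hHV h.hf h.hQH h.hHQ h.hQp hA.1 hA.2.1 hA.2.2 x hx hxA

theorem FFHyp.line_conj (h : FFHyp p V H Q) {A : Subgroup G} (hA : IsTSub p V H A) {x : G}
    (hx : x ∈ Q) (hxA : x ∉ Subgroup.centralizer (A : Set G)) {w : G}
    (hw : w ∈ ⁅V, A ⊔ A.map (MulAut.conj x).toMonoidHom⁆) (hwD : w ∉ ⁅V, A⁆) :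
    ∃ g ∈ A, g * w * g⁻¹ ∈ ⁅V, A.map (MulAut.conj x).toMonoidHom⁆ :=
  ffp_line_conj V H Q A h.hV h.hHV h.hf h.hQH h.hHQ h.hQp hA.1 hA.2.1 hA.2.2 x hx hxA hw hwD

theorem FFHyp.conj_le (h : FFHyp p V H Q) {A : Subgroup G} (hA : IsTSub p V H A) {x : G}
    (hx : x ∈ Q) (hxA : x ∉ Subgroup.centralizer (A : Set G)) {z : G} (hz : z ∈ Q) :
    A.map (MulAut.conj z).toMonoidHom ≤ A ⊔ A.map (MulAut.conj x).toMonoidHom :=
  ffp_conj_le V H Q A h.hV h.hHV h.hf h.hQH h.hHQ h.hQp hA.1 hA.2.1 hA.2.2 x hx hxA z hz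

theorem FFHyp.commutator_Q_le (h : FFHyp p V H Q) {A : Subgroup G} (hA : IsTSub p V H A) {x : G}
    (hx : x ∈ Q) (hxA : x ∉ Subgroup.centralizer (A : Set G)) :
    ⁅Q, A⁆ ≤ (A ⊔ A.map (MulAut.conj x).toMonoidHom) ⊓ Q :=
  ffp_commutator_Q_le V H Q A h.hV h.hHV h.hf h.hQH h.hHQ h.hQp hA.1 hA.2.1 hA.2.2 x hx hxA

theorem FFHyp.commutator_Q_sup (h : FFHyp p V H Q) {A : Subgroup G} (hA : IsTSub p V H A) {x : G}
    (hx : x ∈ Q) (hxA : x ∉ Subgroup.centralizer (A : Set G)) :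
    ⁅Q, A⁆ ⊔ A = A ⊔ A.map (MulAut.conj x).toMonoidHom :=
  ffp_commutator_Q_sup V H Q A h.hV h.hHV h.hf h.hQH h.hHQ h.hQp hA.1 hA.2.1 hA.2.2 x hx hxA

/-- Conjugates of T-subgroups under `H` are T-subgroups. -/
theorem IsTSub.conj (hHV : H ≤ Subgroup.normalizer (V : Set G)) {A : Subgroup G}
    (hA : IsTSub p V H A) {t : G} (ht : t ∈ H) :
    IsTSub p V H (A.map (MulAut.conj t).toMonoidHom) := by
  refine ⟨?_, ?_, ?_⟩
  · rintro _ ⟨a, ha, rfl⟩
    show t * a * t⁻¹ ∈ H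
    exact H.mul_mem (H.mul_mem ht (hA.1 ha)) (H.inv_mem ht)
  · rw [ffp_card_map_conj]; exact hA.2.1
  · rw [ffp_commutator_map_conj V A (hHV ht), ffp_card_map_conj]; exact hA.2.2

/-- Some element of `Q` does not centralize a given T-subgroup. -/
theorem FFHyp.exists_not_mem_centralizer (h : FFHyp p V H Q) {A : Subgroup G}
    (hA : IsTSub p V H A) : ∃ x ∈ Q, x ∉ Subgroup.centralizer (A : Set G) := by
  have hp : p.Prime := Fact.out
  by_contra hcon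
  push Not at hcon
  obtain ⟨a, haA, ha1⟩ := ffp_exists_ne_one_of_card_prime hp hA.2.1
  apply ha1
  apply h.hfaith a (hA.1 haA) (ffp_pow_p_of_card A hA.2.1 haA)
  rw [Subgroup.mem_centralizer_iff]
  intro q hq
  exact (Subgroup.mem_centralizer_iff.mp (hcon q hq) a haA).symm

/-- An element of `Q` centralizing a T-subgroup `A` normalizes `⁅V, A⁆`; hence an element of `Q`
moving `⁅V, A⁆` does not centralize `A`. -/
theorem FFHyp.not_mem_centralizer_of_map_ne (h : FFHyp p V H Q) {A : Subgroup G} {z : G}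
    (hz : z ∈ Q) (hne : (⁅V, A⁆).map (MulAut.conj z).toMonoidHom ≠ ⁅V, A⁆) :
    z ∉ Subgroup.centralizer (A : Set G) := by
  intro hzA
  apply hne
  rw [← ffp_commutator_map_conj V A (h.hHV (h.hQH hz)), ffp_map_conj_eq_of_mem_centralizer A hzA]

/-- `L = ⟨A, A ^ x⟩` acts irreducibly on `W = ⁅V, L⁆`. -/
theorem FFHyp.irred (h : FFHyp p V H Q) {A : Subgroup G} (hA : IsTSub p V H A) {x : G}
    (hx : x ∈ Q) (hxA : x ∉ Subgroup.centralizer (A : Set G)) {U : Subgroup G}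
    (hU : U ≤ ⁅V, A ⊔ A.map (MulAut.conj x).toMonoidHom⁆)
    (hAU : A ≤ Subgroup.normalizer (U : Set G))
    (hBU : A.map (MulAut.conj x).toMonoidHom ≤ Subgroup.normalizer (U : Set G)) :
    U = ⊥ ∨ U = ⁅V, A ⊔ A.map (MulAut.conj x).toMonoidHom⁆ := by
  have hp : p.Prime := Fact.out
  obtain ⟨hc, hexp⟩ := (elemAb_iff p V).mp h.hV
  obtain ⟨-, hWc, hK, -, hWeq, -⟩ := h.pair hA hx hxA
  obtain ⟨hstar1, hstar2⟩ := h.star hA hx hxA
  set B : Subgroup G := A.map (MulAut.conj x).toMonoidHom with hB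
  have hBT : IsTSub p V H B := hA.conj h.hHV (h.hQH hx)
  have hAV : A ≤ Subgroup.normalizer (V : Set G) := hA.1.trans h.hHV
  have hBV : B ≤ Subgroup.normalizer (V : Set G) := hBT.1.trans h.hHV
  have hVp : IsPGroup p V := elemAb_isPGroup h.hV
  have hWV : ⁅V, A ⊔ B⁆ ≤ V := commutator_le_of_le_normalizer V _ (sup_le hAV hBV)
  by_contra hcon
  push Not at hcon
  obtain ⟨hU1, hU2⟩ := hcon
  have hUc : Nat.card U = p := by
    have h1 : Nat.card U ∣ p ^ 2 := hWc ▸ Subgroup.card_dvd_of_le hU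
    obtain ⟨m, hm, hm'⟩ := (Nat.dvd_prime_pow hp).mp h1
    interval_cases m
    · exfalso
      exact hU1 (Subgroup.card_eq_one.mp (by simpa using hm'))
    · simpa using hm'
    · exfalso
      exact hU2 (Subgroup.eq_of_le_of_card_ge hU (by rw [hWc, hm']))
  have key : ∀ C : Subgroup G, IsTSub p V H C → C ≤ Subgroup.normalizer (U : Set G) →
      U ≤ Subgroup.centralizer (C : Set G) := by
    intro C hC hCU
    have hCp : IsPGroup p C := IsPGroup.of_card (n := 1) (by rw [hC.2.1, pow_one])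
    have h1 : ⁅U, C⁆ ≤ U := commutator_le_of_le_normalizer U C hCU
    rcases ffp_eq_bot_or_eq_of_card_prime hp hUc h1 with h2 | h2
    · exact Subgroup.commutator_eq_bot_iff_le_centralizer.mp h2
    · exfalso
      exact hU1 (eq_bot_of_le_commutator_of_pgroup V C U hVp hCp (hC.1.trans h.hHV)
        (hU.trans hWV) (le_of_eq h2.symm))
  have hUA := key A hA hAU
  have hUB := key B hBT hBU
  obtain ⟨u, huU, hu1⟩ := ffp_exists_ne_one_of_card_prime hp hUc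
  have huW : u ∈ ⁅V, A⁆ ⊔ ⁅V, B⁆ := hWeq ▸ hU huU
  have hDV := commutator_le_of_le_normalizer V A hAV
  have hD'V := commutator_le_of_le_normalizer V B hBV
  obtain ⟨δ, hδ, δ', hδ', rfl⟩ :=
    mem_sup_of_commute' (fun y hy z hz => hc y (hDV hy) z (hD'V hz)) huW
  have hDA := ffp_commutator_le_centralizer V A h.hV hAV hA.2.1 hA.2.2
  have hδ'1 : δ' = 1 := by
    by_contra hne
    apply hstar2
    rw [ffp_eq_zpowers_of_card_prime hp hBT.2.2 hδ' hne, Subgroup.zpowers_le,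
      Subgroup.mem_centralizer_iff]
    intro y hy
    have e1 := Subgroup.mem_centralizer_iff.mp (hUA huU) y hy
    have e2 := Subgroup.mem_centralizer_iff.mp (hDA hδ) y hy
    rw [← mul_assoc, e2, mul_assoc, mul_assoc] at e1
    exact mul_left_cancel e1
  rw [hδ'1, mul_one] at huU hu1
  apply hstar1
  rw [ffp_eq_zpowers_of_card_prime hp hA.2.2 hδ hu1, Subgroup.zpowers_le]
  exact hUB huU

/-- A T-subgroup is determined by its commutator with `V`. -/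
theorem FFHyp.tsub_unique (h : FFHyp p V H Q) {A₁ A' : Subgroup G} (hA₁ : IsTSub p V H A₁)
    (hA' : IsTSub p V H A') (hD : ⁅V, A₁⁆ = ⁅V, A'⁆) : A₁ = A' := by
  have hp : p.Prime := Fact.out
  obtain ⟨hc, hexp⟩ := (elemAb_iff p V).mp h.hV
  by_contra hne
  obtain ⟨z, hz, hzA₁⟩ := h.exists_not_mem_centralizer hA₁
  obtain ⟨-, -, -, -, -, hdisj⟩ := h.pair hA₁ hz hzA₁
  have hzH := h.hQH hz
  have hzV := h.hHV hzH
  rw [ffp_commutator_map_conj V A₁ hzV] at hdisj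
  obtain ⟨-, hstar₁⟩ := h.star hA₁ hz hzA₁
  rw [ffp_commutator_map_conj V A₁ hzV] at hstar₁
  have hDc : Nat.card ↥(⁅V, A₁⁆) = p := hA₁.2.2
  have hD₂c : Nat.card ↥((⁅V, A₁⁆).map (MulAut.conj z).toMonoidHom) = p := by
    rw [ffp_card_map_conj]; exact hDc
  have hD₂ne : (⁅V, A₁⁆).map (MulAut.conj z).toMonoidHom ≠ ⁅V, A₁⁆ := by
    intro heq
    rw [heq, inf_idem] at hdisj
    rw [hdisj, Subgroup.card_bot] at hDc
    exact hp.one_lt.ne hDc
  have hzA' : z ∉ Subgroup.centralizer (A' : Set G) :=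
    h.not_mem_centralizer_of_map_ne hz (by rw [← hD]; exact hD₂ne)
  obtain ⟨-, hstar'⟩ := h.star hA' hz hzA'
  rw [ffp_commutator_map_conj V A' hzV, ← hD] at hstar'
  have hA₁V := hA₁.1.trans h.hHV
  have hA'V := hA'.1.trans h.hHV
  have hDA₁ : ⁅V, A₁⁆ ≤ Subgroup.centralizer (A₁ : Set G) :=
    ffp_commutator_le_centralizer V A₁ h.hV hA₁V hA₁.2.1 hA₁.2.2
  have hDA' : ⁅V, A₁⁆ ≤ Subgroup.centralizer (A' : Set G) := by
    rw [hD]
    exact ffp_commutator_le_centralizer V A' h.hV hA'V hA'.2.1 hA'.2.2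
  have hDV : ⁅V, A₁⁆ ≤ V := commutator_le_of_le_normalizer V A₁ hA₁V
  have hD₂V : (⁅V, A₁⁆).map (MulAut.conj z).toMonoidHom ≤ V := by
    rw [← ffp_commutator_map_conj V A₁ hzV]
    exact commutator_le_of_le_normalizer V _ ((hA₁.conj h.hHV hzH).1.trans h.hHV)
  obtain ⟨a₁, ha₁, ha₁1⟩ := ffp_exists_ne_one_of_card_prime hp hA₁.2.1
  obtain ⟨a', ha', ha'1⟩ := ffp_exists_ne_one_of_card_prime hp hA'.2.1
  obtain ⟨d₂, hd₂, hd₂1⟩ := ffp_exists_ne_one_of_card_prime hp hD₂c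
  have hA₁z := ffp_eq_zpowers_of_card_prime hp hA₁.2.1 ha₁ ha₁1
  have hA'z := ffp_eq_zpowers_of_card_prime hp hA'.2.1 ha' ha'1
  have hD₂z := ffp_eq_zpowers_of_card_prime hp hD₂c hd₂ hd₂1
  have hu₁D : a₁ * d₂ * a₁⁻¹ * d₂⁻¹ ∈ ⁅V, A₁⁆ := by
    have h2 : ⁅d₂, a₁⁆ ∈ ⁅V, A₁⁆ := Subgroup.commutator_mem_commutator (hD₂V hd₂) ha₁
    have e : a₁ * d₂ * a₁⁻¹ * d₂⁻¹ = ⁅d₂, a₁⁆⁻¹ := by rw [commutatorElement_def]; group
    rw [e]
    exact Subgroup.inv_mem _ h2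
  have hu'D : a' * d₂ * a'⁻¹ * d₂⁻¹ ∈ ⁅V, A₁⁆ := by
    have h2 : ⁅d₂, a'⁆ ∈ ⁅V, A'⁆ := Subgroup.commutator_mem_commutator (hD₂V hd₂) ha'
    rw [← hD] at h2
    have e : a' * d₂ * a'⁻¹ * d₂⁻¹ = ⁅d₂, a'⁆⁻¹ := by rw [commutatorElement_def]; group
    rw [e]
    exact Subgroup.inv_mem _ h2
  have hu'1 : a' * d₂ * a'⁻¹ * d₂⁻¹ ≠ 1 := by
    intro h1
    apply hstar'
    rw [hD₂z, hA'z, Subgroup.zpowers_le, Subgroup.mem_centralizer_iff]
    intro y hy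
    obtain ⟨j, rfl⟩ := Subgroup.mem_zpowers_iff.mp hy
    have hcomm : a' * d₂ = d₂ * a' := by
      calc a' * d₂ = (a' * d₂ * a'⁻¹ * d₂⁻¹) * (d₂ * a') := by group
        _ = d₂ * a' := by rw [h1, one_mul]
    exact (Commute.zpow_left (show Commute a' d₂ from hcomm) j).eq
  have hDz := ffp_eq_zpowers_of_card_prime hp hDc hu'D hu'1
  have hu₁z : a₁ * d₂ * a₁⁻¹ * d₂⁻¹ ∈ Subgroup.zpowers (a' * d₂ * a'⁻¹ * d₂⁻¹) := hDz ▸ hu₁D
  obtain ⟨k, hk⟩ := (Submonoid.mem_powers_iff _ _).mp (mem_powers_iff_mem_zpowers.mpr hu₁z)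
  have ha'u : a' * (a' * d₂ * a'⁻¹ * d₂⁻¹) * a'⁻¹ = a' * d₂ * a'⁻¹ * d₂⁻¹ := by
    have e := Subgroup.mem_centralizer_iff.mp (hDA' hu'D) a' ha'
    rw [e]
    group
  have hpow := ffp_conj_pow a' d₂ ha'u k
  rw [hk] at hpow
  have e1 : a' ^ k * d₂ * (a' ^ k)⁻¹ = a₁ * d₂ * a₁⁻¹ := by rw [hpow]; group
  have htd₂ : (a₁⁻¹ * a' ^ k) * d₂ = d₂ * (a₁⁻¹ * a' ^ k) := by
    calc (a₁⁻¹ * a' ^ k) * d₂ = a₁⁻¹ * (a' ^ k * d₂ * (a' ^ k)⁻¹) * a' ^ k := by group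
      _ = a₁⁻¹ * (a₁ * d₂ * a₁⁻¹) * a' ^ k := by rw [e1]
      _ = d₂ * (a₁⁻¹ * a' ^ k) := by group
  have ht1 : a₁⁻¹ * a' ^ k ≠ 1 := by
    intro h1
    apply hne
    have e : a₁ = a' ^ k := by
      calc a₁ = a₁ * (a₁⁻¹ * a' ^ k) := by rw [h1, mul_one]
        _ = a' ^ k := by group
    have hle : A₁ ≤ A' := by
      rw [hA₁z, Subgroup.zpowers_le, e]
      exact A'.pow_mem ha' k
    exact Subgroup.eq_of_le_of_card_ge hle (by rw [hA₁.2.1, hA'.2.1])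
  have htmem : a₁⁻¹ * a' ^ k ∈ A₁ ⊔ A' :=
    Subgroup.mul_mem _ (Subgroup.mem_sup_left (A₁.inv_mem ha₁))
      (Subgroup.mem_sup_right (A'.pow_mem ha' k))
  have htH : a₁⁻¹ * a' ^ k ∈ H := (sup_le hA₁.1 hA'.1) htmem
  have hVAA : ⁅V, A₁ ⊔ A'⁆ ≤ ⁅V, A₁⁆ :=
    ffp_commutator_sup_le V A₁ A' ⁅V, A₁⁆ hc hA₁V hA'V hDV le_rfl (by rw [← hD])
  have htD : ∀ δ ∈ ⁅V, A₁⁆, (a₁⁻¹ * a' ^ k) * δ = δ * (a₁⁻¹ * a' ^ k) := by
    intro δ hδ
    have e1 := Subgroup.mem_centralizer_iff.mp (hDA₁ hδ) a₁⁻¹ (A₁.inv_mem ha₁)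
    have e2 := Subgroup.mem_centralizer_iff.mp (hDA' hδ) (a' ^ k) (A'.pow_mem ha' k)
    rw [mul_assoc, e2, ← mul_assoc, e1, mul_assoc]
  have htp : (a₁⁻¹ * a' ^ k) ^ p = 1 := by
    have h1 : (a₁⁻¹ * a' ^ k) ^ p ∈ Subgroup.centralizer (V : Set G) := by
      apply ffp_pow_p_mem_centralizer V hexp _ (h.hHV htH)
      intro v hv
      have hu : (a₁⁻¹ * a' ^ k) * v * (a₁⁻¹ * a' ^ k)⁻¹ * v⁻¹ ∈ ⁅V, A₁⁆ := by
        have h2 : ⁅v, a₁⁻¹ * a' ^ k⁆ ∈ ⁅V, A₁ ⊔ A'⁆ :=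
          Subgroup.commutator_mem_commutator hv htmem
        have e : (a₁⁻¹ * a' ^ k) * v * (a₁⁻¹ * a' ^ k)⁻¹ * v⁻¹ = ⁅v, a₁⁻¹ * a' ^ k⁆⁻¹ := by
          rw [commutatorElement_def]; group
        rw [e]
        exact Subgroup.inv_mem _ (hVAA h2)
      rw [htD _ hu, mul_inv_cancel_right]
    have h2 : (a₁⁻¹ * a' ^ k) ^ p ∈ H ⊓ Subgroup.centralizer (V : Set G) :=
      ⟨H.pow_mem htH p, h1⟩
    rw [h.hf] at h2
    exact Subgroup.mem_bot.mp h2
  have hTc : Nat.card ↥(Subgroup.zpowers (a₁⁻¹ * a' ^ k)) = p := by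
    rw [Nat.card_zpowers]
    exact orderOf_eq_prime htp ht1
  have hTle : Subgroup.zpowers (a₁⁻¹ * a' ^ k) ≤ A₁ ⊔ A' := by
    rw [Subgroup.zpowers_le]; exact htmem
  have hTH : Subgroup.zpowers (a₁⁻¹ * a' ^ k) ≤ H := hTle.trans (sup_le hA₁.1 hA'.1)
  have hVT : ⁅V, Subgroup.zpowers (a₁⁻¹ * a' ^ k)⁆ = ⁅V, A₁⁆ := by
    have hle : ⁅V, Subgroup.zpowers (a₁⁻¹ * a' ^ k)⁆ ≤ ⁅V, A₁⁆ :=
      (Subgroup.commutator_mono le_rfl hTle).trans hVAA
    rcases ffp_eq_bot_or_eq_of_card_prime hp hDc hle with h0 | h0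
    · exfalso
      have h1 : V ≤ Subgroup.centralizer ((Subgroup.zpowers (a₁⁻¹ * a' ^ k) : Subgroup G) : Set G) :=
        Subgroup.commutator_eq_bot_iff_le_centralizer.mp h0
      have h2 : Subgroup.zpowers (a₁⁻¹ * a' ^ k) ≤ H ⊓ Subgroup.centralizer (V : Set G) :=
        le_inf hTH (Subgroup.le_centralizer_iff.mp h1)
      rw [h.hf, le_bot_iff] at h2
      rw [h2, Subgroup.card_bot] at hTc
      exact hp.one_lt.ne hTc
    · exact h0
  have hTT : IsTSub p V H (Subgroup.zpowers (a₁⁻¹ * a' ^ k)) := ⟨hTH, hTc, by rw [hVT]; exact hDc⟩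
  have hzT : z ∉ Subgroup.centralizer ((Subgroup.zpowers (a₁⁻¹ * a' ^ k) : Subgroup G) : Set G) :=
    h.not_mem_centralizer_of_map_ne hz (by rw [hVT]; exact hD₂ne)
  obtain ⟨-, hstarT⟩ := h.star hTT hz hzT
  apply hstarT
  rw [ffp_commutator_map_conj V _ hzV, hVT, hD₂z, Subgroup.zpowers_le,
    Subgroup.mem_centralizer_iff]
  intro y hy
  obtain ⟨j, rfl⟩ := Subgroup.mem_zpowers_iff.mp hy
  exact (Commute.zpow_left (show Commute (a₁⁻¹ * a' ^ k) d₂ from htd₂) j).eq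

/-- A T-subgroup whose commutator lies in `W = ⁅V, L⁆` lies in `L = ⟨A, A ^ x⟩`. -/
theorem FFHyp.le_of_commutator_le (h : FFHyp p V H Q) {A A' : Subgroup G}
    (hA : IsTSub p V H A) (hA' : IsTSub p V H A') {x : G} (hx : x ∈ Q)
    (hxA : x ∉ Subgroup.centralizer (A : Set G))
    (hD' : ⁅V, A'⁆ ≤ ⁅V, A ⊔ A.map (MulAut.conj x).toMonoidHom⁆) :
    A' ≤ A ⊔ A.map (MulAut.conj x).toMonoidHom := by
  have hp : p.Prime := Fact.out
  obtain ⟨d', hd', hd'1⟩ := ffp_exists_ne_one_of_card_prime hp hA'.2.2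
  have hD'z := ffp_eq_zpowers_of_card_prime hp hA'.2.2 hd' hd'1
  by_cases hd'D : d' ∈ ⁅V, A⁆
  · have heq : ⁅V, A⁆ = ⁅V, A'⁆ := by
      rw [hD'z]
      exact ffp_eq_zpowers_of_card_prime hp hA.2.2 hd'D hd'1
    rw [← h.tsub_unique hA hA' heq]
    exact le_sup_left
  · obtain ⟨g, hgA, hg⟩ := h.line_conj hA hx hxA (hD' hd') hd'D
    have hgH : g ∈ H := hA.1 hgA
    have hB : IsTSub p V H (A.map (MulAut.conj x).toMonoidHom) := hA.conj h.hHV (h.hQH hx)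
    have hA'' : IsTSub p V H (A'.map (MulAut.conj g).toMonoidHom) := hA'.conj h.hHV hgH
    have hne : g * d' * g⁻¹ ≠ 1 := by
      intro h1
      apply hd'1
      calc d' = g⁻¹ * (g * d' * g⁻¹) * g := by group
        _ = 1 := by rw [h1]; group
    have heq : ⁅V, A'.map (MulAut.conj g).toMonoidHom⁆ =
        ⁅V, A.map (MulAut.conj x).toMonoidHom⁆ := by
      rw [ffp_eq_zpowers_of_card_prime hp hB.2.2 hg hne]
      apply ffp_eq_zpowers_of_card_prime hp hA''.2.2 _ hne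
      rw [ffp_commutator_map_conj V A' (h.hHV hgH)]
      exact ffp_mem_map_conj _ g hd'
    have hAB := h.tsub_unique hA'' hB heq
    intro a' ha'
    have h1 : g * a' * g⁻¹ ∈ A.map (MulAut.conj x).toMonoidHom :=
      hAB ▸ ffp_mem_map_conj A' g ha'
    have e : a' = g⁻¹ * (g * a' * g⁻¹) * g := by group
    rw [e]
    exact Subgroup.mul_mem _ (Subgroup.mul_mem _ (Subgroup.inv_mem _ (Subgroup.mem_sup_left hgA))
      (Subgroup.mem_sup_right h1)) (Subgroup.mem_sup_left hgA)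

/-- `Q` normalizes `L = ⟨A, A ^ x⟩`. -/
theorem FFHyp.Q_le_normalizer (h : FFHyp p V H Q) {A : Subgroup G} (hA : IsTSub p V H A)
    {x : G} (hx : x ∈ Q) (hxA : x ∉ Subgroup.centralizer (A : Set G)) :
    Q ≤ Subgroup.normalizer ((A ⊔ A.map (MulAut.conj x).toMonoidHom : Subgroup G) : Set G) := by
  intro q hq
  apply mem_normalizer_of_conj_smul_eq
  apply conj_smul_eq_of_ge
  show (A ⊔ A.map (MulAut.conj x).toMonoidHom).map (MulAut.conj q).toMonoidHom ≤ _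
  rw [Subgroup.map_sup]
  apply sup_le
  · exact h.conj_le hA hx hxA hq
  · rw [Subgroup.map_map]
    have e : (MulAut.conj q).toMonoidHom.comp (MulAut.conj x).toMonoidHom =
        (MulAut.conj (q * x)).toMonoidHom := by
      ext y
      simp [MulAut.conj_apply, mul_assoc]
    rw [e]
    exact h.conj_le hA hx hxA (Q.mul_mem hq hx)

/-- An element normalizing two subgroups normalizes their intersection. -/
theorem ffp_mem_normalizer_inf {G : Type*} [Group G] (X Y : Subgroup G) {g : G}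
    (hX : g ∈ Subgroup.normalizer (X : Set G)) (hY : g ∈ Subgroup.normalizer (Y : Set G)) :
    g ∈ Subgroup.normalizer ((X ⊓ Y : Subgroup G) : Set G) := by
  rw [Subgroup.mem_normalizer_iff] at hX hY ⊢
  intro y
  exact ⟨fun hy => ⟨(hX y).mp hy.1, (hY y).mp hy.2⟩, fun hy => ⟨(hX y).mpr hy.1, (hY y).mpr hy.2⟩⟩

/-- Some element of `L ∩ Q` does not centralize `A`. -/
theorem FFHyp.exists_inf_not_mem_centralizer (h : FFHyp p V H Q) {A : Subgroup G}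
    (hA : IsTSub p V H A) {x : G} (hx : x ∈ Q) (hxA : x ∉ Subgroup.centralizer (A : Set G)) :
    ∃ y ∈ (A ⊔ A.map (MulAut.conj x).toMonoidHom) ⊓ Q, y ∉ Subgroup.centralizer (A : Set G) := by
  have hp : p.Prime := Fact.out
  obtain ⟨a, haA, ha1⟩ := ffp_exists_ne_one_of_card_prime hp hA.2.1
  have hAz := ffp_eq_zpowers_of_card_prime hp hA.2.1 haA ha1
  have hAQ : A ≤ Subgroup.normalizer (Q : Set G) := hA.1.trans h.hHQ
  have hcQ : x * a * x⁻¹ * a⁻¹ ∈ Q := by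
    have h3 : a * x⁻¹ * a⁻¹ ∈ Q := (Subgroup.mem_normalizer_iff.mp (hAQ haA) _).mp (Q.inv_mem hx)
    have e : x * a * x⁻¹ * a⁻¹ = x * (a * x⁻¹ * a⁻¹) := by group
    rw [e]
    exact Q.mul_mem hx h3
  refine ⟨x * a * x⁻¹ * a⁻¹, ⟨?_, hcQ⟩, ?_⟩
  · exact Subgroup.mul_mem _ (Subgroup.mem_sup_right (ffp_mem_map_conj A x haA))
      (Subgroup.inv_mem _ (Subgroup.mem_sup_left haA))
  · intro hc
    have e1 := Subgroup.mem_centralizer_iff.mp hc a haA
    have hab : a * (x * a * x⁻¹) = (x * a * x⁻¹) * a := by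
      calc a * (x * a * x⁻¹) = (a * (x * a * x⁻¹ * a⁻¹)) * a := by group
        _ = ((x * a * x⁻¹ * a⁻¹) * a) * a := by rw [e1]
        _ = (x * a * x⁻¹) * a := by group
    have hap := ffp_pow_p_of_card A hA.2.1 haA
    have hbp : (x * a * x⁻¹) ^ p = 1 := by rw [conj_pow, hap]; group
    have hcp : (x * a * x⁻¹ * a⁻¹) ^ p = 1 := by
      have hcm : Commute (x * a * x⁻¹) a⁻¹ := Commute.inv_right hab.symm
      rw [hcm.mul_pow, inv_pow, hap, hbp, inv_one, mul_one]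
    have h1 := ffp_eq_one_of_pow_p Q h.hQp hcQ hcp
    have hxa : x * a = a * x := by
      calc x * a = (x * a * x⁻¹ * a⁻¹) * (a * x) := by group
        _ = a * x := by rw [h1, one_mul]
    apply hxA
    rw [Subgroup.mem_centralizer_iff]
    intro y hy
    have hy' : y ∈ Subgroup.zpowers a := hAz ▸ hy
    obtain ⟨j, rfl⟩ := Subgroup.mem_zpowers_iff.mp hy'
    exact (Commute.zpow_left (show Commute a x from hxa.symm) j).eq

/-- `L ∩ Q` has no nontrivial fixed point on `W`, and `⁅W, L ∩ Q⁆ = W`. -/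
theorem FFHyp.inf_Q_action (h : FFHyp p V H Q) {A : Subgroup G}
    (hA : IsTSub p V H A) {x : G} (hx : x ∈ Q) (hxA : x ∉ Subgroup.centralizer (A : Set G)) :
    ⁅V, A ⊔ A.map (MulAut.conj x).toMonoidHom⁆ ⊓ Subgroup.centralizer
      (((A ⊔ A.map (MulAut.conj x).toMonoidHom) ⊓ Q : Subgroup G) : Set G) = ⊥ ∧
    ⁅⁅V, A ⊔ A.map (MulAut.conj x).toMonoidHom⁆, (A ⊔ A.map (MulAut.conj x).toMonoidHom) ⊓ Q⁆ =
      ⁅V, A ⊔ A.map (MulAut.conj x).toMonoidHom⁆ := by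
  obtain ⟨-, -, hK, -, -, -⟩ := h.pair hA hx hxA
  obtain ⟨y, hyR, hyA⟩ := h.exists_inf_not_mem_centralizer hA hx hxA
  have hBH : A.map (MulAut.conj x).toMonoidHom ≤ H := (hA.conj h.hHV (h.hQH hx)).1
  set L : Subgroup G := A ⊔ A.map (MulAut.conj x).toMonoidHom with hL
  have hLH : L ≤ H := sup_le hA.1 hBH
  have hLW : L ≤ Subgroup.normalizer ((⁅V, L⁆ : Subgroup G) : Set G) := fun g hg =>
    ffp_mem_normalizer_commutator V L (h.hHV (hLH hg)) (Subgroup.le_normalizer hg)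
  have hLR : L ≤ Subgroup.normalizer ((L ⊓ Q : Subgroup G) : Set G) := fun g hg =>
    ffp_mem_normalizer_inf L Q (Subgroup.le_normalizer hg) (h.hHQ (hLH hg))
  -- a subgroup `R ≤ L` centralizing `W` is trivial, but `L ∩ Q` is not
  have hne : ¬ (⁅V, L⁆ ≤ Subgroup.centralizer ((L ⊓ Q : Subgroup G) : Set G)) := by
    intro hle
    have h1 : L ⊓ Q ≤ L ⊓ Subgroup.centralizer ((⁅V, L⁆ : Subgroup G) : Set G) :=
      le_inf inf_le_left (Subgroup.le_centralizer_iff.mp hle)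
    rw [hK, le_bot_iff] at h1
    rw [h1] at hyR
    apply hyA
    rw [Subgroup.mem_bot.mp hyR]
    exact Subgroup.one_mem _
  constructor
  · have hU : ⁅V, L⁆ ⊓ Subgroup.centralizer ((L ⊓ Q : Subgroup G) : Set G) ≤ ⁅V, L⁆ := inf_le_left
    have hnorm : L ≤ Subgroup.normalizer ((⁅V, L⁆ ⊓ Subgroup.centralizer
        ((L ⊓ Q : Subgroup G) : Set G) : Subgroup G) : Set G) := fun g hg =>
      ffp_mem_normalizer_inf _ _ (hLW hg) (ffp_mem_normalizer_centralizer _ (hLR hg))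
    rcases h.irred hA hx hxA hU (le_sup_left.trans hnorm) (le_sup_right.trans hnorm) with h0 | h0
    · exact h0
    · exfalso
      exact hne (inf_eq_left.mp h0)
  · have hU : ⁅⁅V, L⁆, L ⊓ Q⁆ ≤ ⁅V, L⁆ :=
      commutator_le_of_le_normalizer _ _ (inf_le_left.trans hLW)
    have hnorm : L ≤ Subgroup.normalizer ((⁅⁅V, L⁆, L ⊓ Q⁆ : Subgroup G) : Set G) := fun g hg =>
      ffp_mem_normalizer_commutator _ _ (hLW hg) (hLR hg)
    rcases h.irred hA hx hxA hU (le_sup_left.trans hnorm) (le_sup_right.trans hnorm) with h0 | h0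
    · exfalso
      exact hne (Subgroup.commutator_eq_bot_iff_le_centralizer.mp h0)
    · exact h0

/-- **Dichotomy.** For T-subgroups `A`, `A'` and `L = ⟨A, A ^ x⟩ = ⁅Q, A⁆ A`: either `A' ≤ L`,
or `A'` centralizes `L` and `W = ⁅V, L⁆`. -/
theorem FFHyp.dichotomy (h : FFHyp p V H Q) {A A' : Subgroup G} (hA : IsTSub p V H A)
    (hA' : IsTSub p V H A') {x : G} (hx : x ∈ Q) (hxA : x ∉ Subgroup.centralizer (A : Set G)) :
    A' ≤ A ⊔ A.map (MulAut.conj x).toMonoidHom ∨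
    (A' ≤ Subgroup.centralizer ((A ⊔ A.map (MulAut.conj x).toMonoidHom : Subgroup G) : Set G) ∧
     A' ≤ Subgroup.centralizer
      ((⁅V, A ⊔ A.map (MulAut.conj x).toMonoidHom⁆ : Subgroup G) : Set G)) := by
  have hp : p.Prime := Fact.out
  obtain ⟨hc, hexp⟩ := (elemAb_iff p V).mp h.hV
  by_cases hD' : ⁅V, A'⁆ ≤ ⁅V, A ⊔ A.map (MulAut.conj x).toMonoidHom⁆
  · left
    exact h.le_of_commutator_le hA hA' hx hxA hD'
  right
  have hBT : IsTSub p V H (A.map (MulAut.conj x).toMonoidHom) := hA.conj h.hHV (h.hQH hx)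
  have hQL := h.Q_le_normalizer hA hx hxA
  obtain ⟨hfix, hcomm⟩ := h.inf_Q_action hA hx hxA
  have hQA := h.commutator_Q_le hA hx hxA
  have hsup := h.commutator_Q_sup hA hx hxA
  set L : Subgroup G := A ⊔ A.map (MulAut.conj x).toMonoidHom with hL
  set W : Subgroup G := ⁅V, L⁆ with hW
  set R : Subgroup G := L ⊓ Q with hR
  have hLH : L ≤ H := sup_le hA.1 hBT.1
  have hLV : L ≤ Subgroup.normalizer (V : Set G) := hLH.trans h.hHV
  have hWV : W ≤ V := commutator_le_of_le_normalizer V L hLV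
  have hA'V := hA'.1.trans h.hHV
  have hD'V : ⁅V, A'⁆ ≤ V := commutator_le_of_le_normalizer V A' hA'V
  have hD'W : ⁅V, A'⁆ ⊓ W = ⊥ := by
    rcases ffp_eq_bot_or_eq_of_card_prime hp hA'.2.2 (inf_le_left : ⁅V, A'⁆ ⊓ W ≤ ⁅V, A'⁆)
      with h0 | h0
    · exact h0
    · exact absurd (inf_eq_left.mp h0) hD'
  obtain ⟨d', hd', hd'1⟩ := ffp_exists_ne_one_of_card_prime hp hA'.2.2
  have hD'z := ffp_eq_zpowers_of_card_prime hp hA'.2.2 hd' hd'1
  -- Step 1: `A'` centralizes `R = L ∩ Q`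
  have step1 : R ≤ Subgroup.centralizer (A' : Set G) := by
    intro y hy
    by_contra hyA'
    have hyQ : y ∈ Q := hy.2
    have hyL : y ∈ L := hy.1
    obtain ⟨-, -, -, -, hW'eq, hdisj'⟩ := h.pair hA' hyQ hyA'
    have hyV := h.hHV (h.hQH hyQ)
    have hyd' : y * d' * y⁻¹ ∈ ⁅V, A'.map (MulAut.conj y).toMonoidHom⁆ := by
      rw [ffp_commutator_map_conj V A' hyV]
      exact ffp_mem_map_conj _ y hd'
    have hw₀W : y * d' * y⁻¹ * d'⁻¹ ∈ W := by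
      have h2 : ⁅d', y⁆ ∈ W := Subgroup.commutator_mem_commutator (hD'V hd') hyL
      have e : y * d' * y⁻¹ * d'⁻¹ = ⁅d', y⁆⁻¹ := by rw [commutatorElement_def]; group
      rw [e]
      exact W.inv_mem h2
    have hw₀W' : y * d' * y⁻¹ * d'⁻¹ ∈ ⁅V, A' ⊔ A'.map (MulAut.conj y).toMonoidHom⁆ := by
      rw [hW'eq]
      exact Subgroup.mul_mem _ (Subgroup.mem_sup_right hyd')
        (Subgroup.inv_mem _ (Subgroup.mem_sup_left hd'))
    have hw₀D' : y * d' * y⁻¹ * d'⁻¹ ∉ ⁅V, A'⁆ := by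
      intro hmem
      have h1 : y * d' * y⁻¹ ∈ ⁅V, A'⁆ ⊓ ⁅V, A'.map (MulAut.conj y).toMonoidHom⁆ := by
        refine ⟨?_, hyd'⟩
        have e : y * d' * y⁻¹ = (y * d' * y⁻¹ * d'⁻¹) * d' := by group
        rw [e]
        exact Subgroup.mul_mem _ hmem hd'
      rw [hdisj', Subgroup.mem_bot] at h1
      apply hd'1
      calc d' = y⁻¹ * (y * d' * y⁻¹) * y := by group
        _ = 1 := by rw [h1]; group
    have hw₀1 : y * d' * y⁻¹ * d'⁻¹ ≠ 1 := fun h1 => hw₀D' (h1 ▸ Subgroup.one_mem _)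
    obtain ⟨g, hgA', hg⟩ := h.line_conj hA' hyQ hyA' hw₀W' hw₀D'
    have hgH : g ∈ H := hA'.1 hgA'
    have hA'y : IsTSub p V H (A'.map (MulAut.conj y).toMonoidHom) :=
      hA'.conj h.hHV (h.hQH hyQ)
    have hA₄ : IsTSub p V H
        ((A'.map (MulAut.conj y).toMonoidHom).map (MulAut.conj g⁻¹).toMonoidHom) :=
      hA'y.conj h.hHV (H.inv_mem hgH)
    have hA₄D : ⁅V, (A'.map (MulAut.conj y).toMonoidHom).map (MulAut.conj g⁻¹).toMonoidHom⁆
        ≤ W := by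
      have hmem : y * d' * y⁻¹ * d'⁻¹ ∈
          ⁅V, (A'.map (MulAut.conj y).toMonoidHom).map (MulAut.conj g⁻¹).toMonoidHom⁆ := by
        rw [ffp_commutator_map_conj V _ (h.hHV (H.inv_mem hgH))]
        have h1 := ffp_mem_map_conj _ g⁻¹ hg
        have e : g⁻¹ * (g * (y * d' * y⁻¹ * d'⁻¹) * g⁻¹) * g⁻¹⁻¹ = y * d' * y⁻¹ * d'⁻¹ := by group
        rwa [e] at h1
      rw [ffp_eq_zpowers_of_card_prime hp hA₄.2.2 hmem hw₀1, Subgroup.zpowers_le]
      exact hw₀W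
    have hA₄L := h.le_of_commutator_le hA hA₄ hx hxA hA₄D
    have hA'Q : A' ≤ Subgroup.normalizer (Q : Set G) := hA'.1.trans h.hHQ
    have hq : g⁻¹ * y * g ∈ Q := by
      have := (Subgroup.mem_normalizer_iff.mp (hA'Q (A'.inv_mem hgA')) y).mp hyQ
      simpa using this
    have hA'L : A' ≤ L := by
      intro a' ha'
      have ha'' : g * a' * g⁻¹ ∈ A' := A'.mul_mem (A'.mul_mem hgA' ha') (A'.inv_mem hgA')
      have h1 : g⁻¹ * (y * (g * a' * g⁻¹) * y⁻¹) * g⁻¹⁻¹ ∈ L :=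
        hA₄L (ffp_mem_map_conj _ g⁻¹ (ffp_mem_map_conj A' y ha''))
      have e : g⁻¹ * (y * (g * a' * g⁻¹) * y⁻¹) * g⁻¹⁻¹ =
          (g⁻¹ * y * g) * a' * (g⁻¹ * y * g)⁻¹ := by group
      rw [e] at h1
      exact (Subgroup.mem_normalizer_iff.mp (hQL hq) a').mpr h1
    exact hD' (Subgroup.commutator_mono le_rfl hA'L)
  -- Step 2: `R` centralizes `D' = ⁅V, A'⁆`
  have step2 : ∀ y ∈ R, y * d' = d' * y := by
    intro y hy
    have hyA' := step1 hy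
    have hyV := h.hHV (h.hQH hy.2)
    have h1 : y * d' * y⁻¹ * d'⁻¹ ∈ ⁅V, A'⁆ ⊓ W := by
      constructor
      · have h2 : y * d' * y⁻¹ ∈ ⁅V, A'⁆ := by
          have h3 := ffp_mem_map_conj _ y hd'
          rwa [← ffp_commutator_map_conj V A' hyV,
            ffp_map_conj_eq_of_mem_centralizer A' hyA'] at h3
        exact Subgroup.mul_mem _ h2 (Subgroup.inv_mem _ hd')
      · have h2 : ⁅d', y⁆ ∈ W := Subgroup.commutator_mem_commutator (hD'V hd') hy.1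
        have e : y * d' * y⁻¹ * d'⁻¹ = ⁅d', y⁆⁻¹ := by rw [commutatorElement_def]; group
        rw [e]
        exact W.inv_mem h2
    rw [hD'W, Subgroup.mem_bot] at h1
    calc y * d' = (y * d' * y⁻¹ * d'⁻¹) * (d' * y) := by group
      _ = d' * y := by rw [h1, one_mul]
  -- Step 3: `A` centralizes `D'`
  have hLR : L ≤ Subgroup.normalizer (R : Set G) := fun g hg =>
    ffp_mem_normalizer_inf L Q (Subgroup.le_normalizer hg) (h.hHQ (hLH hg))
  have step3 : ⁅V, A'⁆ ≤ Subgroup.centralizer (A : Set G) := by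
    rw [hD'z, Subgroup.zpowers_le, Subgroup.mem_centralizer_iff]
    intro a ha
    have hu : d' * a * d'⁻¹ * a⁻¹ ∈ W ⊓ Subgroup.centralizer (R : Set G) := by
      constructor
      · have h2 : ⁅d', a⁆ ∈ W :=
          Subgroup.commutator_mem_commutator (hD'V hd') (Subgroup.mem_sup_left ha)
        rwa [commutatorElement_def] at h2
      · show d' * a * d'⁻¹ * a⁻¹ ∈ Subgroup.centralizer (R : Set G)
        rw [Subgroup.mem_centralizer_iff]
        intro y' hy'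
        have hy : a⁻¹ * y' * a ∈ R := by
          have := (Subgroup.mem_normalizer_iff.mp
            (hLR (L.inv_mem (Subgroup.mem_sup_left ha))) y').mp hy'
          simpa using this
        have e1 := step2 _ hy
        have e2 := step2 _ hy'
        have e1' : (a⁻¹ * y' * a) * d'⁻¹ = d'⁻¹ * (a⁻¹ * y' * a) := by
          calc (a⁻¹ * y' * a) * d'⁻¹ = d'⁻¹ * (d' * (a⁻¹ * y' * a)) * d'⁻¹ := by group
            _ = d'⁻¹ * ((a⁻¹ * y' * a) * d') * d'⁻¹ := by rw [e1]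
            _ = d'⁻¹ * (a⁻¹ * y' * a) := by group
        calc y' * (d' * a * d'⁻¹ * a⁻¹) = (y' * d') * a * d'⁻¹ * a⁻¹ := by group
          _ = (d' * y') * a * d'⁻¹ * a⁻¹ := by rw [e2]
          _ = d' * a * ((a⁻¹ * y' * a) * d'⁻¹) * a⁻¹ := by group
          _ = d' * a * (d'⁻¹ * (a⁻¹ * y' * a)) * a⁻¹ := by rw [e1']
          _ = (d' * a * d'⁻¹ * a⁻¹) * y' := by group
    rw [hfix, Subgroup.mem_bot] at hu
    calc a * d' = (d' * a * d'⁻¹ * a⁻¹)⁻¹ * (d' * a) := by group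
      _ = d' * a := by rw [hu, inv_one, one_mul]
  -- Step 4: `A'` centralizes `W = ⁅W, R⁆`
  have step4 : W ≤ Subgroup.centralizer (A' : Set G) := by
    rw [← hcomm, Subgroup.commutator_le]
    intro w hw y hy
    rw [Subgroup.mem_centralizer_iff]
    intro a' ha'
    have hyA' := Subgroup.mem_centralizer_iff.mp (step1 hy) a' ha'
    have hwV : w ∈ V := hWV hw
    have hcD' : ⁅w, a'⁆ ∈ ⁅V, A'⁆ := Subgroup.commutator_mem_commutator hwV ha'
    have hyc : y * ⁅w, a'⁆ = ⁅w, a'⁆ * y := by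
      rw [hD'z] at hcD'
      obtain ⟨j, hj⟩ := Subgroup.mem_zpowers_iff.mp hcD'
      rw [← hj]
      exact (Commute.zpow_right (show Commute y d' from step2 y hy) j).eq
    have e3 : (y * w * y⁻¹) * a' * (y * w * y⁻¹)⁻¹ = w * a' * w⁻¹ := by
      have e4 : (y * w * y⁻¹) * a' * (y * w * y⁻¹)⁻¹ * a'⁻¹ = y * ⁅w, a'⁆ * y⁻¹ := by
        rw [commutatorElement_def]
        calc (y * w * y⁻¹) * a' * (y * w * y⁻¹)⁻¹ * a'⁻¹
            = y * w * y⁻¹ * (a' * y) * w⁻¹ * y⁻¹ * a'⁻¹ := by group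
          _ = y * w * y⁻¹ * (y * a') * w⁻¹ * y⁻¹ * a'⁻¹ := by rw [hyA']
          _ = y * w * a' * w⁻¹ * (a' * y)⁻¹ := by group
          _ = y * w * a' * w⁻¹ * (y * a')⁻¹ := by rw [hyA']
          _ = y * (w * a' * w⁻¹ * a'⁻¹) * y⁻¹ := by group
      rw [hyc] at e4
      have e5 : (y * w * y⁻¹) * a' * (y * w * y⁻¹)⁻¹ * a'⁻¹ = w * a' * w⁻¹ * a'⁻¹ := by
        rw [e4, commutatorElement_def]; group
      exact mul_right_cancel e5
    have hw₂V : y * w * y⁻¹ ∈ V :=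
      (Subgroup.mem_normalizer_iff.mp (h.hHV (h.hQH hy.2)) w).mp hwV
    have e6 : ⁅w, y⁆ = (y * w * y⁻¹)⁻¹ * w := by
      have e7 := hc w hwV _ (V.inv_mem hw₂V)
      rw [← e7, commutatorElement_def]; group
    rw [e6]
    calc a' * ((y * w * y⁻¹)⁻¹ * w)
        = (y * w * y⁻¹)⁻¹ * ((y * w * y⁻¹) * a' * (y * w * y⁻¹)⁻¹) * (y * w * y⁻¹) *
          ((y * w * y⁻¹)⁻¹ * w) := by group
      _ = (y * w * y⁻¹)⁻¹ * (w * a' * w⁻¹) * (y * w * y⁻¹) * ((y * w * y⁻¹)⁻¹ * w) := by rw [e3]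
      _ = (y * w * y⁻¹)⁻¹ * w * a' := by group
  -- Step 5: `A` and `A'` commute
  have hDW : ⁅V, A⁆ ≤ W := Subgroup.commutator_mono le_rfl le_sup_left
  have hAA' : ⁅A, A'⁆ = ⊥ := by
    have h1 : ⁅⁅A', V⁆, A⁆ = ⊥ := by
      rw [Subgroup.commutator_comm A' V]
      exact Subgroup.commutator_eq_bot_iff_le_centralizer.mpr step3
    have h2 : ⁅⁅V, A⁆, A'⁆ = ⊥ :=
      Subgroup.commutator_eq_bot_iff_le_centralizer.mpr (hDW.trans step4)
    have h3 : ⁅⁅A, A'⁆, V⁆ = ⊥ := Subgroup.commutator_commutator_eq_bot_of_rotate h1 h2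
    have h4 : ⁅A, A'⁆ ≤ Subgroup.centralizer (V : Set G) :=
      Subgroup.commutator_eq_bot_iff_le_centralizer.mp h3
    have h5 : ⁅A, A'⁆ ≤ H := by
      rw [Subgroup.commutator_le]
      intro a ha a' ha'
      rw [commutatorElement_def]
      exact H.mul_mem (H.mul_mem (H.mul_mem (hA.1 ha) (hA'.1 ha')) (H.inv_mem (hA.1 ha)))
        (H.inv_mem (hA'.1 ha'))
    have h6 : ⁅A, A'⁆ ≤ H ⊓ Subgroup.centralizer (V : Set G) := le_inf h5 h4
    rwa [h.hf, le_bot_iff] at h6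
  have hA'A : A ≤ Subgroup.centralizer (A' : Set G) :=
    Subgroup.commutator_eq_bot_iff_le_centralizer.mp hAA'
  have hLA' : L ≤ Subgroup.centralizer (A' : Set G) := by
    rw [← hsup]
    exact sup_le (hQA.trans step1) hA'A
  exact ⟨Subgroup.le_centralizer_iff.mp hLA', Subgroup.le_centralizer_iff.mp step4⟩

/-- `L` has no nontrivial fixed point on `W = ⁅V, L⁆`. -/
theorem FFHyp.inf_centralizer_L (h : FFHyp p V H Q) {A : Subgroup G}
    (hA : IsTSub p V H A) {x : G} (hx : x ∈ Q) (hxA : x ∉ Subgroup.centralizer (A : Set G)) :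
    ⁅V, A ⊔ A.map (MulAut.conj x).toMonoidHom⁆ ⊓ Subgroup.centralizer
      ((A ⊔ A.map (MulAut.conj x).toMonoidHom : Subgroup G) : Set G) = ⊥ := by
  have hp : p.Prime := Fact.out
  obtain ⟨-, -, hK, -, -, -⟩ := h.pair hA hx hxA
  have hBH : A.map (MulAut.conj x).toMonoidHom ≤ H := (hA.conj h.hHV (h.hQH hx)).1
  set L : Subgroup G := A ⊔ A.map (MulAut.conj x).toMonoidHom with hL
  have hLH : L ≤ H := sup_le hA.1 hBH
  have hLW : L ≤ Subgroup.normalizer ((⁅V, L⁆ : Subgroup G) : Set G) := fun g hg =>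
    ffp_mem_normalizer_commutator V L (h.hHV (hLH hg)) (Subgroup.le_normalizer hg)
  have hU : ⁅V, L⁆ ⊓ Subgroup.centralizer (L : Set G) ≤ ⁅V, L⁆ := inf_le_left
  have hnorm : L ≤ Subgroup.normalizer ((⁅V, L⁆ ⊓ Subgroup.centralizer (L : Set G) :
      Subgroup G) : Set G) := fun g hg =>
    ffp_mem_normalizer_inf _ _ (hLW hg)
      (ffp_mem_normalizer_centralizer _ (Subgroup.le_normalizer hg))
  rcases h.irred hA hx hxA hU (le_sup_left.trans hnorm) (le_sup_right.trans hnorm) with h0 | h0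
  · exact h0
  · exfalso
    have hle : ⁅V, L⁆ ≤ Subgroup.centralizer (L : Set G) := inf_eq_left.mp h0
    have h1 : L ≤ L ⊓ Subgroup.centralizer ((⁅V, L⁆ : Subgroup G) : Set G) :=
      le_inf le_rfl (Subgroup.le_centralizer_iff.mp hle)
    rw [hK, le_bot_iff] at h1
    have h2 : A ≤ ⊥ := h1 ▸ (le_sup_left : A ≤ L)
    rw [le_bot_iff] at h2
    have hAc := hA.2.1
    rw [h2, Subgroup.card_bot] at hAc
    exact hp.one_lt.ne hAc

/-- `V = W × C_V(L)`: the product is everything. -/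
theorem FFHyp.sup_centralizer_L (h : FFHyp p V H Q) {A : Subgroup G}
    (hA : IsTSub p V H A) {x : G} (hx : x ∈ Q) (hxA : x ∉ Subgroup.centralizer (A : Set G)) :
    ⁅V, A ⊔ A.map (MulAut.conj x).toMonoidHom⁆ ⊔ (V ⊓ Subgroup.centralizer
      ((A ⊔ A.map (MulAut.conj x).toMonoidHom : Subgroup G) : Set G)) = V := by
  have hp : p.Prime := Fact.out
  obtain ⟨hc, hexp⟩ := (elemAb_iff p V).mp h.hV
  obtain ⟨hstar1, hstar2⟩ := h.star hA hx hxA
  have hBT : IsTSub p V H (A.map (MulAut.conj x).toMonoidHom) := hA.conj h.hHV (h.hQH hx)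
  have hxV := h.hHV (h.hQH hx)
  have hAV : A ≤ Subgroup.normalizer (V : Set G) := hA.1.trans h.hHV
  have hBV : A.map (MulAut.conj x).toMonoidHom ≤ Subgroup.normalizer (V : Set G) :=
    hBT.1.trans h.hHV
  have hDV : ⁅V, A⁆ ≤ V := commutator_le_of_le_normalizer V A hAV
  have hD₂V : ⁅V, A.map (MulAut.conj x).toMonoidHom⁆ ≤ V :=
    commutator_le_of_le_normalizer V _ hBV
  have hDA := ffp_commutator_le_centralizer V A h.hV hAV hA.2.1 hA.2.2
  have hD₂B := ffp_commutator_le_centralizer V _ h.hV hBV hBT.2.1 hBT.2.2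
  set B : Subgroup G := A.map (MulAut.conj x).toMonoidHom with hB
  have hWV : ⁅V, A ⊔ B⁆ ≤ V := commutator_le_of_le_normalizer V _ (sup_le hAV hBV)
  have hDW : ⁅V, A⁆ ≤ ⁅V, A ⊔ B⁆ := Subgroup.commutator_mono le_rfl le_sup_left
  have hD₂W : ⁅V, B⁆ ≤ ⁅V, A ⊔ B⁆ := Subgroup.commutator_mono le_rfl le_sup_right
  apply le_antisymm (sup_le hWV inf_le_left)
  intro v hv
  obtain ⟨a, haA, ha1⟩ := ffp_exists_ne_one_of_card_prime hp hA.2.1
  obtain ⟨b, hbB, hb1⟩ := ffp_exists_ne_one_of_card_prime hp hBT.2.1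
  obtain ⟨d, hdD, hd1⟩ := ffp_exists_ne_one_of_card_prime hp hA.2.2
  obtain ⟨d', hd'D, hd'1⟩ := ffp_exists_ne_one_of_card_prime hp hBT.2.2
  have hAz := ffp_eq_zpowers_of_card_prime hp hA.2.1 haA ha1
  have hBz := ffp_eq_zpowers_of_card_prime hp hBT.2.1 hbB hb1
  have hDz := ffp_eq_zpowers_of_card_prime hp hA.2.2 hdD hd1
  have hD₂z := ffp_eq_zpowers_of_card_prime hp hBT.2.2 hd'D hd'1
  let fa := Cfsg.Agent.S0611.commMap V hc a (hAV haA)
  let fb := Cfsg.Agent.S0611.commMap V hc b (hBV hbB)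
  have hfa : ∀ y : ↥V, fa y = ⁅(y : G), a⁆ := fun y => rfl
  have hfb : ∀ y : ↥V, fb y = ⁅(y : G), b⁆ := fun y => rfl
  -- `u = ⁅d', a⁆` generates `D`, `u₂ = ⁅d, b⁆` generates `D₂`
  have hu : ⁅d', a⁆ ∈ ⁅V, A⁆ := Subgroup.commutator_mem_commutator (hD₂V hd'D) haA
  have hu₂ : ⁅d, b⁆ ∈ ⁅V, B⁆ := Subgroup.commutator_mem_commutator (hDV hdD) hbB
  have hu1 : ⁅d', a⁆ ≠ 1 := by
    intro h1
    apply hstar2
    rw [hD₂z, hAz, Subgroup.zpowers_le, Subgroup.mem_centralizer_iff]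
    intro y hy
    obtain ⟨j, rfl⟩ := Subgroup.mem_zpowers_iff.mp hy
    have hcm : d' * a = a * d' := commutatorElement_eq_one_iff_mul_comm.mp h1
    exact (Commute.zpow_left (show Commute a d' from hcm.symm) j).eq
  have hu₂1 : ⁅d, b⁆ ≠ 1 := by
    intro h1
    apply hstar1
    rw [hDz, hBz, Subgroup.zpowers_le, Subgroup.mem_centralizer_iff]
    intro y hy
    obtain ⟨j, rfl⟩ := Subgroup.mem_zpowers_iff.mp hy
    have hcm : d * b = b * d := commutatorElement_eq_one_iff_mul_comm.mp h1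
    exact (Commute.zpow_left (show Commute b d from hcm.symm) j).eq
  have hDu := ffp_eq_zpowers_of_card_prime hp hA.2.2 hu hu1
  have hD₂u := ffp_eq_zpowers_of_card_prime hp hBT.2.2 hu₂ hu₂1
  have hva : ⁅v, a⁆ ∈ Subgroup.zpowers ⁅d', a⁆ :=
    hDu ▸ Subgroup.commutator_mem_commutator hv haA
  have hvb : ⁅v, b⁆ ∈ Subgroup.zpowers ⁅d, b⁆ :=
    hD₂u ▸ Subgroup.commutator_mem_commutator hv hbB
  obtain ⟨i, hi⟩ := Subgroup.mem_zpowers_iff.mp hva
  obtain ⟨j, hj⟩ := Subgroup.mem_zpowers_iff.mp hvb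
  -- the element `w = d' ^ i * d ^ j`
  have hda : ⁅d, a⁆ = 1 :=
    commutatorElement_eq_one_iff_mul_comm.mpr
      (Subgroup.mem_centralizer_iff.mp (hDA hdD) a haA).symm
  have hd'b : ⁅d', b⁆ = 1 :=
    commutatorElement_eq_one_iff_mul_comm.mpr
      (Subgroup.mem_centralizer_iff.mp (hD₂B hd'D) b hbB).symm
  let dV : ↥V := ⟨d, hDV hdD⟩
  let d'V : ↥V := ⟨d', hD₂V hd'D⟩
  let vV : ↥V := ⟨v, hv⟩
  have hfa_z : fa (vV * (d'V ^ i * dV ^ j)⁻¹) = 1 := by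
    rw [map_mul, map_inv, map_mul, map_zpow, map_zpow, hfa, hfa, hfa]
    show ⁅v, a⁆ * (⁅d', a⁆ ^ i * ⁅d, a⁆ ^ j)⁻¹ = 1
    rw [hda, one_zpow, mul_one, hi, mul_inv_cancel]
  have hfb_z : fb (vV * (d'V ^ i * dV ^ j)⁻¹) = 1 := by
    rw [map_mul, map_inv, map_mul, map_zpow, map_zpow, hfb, hfb, hfb]
    show ⁅v, b⁆ * (⁅d', b⁆ ^ i * ⁅d, b⁆ ^ j)⁻¹ = 1
    rw [hd'b, one_zpow, one_mul, hj, mul_inv_cancel]
  set z : G := v * (d' ^ i * d ^ j)⁻¹ with hz
  have hza : z * a = a * z := by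
    have h1 : ⁅z, a⁆ = 1 := hfa_z
    exact commutatorElement_eq_one_iff_mul_comm.mp h1
  have hzb : z * b = b * z := by
    have h1 : ⁅z, b⁆ = 1 := hfb_z
    exact commutatorElement_eq_one_iff_mul_comm.mp h1
  have hwW : d' ^ i * d ^ j ∈ ⁅V, A ⊔ B⁆ :=
    Subgroup.mul_mem _ (Subgroup.zpow_mem _ (hD₂W hd'D) i) (Subgroup.zpow_mem _ (hDW hdD) j)
  have hzV : z ∈ V := V.mul_mem hv (V.inv_mem (hWV hwW))
  have hzL : z ∈ Subgroup.centralizer ((A ⊔ B : Subgroup G) : Set G) := by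
    have hle : A ⊔ B ≤ Subgroup.centralizer ({z} : Set G) := by
      apply sup_le
      · rw [hAz, Subgroup.zpowers_le, Subgroup.mem_centralizer_iff]
        intro y hy
        rw [Set.mem_singleton_iff.mp hy]
        exact hza
      · rw [hBz, Subgroup.zpowers_le, Subgroup.mem_centralizer_iff]
        intro y hy
        rw [Set.mem_singleton_iff.mp hy]
        exact hzb
    rw [Subgroup.mem_centralizer_iff]
    intro l hl
    exact (Subgroup.mem_centralizer_iff.mp (hle hl) z rfl).symm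
  have e : v = z * (d' ^ i * d ^ j) := by rw [hz]; group
  rw [e]
  exact Subgroup.mul_mem _ (Subgroup.mem_sup_right ⟨hzV, hzL⟩) (Subgroup.mem_sup_left hwW)

end

end Cfsg.Agent.Helper10
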