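import Cfsg.Agent.Helper25.FH0

/-!
# Piece NTO of CALL S1142 (helper25, Feit–Higman): number theory for odd `n = 2 m + 1`
-/

set_option autoImplicit false

namespace Cfsg.Agent.Helper10.FH

open Cfsg.Agent.Helper25.FH

/-- PIECE NTO: number theory, `n = 2 m + 1` -/
theorem fh_nt_odd (q m N : ℕ) (hq : 2 ≤ q) (hm : 1 ≤ m) (hN : 0 < N)
    (h : ∃ μ : ℕ, (μ : ℝ) * (2 * (2 * m + 1) * ((q : ℝ) ^ 2 + 1
        - fhT q q (2 * Real.pi * (1 : ℕ) / (2 * m + 1)))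
          / (2 * q - fhT q q (2 * Real.pi * (1 : ℕ) / (2 * m + 1)))) = 2 * (N : ℝ)) :
    m = 1 := by
  obtain ⟨μ, hμ⟩ := h
  obtain ⟨θ, hθ⟩ : ∃ θ : ℝ, θ = 2 * Real.pi * (1 : ℕ) / (2 * m + 1) := ⟨_, rfl⟩
  rw [← hθ] at hμ
  have hq0 : (0 : ℝ) < (q : ℝ) := by exact_mod_cast (by omega : 0 < q)
  have hq2 : (2 : ℝ) ≤ (q : ℝ) := by exact_mod_cast hq
  have hm1 : (1 : ℝ) ≤ (m : ℝ) := by exact_mod_cast hm
  have hN0 : (0 : ℝ) < (N : ℝ) := by exact_mod_cast hN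
  have hn0 : (0 : ℝ) < 2 * (m : ℝ) + 1 := by positivity
  have hθ' : θ = 2 * Real.pi / (2 * m + 1) := by rw [hθ]; push_cast; ring
  have hθpos : 0 < θ := by rw [hθ']; positivity
  have hθlt : θ < Real.pi := by
    rw [hθ', div_lt_iff₀ hn0]
    nlinarith [Real.pi_pos]
  have hcoslt : Real.cos θ < 1 := by
    have h1 : Real.cos θ < Real.cos 0 :=
      Real.cos_lt_cos_of_nonneg_of_le_pi (le_refl 0) hθlt.le hθpos
    rwa [Real.cos_zero] at h1
  obtain ⟨t, ht⟩ : ∃ t : ℝ, t = fhT q q θ := ⟨_, rfl⟩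
  rw [← ht] at hμ
  have ht' : t = 2 * (q : ℝ) * Real.cos θ := by
    rw [ht, fhT, Real.sqrt_mul_self hq0.le]
  have hden : 0 < 2 * (q : ℝ) - t := by
    rw [ht']
    nlinarith
  have hμ0 : (μ : ℝ) ≠ 0 := by
    intro h0
    rw [h0, zero_mul] at hμ
    linarith
  -- the subfield of rational reals
  obtain ⟨Qf, hQf⟩ : ∃ Qf : Subfield ℝ, Qf = (algebraMap ℚ ℝ).fieldRange := ⟨_, rfl⟩
  have hnat : ∀ k : ℕ, (k : ℝ) ∈ Qf := fun k => natCast_mem Qf k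
  obtain ⟨c, hc⟩ : ∃ c : ℝ, c = 2 * (2 * (m : ℝ) + 1) * ((q : ℝ) ^ 2 + 1 - t) / (2 * (q : ℝ) - t) :=
    ⟨_, rfl⟩
  rw [← hc] at hμ
  have hcQ : c ∈ Qf := by
    have h1 : c = 2 * (N : ℝ) / (μ : ℝ) := by
      rw [eq_div_iff hμ0, mul_comm]
      exact hμ
    rw [h1]
    exact Qf.div_mem (Qf.mul_mem (by exact_mod_cast hnat 2) (hnat N)) (hnat μ)
  have hceq : c * (2 * (q : ℝ) - t) = 2 * (2 * (m : ℝ) + 1) * ((q : ℝ) ^ 2 + 1 - t) := by
    rw [hc, div_mul_cancel₀ _ hden.ne']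
  have hne : 2 * (2 * (m : ℝ) + 1) - c ≠ 0 := by
    intro h0
    have h1 : c = 2 * (2 * (m : ℝ) + 1) := by linarith
    rw [h1] at hceq
    have h2 : (2 * (2 * (m : ℝ) + 1)) * (((q : ℝ) - 1) ^ 2) = 0 := by nlinarith
    rcases mul_eq_zero.mp h2 with h3 | h3
    · linarith
    · have : (q : ℝ) - 1 = 0 := by
        exact pow_eq_zero_iff (n := 2) (by norm_num) |>.mp h3
      linarith
  have htQ : t ∈ Qf := by
    have h1 : t = (2 * (2 * (m : ℝ) + 1) * ((q : ℝ) ^ 2 + 1) - 2 * (q : ℝ) * c)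
        / (2 * (2 * (m : ℝ) + 1) - c) := by
      rw [eq_div_iff hne]
      linarith
    rw [h1]
    have h2m : 2 * (2 * (m : ℝ) + 1) ∈ Qf := by
      have : 2 * (2 * (m : ℝ) + 1) = ((2 * (2 * m + 1) : ℕ) : ℝ) := by push_cast; ring
      rw [this]; exact hnat _
    have hqq : (q : ℝ) ^ 2 + 1 ∈ Qf := by
      have : (q : ℝ) ^ 2 + 1 = ((q ^ 2 + 1 : ℕ) : ℝ) := by push_cast; ring
      rw [this]; exact hnat _
    have h2q : 2 * (q : ℝ) ∈ Qf := by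
      have : 2 * (q : ℝ) = ((2 * q : ℕ) : ℝ) := by push_cast; ring
      rw [this]; exact hnat _
    exact Qf.div_mem (Qf.sub_mem (Qf.mul_mem h2m hqq) (Qf.mul_mem h2q hcQ)) (Qf.sub_mem h2m hcQ)
  have hcosQ : Real.cos θ ∈ Qf := by
    have h1 : Real.cos θ = t / (2 * (q : ℝ)) := by
      rw [ht']
      field_simp
    rw [h1]
    have h2q : 2 * (q : ℝ) ∈ Qf := by
      have : 2 * (q : ℝ) = ((2 * q : ℕ) : ℝ) := by push_cast; ring
      rw [this]; exact hnat _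
    exact Qf.div_mem htQ h2q
  have hcos : ∃ r : ℚ, Real.cos θ = r := by
    rw [hQf] at hcosQ
    obtain ⟨r, hr⟩ := hcosQ
    exact ⟨r, hr.symm⟩
  have hrat : ∃ r : ℚ, θ = r * Real.pi :=
    ⟨2 / (2 * m + 1), by rw [hθ']; push_cast; ring⟩
  have hniven := niven_angle_eq hrat hcos ⟨hθpos.le, hθlt.le⟩
  have hpi : Real.pi ≠ 0 := Real.pi_ne_zero
  simp only [Set.mem_insert_iff, Set.mem_singleton_iff] at hniven
  have key : ∀ a b : ℕ, θ = Real.pi * a / b → 0 < b → 2 * b = a * (2 * m + 1) := by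
    intro a b hab hb
    have hb0 : (b : ℝ) ≠ 0 := by exact_mod_cast hb.ne'
    rw [hθ'] at hab
    have h1 : 2 * Real.pi * (b : ℝ) = Real.pi * (a : ℝ) * (2 * (m : ℝ) + 1) :=
      (div_eq_div_iff hn0.ne' hb0).mp hab
    have h2 : Real.pi * (2 * (b : ℝ)) = Real.pi * ((a : ℝ) * (2 * (m : ℝ) + 1)) := by linarith
    have h3 := mul_left_cancel₀ hpi h2
    exact_mod_cast h3
  rcases hniven with h0 | h0 | h0 | h0 | h0
  · linarith
  · have := key 1 3 (by rw [h0]; push_cast; ring) (by norm_num)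
    omega
  · have := key 1 2 (by rw [h0]; push_cast; ring) (by norm_num)
    omega
  · have := key 2 3 (by rw [h0]; push_cast; ring) (by norm_num)
    omega
  · have := key 1 1 (by rw [h0]; push_cast; ring) (by norm_num)
    omega

end Cfsg.Agent.Helper10.FH
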