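import Cfsg.Agent.Helper25.FH0

/-!
# Piece QEQ of CALL S1142 (helper25, Feit–Higman): equal parameters for odd `n`
-/

set_option autoImplicit false

namespace Cfsg.Agent.Helper10.FH

open Cfsg.Agent.Helper25.FH

theorem fh_pow_mul_comm_alt {M : Type*} [Monoid M] (A B : M) (m : ℕ) :
    (B * A) ^ m * B = B * (A * B) ^ m := by
  induction m with
  | zero => simp
  | succ m ih =>
    rw [pow_succ', pow_succ', mul_assoc, ih]
    simp only [mul_assoc]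

theorem fh_unit_of_quad {Ω : Type*} [Fintype Ω] [DecidableEq Ω] (A : Matrix Ω Ω ℝ) (q : ℝ)
    (hq : 0 < q) (hA : A * A = q • (1 : Matrix Ω Ω ℝ) + (q - 1) • A) :
    ∃ u : (Matrix Ω Ω ℝ)ˣ, (u : Matrix Ω Ω ℝ) = A := by
  have hq0 : q ≠ 0 := hq.ne'
  have h1 : A * (q⁻¹ • (A - (q - 1) • (1 : Matrix Ω Ω ℝ))) = 1 := by
    rw [Matrix.mul_smul, mul_sub, Matrix.mul_smul, mul_one, hA, add_sub_cancel_right, smul_smul,
      inv_mul_cancel₀ hq0, one_smul]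
  have h2 : (q⁻¹ • (A - (q - 1) • (1 : Matrix Ω Ω ℝ))) * A = 1 := by
    rw [Matrix.smul_mul, sub_mul, Matrix.smul_mul, one_mul, hA, add_sub_cancel_right, smul_smul,
      inv_mul_cancel₀ hq0, one_smul]
  exact ⟨⟨A, _, h1, h2⟩, rfl⟩

/-- PIECE QEQ: equal parameters for odd `n` -/
theorem fh_q_eq {Ω : Type*} [Fintype Ω] [DecidableEq Ω] [Nonempty Ω] (A B : Matrix Ω Ω ℝ)
    (q1 q2 : ℝ) (hq1 : 0 < q1) (hq2 : 0 < q2) (m : ℕ)
    (hA : A * A = q1 • (1 : Matrix Ω Ω ℝ) + (q1 - 1) • A)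
    (hB : B * B = q2 • (1 : Matrix Ω Ω ℝ) + (q2 - 1) • B)
    (hbr : alt A B (2 * m + 1) = alt B A (2 * m + 1))
    (htA : A.trace = 0) (htB : B.trace = 0) : q1 = q2 := by
  obtain ⟨uA, huA⟩ := fh_unit_of_quad A q1 hq1 hA
  obtain ⟨uB, huB⟩ := fh_unit_of_quad B q2 hq2 hB
  obtain ⟨u, hu⟩ : ∃ u : (Matrix Ω Ω ℝ)ˣ, (u : Matrix Ω Ω ℝ) = (A * B) ^ m :=
    ⟨(uA * uB) ^ m, by rw [Units.val_pow_eq_pow_val, Units.val_mul, huA, huB]⟩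
  have h1 : alt A B (2 * m + 1) = (A * B) ^ m * A := alt_two_mul_add_one A B m
  have h2 : alt B A (2 * m + 1) = B * (A * B) ^ m := by
    rw [alt_two_mul_add_one, fh_pow_mul_comm_alt]
  rw [h1, h2, ← hu] at hbr
  -- `u * A = B * u`
  have hB' : B = (u : Matrix Ω Ω ℝ) * A * ((u⁻¹ : (Matrix Ω Ω ℝ)ˣ) : Matrix Ω Ω ℝ) := by
    rw [hbr, mul_assoc, Units.mul_inv, mul_one]
  have hBB : B * B = (u : Matrix Ω Ω ℝ) * (A * A) * ((u⁻¹ : (Matrix Ω Ω ℝ)ˣ) : Matrix Ω Ω ℝ) := by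
    conv_lhs => rw [hB']
    calc (u : Matrix Ω Ω ℝ) * A * ((u⁻¹ : (Matrix Ω Ω ℝ)ˣ) : Matrix Ω Ω ℝ)
          * ((u : Matrix Ω Ω ℝ) * A * ((u⁻¹ : (Matrix Ω Ω ℝ)ˣ) : Matrix Ω Ω ℝ))
        = (u : Matrix Ω Ω ℝ) * A * (((u⁻¹ : (Matrix Ω Ω ℝ)ˣ) : Matrix Ω Ω ℝ) * (u : Matrix Ω Ω ℝ))
          * A * ((u⁻¹ : (Matrix Ω Ω ℝ)ˣ) : Matrix Ω Ω ℝ) := by simp only [mul_assoc]
      _ = (u : Matrix Ω Ω ℝ) * (A * A) * ((u⁻¹ : (Matrix Ω Ω ℝ)ˣ) : Matrix Ω Ω ℝ) := by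
          rw [Units.inv_mul, mul_one, mul_assoc (u : Matrix Ω Ω ℝ) A A]
  have htr : (B * B).trace = (A * A).trace := by
    rw [hBB]
    exact Matrix.trace_units_conj u (A * A)
  rw [hA, hB, Matrix.trace_add, Matrix.trace_add, Matrix.trace_smul, Matrix.trace_smul,
    Matrix.trace_smul, Matrix.trace_smul, htA, htB, Matrix.trace_one] at htr
  simp only [smul_eq_mul, mul_zero, add_zero] at htr
  have hcard : (0 : ℝ) < (Fintype.card Ω : ℝ) := by exact_mod_cast Fintype.card_pos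
  have := mul_right_cancel₀ hcard.ne' htr
  exact this.symm

end Cfsg.Agent.Helper10.FH
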