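import Cfsg.Agent.Helper25.FH0

/-!
# Pieces TS1, TS2 of CALL S1142 (helper25, Feit–Higman): trigonometric sums
-/

set_option autoImplicit false

namespace Cfsg.Agent.Helper10.FH

open Cfsg.Agent.Helper25.FH

theorem fh_tel_cos (θ : ℝ) (N : ℕ) :
    2 * Real.sin θ * ∑ i ∈ Finset.range N, Real.cos (2 * ((i : ℝ) * θ))
      = Real.sin ((2 * (N : ℝ) - 1) * θ) + Real.sin θ := by
  induction N with
  | zero =>
    have h1 : (2 * ((0 : ℕ) : ℝ) - 1) * θ = -θ := by push_cast; ring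
    rw [Finset.sum_range_zero, mul_zero, h1, Real.sin_neg]
    ring
  | succ N ih =>
    have h1 : (2 * ((N + 1 : ℕ) : ℝ) - 1) * θ = 2 * ((N : ℝ) * θ) + θ := by push_cast; ring
    have h2 : (2 * (N : ℝ) - 1) * θ = 2 * ((N : ℝ) * θ) - θ := by ring
    rw [Finset.sum_range_succ, mul_add, ih, h1, h2, Real.sin_add, Real.sin_sub]
    ring

theorem fh_tel_sin (θ : ℝ) (N : ℕ) :
    2 * Real.sin θ * ∑ i ∈ Finset.range N, Real.sin (2 * ((i : ℝ) * θ))
      = Real.cos θ - Real.cos ((2 * (N : ℝ) - 1) * θ) := by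
  induction N with
  | zero =>
    have h1 : (2 * ((0 : ℕ) : ℝ) - 1) * θ = -θ := by push_cast; ring
    rw [Finset.sum_range_zero, mul_zero, h1, Real.cos_neg]
    ring
  | succ N ih =>
    have h1 : (2 * ((N + 1 : ℕ) : ℝ) - 1) * θ = 2 * ((N : ℝ) * θ) + θ := by push_cast; ring
    have h2 : (2 * (N : ℝ) - 1) * θ = 2 * ((N : ℝ) * θ) - θ := by ring
    rw [Finset.sum_range_succ, mul_add, ih, h1, h2, Real.cos_add, Real.cos_sub]
    ring

theorem fh_tel_cos_odd (θ : ℝ) (N : ℕ) :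
    2 * Real.sin θ * ∑ i ∈ Finset.range N, Real.cos ((2 * (i : ℝ) + 1) * θ)
      = Real.sin (2 * (N : ℝ) * θ) := by
  induction N with
  | zero =>
    rw [Finset.sum_range_zero, mul_zero]
    simp
  | succ N ih =>
    have h1 : 2 * ((N + 1 : ℕ) : ℝ) * θ = (2 * (N : ℝ) + 1) * θ + θ := by push_cast; ring
    have h2 : 2 * (N : ℝ) * θ = (2 * (N : ℝ) + 1) * θ - θ := by ring
    rw [Finset.sum_range_succ, mul_add, ih, h1, h2, Real.sin_add, Real.sin_sub]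
    ring

theorem fh_sum_cos_sq (f : ℕ → ℝ) (N : ℕ) :
    ∑ i ∈ Finset.range N, Real.cos (f i) ^ 2
      = ((N : ℝ) + ∑ i ∈ Finset.range N, Real.cos (2 * f i)) / 2 := by
  have h1 : ∀ i ∈ Finset.range N, Real.cos (f i) ^ 2 = (1 + Real.cos (2 * f i)) / 2 := by
    intro i _
    rw [Real.cos_sq]
    ring
  rw [Finset.sum_congr rfl h1, ← Finset.sum_div, Finset.sum_add_distrib]
  simp

theorem fh_sum_sin_sq (f : ℕ → ℝ) (N : ℕ) :
    ∑ i ∈ Finset.range N, Real.sin (f i) ^ 2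
      = ((N : ℝ) - ∑ i ∈ Finset.range N, Real.cos (2 * f i)) / 2 := by
  have h1 : ∀ i ∈ Finset.range N, Real.sin (f i) ^ 2 = (1 - Real.cos (2 * f i)) / 2 := by
    intro i _
    rw [Real.sin_sq, Real.cos_sq]
    ring
  rw [Finset.sum_congr rfl h1, ← Finset.sum_div, Finset.sum_sub_distrib]
  simp

/-- PIECE TS1: trigonometric sums, `θ = π j / m` -/
theorem fh_trig_even (m j : ℕ) (hj1 : 1 ≤ j) (hjm : j < m) :
    ∑ i ∈ Finset.range m, Real.cos ((i : ℝ) * (Real.pi * j / m)) ^ 2 = (m : ℝ) / 2 ∧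
    ∑ i ∈ Finset.range m, Real.sin ((i : ℝ) * (Real.pi * j / m)) ^ 2 = (m : ℝ) / 2 ∧
    ∑ i ∈ Finset.range m,
      Real.sin ((i : ℝ) * (Real.pi * j / m)) * Real.cos ((i : ℝ) * (Real.pi * j / m)) = 0 ∧
    ∑ i ∈ Finset.range m, Real.cos (((i + 1 : ℕ) : ℝ) * (Real.pi * j / m)) ^ 2 = (m : ℝ) / 2 := by
  obtain ⟨θ, hθ⟩ : ∃ θ : ℝ, θ = Real.pi * j / m := ⟨_, rfl⟩
  rw [← hθ]
  have hm0 : (0 : ℝ) < (m : ℝ) := by exact_mod_cast (by omega : 0 < m)
  have hj0 : (0 : ℝ) < (j : ℝ) := by exact_mod_cast (by omega : 0 < j)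
  have hjm' : (j : ℝ) < (m : ℝ) := by exact_mod_cast hjm
  have hθpos : 0 < θ := by rw [hθ]; positivity
  have hθlt : θ < Real.pi := by
    rw [hθ, div_lt_iff₀ hm0]
    exact mul_lt_mul_of_pos_left hjm' Real.pi_pos
  have hsin : Real.sin θ ≠ 0 := (Real.sin_pos_of_pos_of_lt_pi hθpos hθlt).ne'
  have hmθ : (m : ℝ) * θ = (j : ℝ) * Real.pi := by rw [hθ]; field_simp
  have harg : (2 * (m : ℝ) - 1) * θ = (j : ℝ) * (2 * Real.pi) - θ := by
    have : (2 * (m : ℝ) - 1) * θ = 2 * ((m : ℝ) * θ) - θ := by ring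
    rw [this, hmθ]; ring
  -- the two basic sums vanish
  have hC : ∑ i ∈ Finset.range m, Real.cos (2 * ((i : ℝ) * θ)) = 0 := by
    have h1 := fh_tel_cos θ m
    rw [harg, Real.sin_nat_mul_two_pi_sub, neg_add_cancel] at h1
    rcases mul_eq_zero.mp h1 with h2 | h2
    · exact absurd (by linarith : Real.sin θ = 0) hsin
    · exact h2
  have hS : ∑ i ∈ Finset.range m, Real.sin (2 * ((i : ℝ) * θ)) = 0 := by
    have h1 := fh_tel_sin θ m
    rw [harg, Real.cos_nat_mul_two_pi_sub, sub_self] at h1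
    rcases mul_eq_zero.mp h1 with h2 | h2
    · exact absurd (by linarith : Real.sin θ = 0) hsin
    · exact h2
  have hcos2 : ∑ i ∈ Finset.range m, Real.cos ((i : ℝ) * θ) ^ 2 = (m : ℝ) / 2 := by
    rw [fh_sum_cos_sq (fun i : ℕ => (i : ℝ) * θ) m, hC, add_zero]
  have hsin2 : ∑ i ∈ Finset.range m, Real.sin ((i : ℝ) * θ) ^ 2 = (m : ℝ) / 2 := by
    rw [fh_sum_sin_sq (fun i : ℕ => (i : ℝ) * θ) m, hC, sub_zero]
  refine ⟨hcos2, hsin2, ?_, ?_⟩
  · have h1 : ∀ i ∈ Finset.range m, Real.sin ((i : ℝ) * θ) * Real.cos ((i : ℝ) * θ)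
        = Real.sin (2 * ((i : ℝ) * θ)) / 2 := by
      intro i _
      rw [Real.sin_two_mul]
      ring
    rw [Finset.sum_congr rfl h1, ← Finset.sum_div, hS, zero_div]
  · have h1 := Finset.sum_range_succ' (fun i : ℕ => Real.cos ((i : ℝ) * θ) ^ 2) m
    have h2 := Finset.sum_range_succ (fun i : ℕ => Real.cos ((i : ℝ) * θ) ^ 2) m
    rw [h2, hcos2] at h1
    have h3 : Real.cos ((m : ℝ) * θ) ^ 2 = 1 := by
      rw [hmθ, Real.cos_nat_mul_pi]
      rw [← pow_mul, mul_comm, pow_mul]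
      norm_num
    have h4 : Real.cos (((0 : ℕ) : ℝ) * θ) ^ 2 = 1 := by simp
    rw [h3, h4] at h1
    linarith

/-- PIECE TS2: trigonometric sums, `θ = 2 π j / (2 m + 1)` -/
theorem fh_trig_odd (m j : ℕ) (hj1 : 1 ≤ j) (hjm : j ≤ m) :
    ∑ i ∈ Finset.range (m + 1), Real.cos ((i : ℝ) * (2 * Real.pi * j / (2 * m + 1))) ^ 2
      + ∑ i ∈ Finset.range m,
          Real.cos (((i + 1 : ℕ) : ℝ) * (2 * Real.pi * j / (2 * m + 1))) ^ 2
        = (2 * (m : ℝ) + 1) / 2 ∧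
    ∑ i ∈ Finset.range m,
        Real.sin ((2 * (i : ℝ) + 1) * (2 * Real.pi * j / (2 * m + 1)) / 2) ^ 2
      + ∑ i ∈ Finset.range (m + 1),
          Real.sin ((2 * (i : ℝ) + 1) * (2 * Real.pi * j / (2 * m + 1)) / 2) ^ 2
        = (2 * (m : ℝ) + 1) / 2 := by
  obtain ⟨θ, hθ⟩ : ∃ θ : ℝ, θ = 2 * Real.pi * j / (2 * m + 1) := ⟨_, rfl⟩
  rw [← hθ]
  have hn0 : (0 : ℝ) < 2 * (m : ℝ) + 1 := by positivity
  have hj0 : (0 : ℝ) < (j : ℝ) := by exact_mod_cast (by omega : 0 < j)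
  have hjm' : (j : ℝ) ≤ (m : ℝ) := by exact_mod_cast hjm
  have hθpos : 0 < θ := by rw [hθ]; positivity
  have hθlt : θ < Real.pi := by
    rw [hθ, div_lt_iff₀ hn0]
    nlinarith [Real.pi_pos]
  have hsin : Real.sin θ ≠ 0 := (Real.sin_pos_of_pos_of_lt_pi hθpos hθlt).ne'
  have hnθ : (2 * (m : ℝ) + 1) * θ = (j : ℝ) * (2 * Real.pi) := by rw [hθ]; field_simp
  have hsinn : Real.sin ((2 * (m : ℝ) + 1) * θ) = 0 := by
    rw [hnθ]
    have : (j : ℝ) * (2 * Real.pi) = ((2 * j : ℕ) : ℝ) * Real.pi := by push_cast; ring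
    rw [this, Real.sin_nat_mul_pi]
  constructor
  · -- first identity
    have hA := fh_tel_cos θ (m + 1)
    have hB' := Finset.sum_range_succ' (fun i : ℕ => Real.cos (2 * ((i : ℝ) * θ))) m
    have harg : (2 * ((m + 1 : ℕ) : ℝ) - 1) * θ = (2 * (m : ℝ) + 1) * θ := by push_cast; ring
    rw [harg, hsinn, zero_add] at hA
    -- D := Σ_{i<m+1} cos(2iθ) + Σ_{i<m} cos(2(i+1)θ) = 0
    have hD : ∑ i ∈ Finset.range (m + 1), Real.cos (2 * ((i : ℝ) * θ))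
        + ∑ i ∈ Finset.range m, Real.cos (2 * (((i + 1 : ℕ) : ℝ) * θ)) = 0 := by
      have h0 : Real.cos (2 * (((0 : ℕ) : ℝ) * θ)) = 1 := by simp
      rw [h0] at hB'
      have h5 : 2 * Real.sin θ * (∑ i ∈ Finset.range (m + 1), Real.cos (2 * ((i : ℝ) * θ))
          + ∑ i ∈ Finset.range m, Real.cos (2 * (((i + 1 : ℕ) : ℝ) * θ))) = 0 := by
        have h6 : ∑ i ∈ Finset.range m, Real.cos (2 * (((i + 1 : ℕ) : ℝ) * θ))
            = ∑ i ∈ Finset.range (m + 1), Real.cos (2 * ((i : ℝ) * θ)) - 1 := by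
          rw [hB']; ring
        rw [h6, mul_add, mul_sub, hA]
        ring
      rcases mul_eq_zero.mp h5 with h7 | h7
      · exact absurd (by linarith : Real.sin θ = 0) hsin
      · exact h7
    rw [fh_sum_cos_sq (fun i : ℕ => (i : ℝ) * θ) (m + 1),
      fh_sum_cos_sq (fun i : ℕ => ((i + 1 : ℕ) : ℝ) * θ) m]
    have hD' : ∑ i ∈ Finset.range m, Real.cos (2 * (((i + 1 : ℕ) : ℝ) * θ))
        = - ∑ i ∈ Finset.range (m + 1), Real.cos (2 * ((i : ℝ) * θ)) := by linarith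
    rw [hD']
    push_cast
    ring
  · -- second identity
    have hA := fh_tel_cos_odd θ m
    have hB := fh_tel_cos_odd θ (m + 1)
    have hD : ∑ i ∈ Finset.range m, Real.cos ((2 * (i : ℝ) + 1) * θ)
        + ∑ i ∈ Finset.range (m + 1), Real.cos ((2 * (i : ℝ) + 1) * θ) = 0 := by
      have h5 : 2 * Real.sin θ * (∑ i ∈ Finset.range m, Real.cos ((2 * (i : ℝ) + 1) * θ)
          + ∑ i ∈ Finset.range (m + 1), Real.cos ((2 * (i : ℝ) + 1) * θ)) = 0 := by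
        rw [mul_add, hA, hB]
        have e1 : 2 * (m : ℝ) * θ = (2 * (m : ℝ) + 1) * θ - θ := by ring
        have e2 : 2 * ((m + 1 : ℕ) : ℝ) * θ = (2 * (m : ℝ) + 1) * θ + θ := by push_cast; ring
        rw [e1, e2, Real.sin_sub, Real.sin_add, hsinn]
        ring
      rcases mul_eq_zero.mp h5 with h7 | h7
      · exact absurd (by linarith : Real.sin θ = 0) hsin
      · exact h7
    have h4 : ∀ N : ℕ, ∑ i ∈ Finset.range N, Real.cos (2 * ((2 * (i : ℝ) + 1) * θ / 2))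
        = ∑ i ∈ Finset.range N, Real.cos ((2 * (i : ℝ) + 1) * θ) := by
      intro N
      refine Finset.sum_congr rfl fun i _ => ?_
      congr 1
      ring
    rw [fh_sum_sin_sq (fun i : ℕ => (2 * (i : ℝ) + 1) * θ / 2) m,
      fh_sum_sin_sq (fun i : ℕ => (2 * (i : ℝ) + 1) * θ / 2) (m + 1), h4, h4]
    have hD' : ∑ i ∈ Finset.range (m + 1), Real.cos ((2 * (i : ℝ) + 1) * θ)
        = - ∑ i ∈ Finset.range m, Real.cos ((2 * (i : ℝ) + 1) * θ) := by linarith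
    rw [hD']
    push_cast
    ring

end Cfsg.Agent.Helper10.FH
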