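import Mathlib
import Cfsg.Prelude.Def_JComponents
import Cfsg.Agent.Helper49.JComp3
import Cfsg.Agent.Helper50.SubnSylow

/-!
Helper10: uniqueness of `J(T)`-components with a given `W_K` (KS 12.2, elementary part).
Let `K`, `K'` be two `J`-components (data `Helper49.JC K J`, `JC K' J`) and `Q` a 2-subgroup
normalized by `K`, `K'`, normalizing both, containing `O₂(K)`, `O₂(K')`.  If `K ∩ R ≠ 1 ≠ K' ∩ R`
for a 3-subgroup `R` whose elements centralizing `Ω₁(Z(Q))` satisfy `[c, J] ≤ Q`, and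
`W_K ∩ W_{K'} ≠ 1`, then `K' ≤ K` (`jinj_le`).
-/

set_option autoImplicit false

namespace Cfsg.Agent.Helper10

open scoped commutatorElement
open Cfsg.Agent.Helper49 Cfsg.Agent.Helper47

section

variable {G : Type*} [Group G]

/-- an element that is both a `2`-element and a `3`-element is trivial -/
theorem eq_one_of_two_three {x : G} {m n : ℕ} (h2 : x ^ 2 ^ m = 1) (h3 : x ^ 3 ^ n = 1) :
    x = 1 := by
  have hc : Nat.Coprime (2 ^ m) (3 ^ n) := Nat.Coprime.pow _ _ (by norm_num)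
  have h := mem_of_pow_mem_of_coprime (H := (⊥ : Subgroup G)) hc
    (by rw [h2]; exact Subgroup.one_mem _) (by rw [h3]; exact Subgroup.one_mem _)
  exact Subgroup.mem_bot.mp h

theorem isPGroup_pow_eq_one {p : ℕ} {R : Subgroup G} (hR : IsPGroup p R) {x : G}
    (hx : x ∈ R) : ∃ k : ℕ, x ^ p ^ k = 1 := by
  obtain ⟨k, hk⟩ := hR ⟨x, hx⟩
  exact ⟨k, by simpa using congrArg Subtype.val hk⟩

/-- a nontrivial element of a `3`-group does not lie in a `2`-group -/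
theorem not_mem_two_of_three {R P : Subgroup G} (hR : IsPGroup 3 R) (hP : IsPGroup 2 P) {x : G}
    (hx : x ∈ R) (hx1 : x ≠ 1) : x ∉ P := by
  intro hxP
  obtain ⟨n, hn⟩ := isPGroup_pow_eq_one hR hx
  obtain ⟨m, hm⟩ := isPGroup_pow_eq_one hP hxP
  exact hx1 (eq_one_of_two_three hm hn)

variable [Finite G]

/-- `Q` centralizes `W_K`. -/
theorem jinj_W_central {K J Q : Subgroup G} (h : JC K J) (hQ2 : IsPGroup 2 Q)
    (hQK : Q ≤ Subgroup.normalizer (K : Set G)) (hKQ : K ≤ Subgroup.normalizer (Q : Set G)) :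
    ∀ w ∈ Cfsg.wOf K, ∀ q ∈ Q, q * w * q⁻¹ = w := by
  have : Fact (Nat.Prime 2) := ⟨Nat.prime_two⟩
  have hQW : Q ≤ Subgroup.normalizer (Cfsg.wOf K : Set G) := hQK.trans h.normK_le_normW
  have hW2 : IsPGroup 2 (Cfsg.wOf K) := (pCoreOf_isPGroup K).to_le h.W_le_Q
  have hS2 : IsPGroup 2 ↥(Cfsg.wOf K ⊔ Q) := IsPGroup.to_sup_of_normal_left' hW2 hQ2 hQW
  have hWS : Cfsg.wOf K ≤ Cfsg.wOf K ⊔ Q := le_sup_left
  have hSN : Cfsg.wOf K ⊔ Q ≤ Subgroup.normalizer (Cfsg.wOf K : Set G) :=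
    sup_le Subgroup.le_normalizer hQW
  have : ((Cfsg.wOf K).subgroupOf (Cfsg.wOf K ⊔ Q)).Normal :=
    (Subgroup.normal_subgroupOf_iff_le_normalizer hWS).mpr hSN
  have hne : (Cfsg.wOf K).subgroupOf (Cfsg.wOf K ⊔ Q) ≠ ⊥ := by
    intro hbot
    have hcard : Nat.card ((Cfsg.wOf K).subgroupOf (Cfsg.wOf K ⊔ Q)) = 4 := by
      rw [Nat.card_congr (Subgroup.subgroupOfEquivOfLe hWS).toEquiv]; exact h.card4
    rw [hbot] at hcard
    simp at hcard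
  obtain ⟨z, hzW, hz1, hzc⟩ := Cfsg.Agent.Helper66.exists_mem_center_of_normal 2 hS2 _ hne
  have hw1W : (z : G) ∈ Cfsg.wOf K := Subgroup.mem_subgroupOf.mp hzW
  have hw11 : (z : G) ≠ 1 := fun h1 => hz1 (Subtype.ext h1)
  have hfix1 : ∀ q ∈ Q, q * (z : G) * q⁻¹ = (z : G) := by
    intro q hq
    have h2 : q * (z : G) = (z : G) * q :=
      congrArg Subtype.val
        ((Subgroup.mem_center_iff.mp hzc) ⟨q, (le_sup_right : Q ≤ Cfsg.wOf K ⊔ Q) hq⟩)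
    rw [h2]; group
  obtain ⟨k₀, hk₀, hk₀Q⟩ := h.exists_k0
  have hkN : k₀ ∈ Subgroup.normalizer (Cfsg.wOf K : Set G) :=
    h.normK_le_normW (Subgroup.le_normalizer hk₀)
  have hw2W : k₀ * (z : G) * k₀⁻¹ ∈ Cfsg.wOf K := conj_mem_of_mem_normalizer hkN hw1W
  have hw2ne : k₀ * (z : G) * k₀⁻¹ ≠ (z : G) := fun e => hw11 (h.K_moves hk₀ hk₀Q _ hw1W e)
  have hw21 : k₀ * (z : G) * k₀⁻¹ ≠ 1 := by
    intro e
    apply hw11
    have e2 : (z : G) = k₀⁻¹ * (k₀ * (z : G) * k₀⁻¹) * k₀ := by group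
    rw [e2, e]; group
  have hfix2 : ∀ q ∈ Q, q * (k₀ * (z : G) * k₀⁻¹) * q⁻¹ = k₀ * (z : G) * k₀⁻¹ := by
    intro q hq
    have hq' : k₀⁻¹ * q * k₀ ∈ Q := conj_inv_mem_of_mem_normalizer (hKQ hk₀) hq
    have h3 := hfix1 _ hq'
    calc q * (k₀ * (z : G) * k₀⁻¹) * q⁻¹
        = k₀ * ((k₀⁻¹ * q * k₀) * (z : G) * (k₀⁻¹ * q * k₀)⁻¹) * k₀⁻¹ := by group
      _ = k₀ * (z : G) * k₀⁻¹ := by rw [h3]
  intro w hw q hq
  rcases four_enum h.card4 h.sq hw1W hw2W hw11 hw21 hw2ne w hw with e | e | e | e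
  · rw [e]; group
  · rw [e]; exact hfix1 q hq
  · rw [e]; exact hfix2 q hq
  · rw [e]
    calc q * ((z : G) * (k₀ * (z : G) * k₀⁻¹)) * q⁻¹
        = (q * (z : G) * q⁻¹) * (q * (k₀ * (z : G) * k₀⁻¹) * q⁻¹) := by group
      _ = _ := by rw [hfix1 q hq, hfix2 q hq]

/-- `u` is an involution (or `1`) of `Z(Q)`. -/
def zqInv (Q : Subgroup G) (u : G) : Prop := u ∈ Q ∧ (∀ q ∈ Q, q * u = u * q) ∧ u * u = 1

theorem zqInv_conj {Q : Subgroup G} {u k : G} (hu : zqInv Q u)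
    (hk : k ∈ Subgroup.normalizer (Q : Set G)) : zqInv Q (k * u * k⁻¹) := by
  obtain ⟨h1, h2, h3⟩ := hu
  refine ⟨conj_mem_of_mem_normalizer hk h1, ?_, ?_⟩
  · intro q hq
    have hq' : k⁻¹ * q * k ∈ Q := conj_inv_mem_of_mem_normalizer hk hq
    have h4 := h2 _ hq'
    calc q * (k * u * k⁻¹) = k * ((k⁻¹ * q * k) * u) * k⁻¹ := by group
      _ = k * (u * (k⁻¹ * q * k)) * k⁻¹ := by rw [h4]
      _ = k * u * k⁻¹ * q := by group
  · calc k * u * k⁻¹ * (k * u * k⁻¹) = k * (u * u) * k⁻¹ := by group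
      _ = 1 := by rw [h3]; group

theorem zqInv_of_mem_W {K J Q : Subgroup G} (h : JC K J) (hQ2 : IsPGroup 2 Q)
    (hQK : Q ≤ Subgroup.normalizer (K : Set G)) (hKQ : K ≤ Subgroup.normalizer (Q : Set G))
    (hle : Cfsg.pCoreOf 2 K ≤ Q) {u : G} (hu : u ∈ Cfsg.wOf K) : zqInv Q u := by
  refine ⟨hle (h.W_le_Q hu), ?_, h.sq u hu⟩
  intro q hq
  have h1 := jinj_W_central h hQ2 hQK hKQ u hu q hq
  calc q * u = (q * u * q⁻¹) * q := by group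
    _ = u * q := by rw [h1]

theorem jinj_comm_mem_omega {K J Q : Subgroup G} (h : JC K J) (hQ2 : IsPGroup 2 Q)
    (hQK : Q ≤ Subgroup.normalizer (K : Set G)) (hKQ : K ≤ Subgroup.normalizer (Q : Set G))
    (hle : Cfsg.pCoreOf 2 K ≤ Q) {u k : G} (hu : zqInv Q u) (hk : k ∈ K) :
    k * u * k⁻¹ * u⁻¹ ∈ Cfsg.omegaCenterOf (Cfsg.pCoreOf 2 K) := by
  obtain ⟨hb1, hb2, hb3⟩ := zqInv_conj hu (hKQ hk)
  obtain ⟨h1, h2, h3⟩ := hu
  have huinv : u⁻¹ = u := inv_eq_of_mul_eq_one_left h3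
  have heQ : k * u * k⁻¹ * u⁻¹ ∈ Q := Q.mul_mem hb1 (Q.inv_mem h1)
  have heK : k * u * k⁻¹ * u⁻¹ ∈ K := by
    have h4 : u * k⁻¹ * u⁻¹ ∈ K := conj_mem_of_mem_normalizer (hQK h1) (K.inv_mem hk)
    have e : k * u * k⁻¹ * u⁻¹ = k * (u * k⁻¹ * u⁻¹) := by group
    rw [e]; exact K.mul_mem hk h4
  obtain ⟨n, hn⟩ := isPGroup_pow_eq_one hQ2 heQ
  have heP : k * u * k⁻¹ * u⁻¹ ∈ Cfsg.pCoreOf 2 K := h.two_elt_mem_Q heK hn
  apply mem_omegaCenterOf heP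
  · intro y hy
    have hyQ := hle hy
    have c1 : y * (k * u * k⁻¹) = (k * u * k⁻¹) * y := hb2 y hyQ
    have c2 : y * u = u * y := h2 y hyQ
    rw [huinv]
    calc y * (k * u * k⁻¹ * u) = (y * (k * u * k⁻¹)) * u := by group
      _ = (k * u * k⁻¹) * (y * u) := by rw [c1]; group
      _ = k * u * k⁻¹ * u * y := by rw [c2]; group
  · rw [huinv, pow_two]
    have c1 : u * (k * u * k⁻¹) = (k * u * k⁻¹) * u := hb2 u h1
    calc k * u * k⁻¹ * u * (k * u * k⁻¹ * u)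
        = (k * u * k⁻¹) * (u * (k * u * k⁻¹)) * u := by group
      _ = (k * u * k⁻¹) * ((k * u * k⁻¹) * u) * u := by rw [c1]
      _ = ((k * u * k⁻¹) * (k * u * k⁻¹)) * (u * u) := by group
      _ = 1 := by rw [hb3, h3, one_mul]

theorem jinj_alg {u b c k : G} (hb2 : b * b = 1) (hc2 : c * c = 1) (hcb : c * b = b * c)
    (hc : k * b * k⁻¹ = c) (hu : k * c * k⁻¹ = u) : ⁅c * b⁻¹, k⁆ = b * u⁻¹ := by
  have hbinv : b⁻¹ = b := inv_eq_of_mul_eq_one_left hb2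
  rw [commutatorElement_def]
  calc c * b⁻¹ * k * (c * b⁻¹)⁻¹ * k⁻¹ = c * b⁻¹ * (k * b * k⁻¹) * (k * c * k⁻¹)⁻¹ := by group
    _ = c * b⁻¹ * c * u⁻¹ := by rw [hc, hu]
    _ = c * b * c * u⁻¹ := by rw [hbinv]
    _ = b * (c * c) * u⁻¹ := by rw [hcb]; group
    _ = b * u⁻¹ := by rw [hc2, mul_one]

/-- `[Ω₁(Z(Q)), K] ≤ W_K`, elementwise. -/
theorem jinj_comm_mem_W {K J Q : Subgroup G} (h : JC K J) (hQ2 : IsPGroup 2 Q)
    (hQK : Q ≤ Subgroup.normalizer (K : Set G)) (hKQ : K ≤ Subgroup.normalizer (Q : Set G))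
    (hle : Cfsg.pCoreOf 2 K ≤ Q) {u k : G} (hu : zqInv Q u) (hk : k ∈ K) :
    k * u * k⁻¹ * u⁻¹ ∈ Cfsg.wOf K := by
  have hb : zqInv Q (k * u * k⁻¹) := zqInv_conj hu (hKQ hk)
  have hc : zqInv Q (k * (k * u * k⁻¹) * k⁻¹) := zqInv_conj hb (hKQ hk)
  have he := jinj_comm_mem_omega h hQ2 hQK hKQ hle hb hk
  have hmem : ⁅k * (k * u * k⁻¹) * k⁻¹ * (k * u * k⁻¹)⁻¹, k⁆ ∈ Cfsg.wOf K := by
    unfold Cfsg.wOf
    exact Subgroup.commutator_mem_commutator he hk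
  have hk3 : k ^ 3 ∈ Q := hle (h.pow_three_mem k hk)
  have e3 : k ^ 3 = k * k * k := by rw [pow_succ, pow_two]
  rw [e3] at hk3
  have hk3u : k * k * k * u = u * (k * k * k) := hu.2.1 _ hk3
  have hkc : k * (k * (k * u * k⁻¹) * k⁻¹) * k⁻¹ = u := by
    calc k * (k * (k * u * k⁻¹) * k⁻¹) * k⁻¹ = (k * k * k * u) * (k * k * k)⁻¹ := by group
      _ = u := by rw [hk3u]; group
  have hcb : k * (k * u * k⁻¹) * k⁻¹ * (k * u * k⁻¹) = (k * u * k⁻¹) * (k * (k * u * k⁻¹) * k⁻¹) :=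
    hb.2.1 _ hc.1
  rw [jinj_alg hb.2.2 hc.2.2 hcb rfl hkc] at hmem
  exact hmem

end

end Cfsg.Agent.Helper10
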