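import Mathlib
import Cfsg.Agent.Helper10.JInj

/-!
Helper10: uniqueness of `J(T)`-components with a given `W_K` (continued): the orbit count
(`jinj_W_eq`) and the final statement `jinj_le`.
-/

set_option autoImplicit false

namespace Cfsg.Agent.Helper10

open scoped commutatorElement
open Cfsg.Agent.Helper49 Cfsg.Agent.Helper47

section

variable {G : Type*} [Group G] [Finite G]

/-- `K` normalizes `W_K W_{K'}`. -/
theorem jinj_norm_sup {K K' J Q : Subgroup G} (h : JC K J) (h' : JC K' J) (hQ2 : IsPGroup 2 Q)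
    (hQK : Q ≤ Subgroup.normalizer (K : Set G)) (hKQ : K ≤ Subgroup.normalizer (Q : Set G))
    (hle : Cfsg.pCoreOf 2 K ≤ Q)
    (hQK' : Q ≤ Subgroup.normalizer (K' : Set G)) (hK'Q : K' ≤ Subgroup.normalizer (Q : Set G))
    (hle' : Cfsg.pCoreOf 2 K' ≤ Q) :
    K ≤ Subgroup.normalizer ((Cfsg.wOf K ⊔ Cfsg.wOf K' : Subgroup G) : Set G) := by
  apply mem_normalizer_of_forall_conj
  intro k hk m hm
  have hmap : (Cfsg.wOf K ⊔ Cfsg.wOf K').map (MulAut.conj k).toMonoidHom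
      ≤ Cfsg.wOf K ⊔ Cfsg.wOf K' := by
    rw [Subgroup.map_sup]
    refine sup_le ?_ ?_
    · rintro _ ⟨u, hu, rfl⟩
      have h1 : k * u * k⁻¹ ∈ Cfsg.wOf K :=
        conj_mem_of_mem_normalizer (h.normK_le_normW (Subgroup.le_normalizer hk)) hu
      exact (le_sup_left : Cfsg.wOf K ≤ Cfsg.wOf K ⊔ Cfsg.wOf K') h1
    · rintro _ ⟨u, hu, rfl⟩
      have hz : zqInv Q u := zqInv_of_mem_W h' hQ2 hQK' hK'Q hle' hu
      have h1 : k * u * k⁻¹ * u⁻¹ ∈ Cfsg.wOf K := jinj_comm_mem_W h hQ2 hQK hKQ hle hz hk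
      have e : (MulAut.conj k).toMonoidHom u = (k * u * k⁻¹ * u⁻¹) * u := by
        show k * u * k⁻¹ = _
        group
      rw [e]
      exact Subgroup.mul_mem _ ((le_sup_left : Cfsg.wOf K ≤ Cfsg.wOf K ⊔ Cfsg.wOf K') h1)
        ((le_sup_right : Cfsg.wOf K' ≤ Cfsg.wOf K ⊔ Cfsg.wOf K') hu)
  exact hmap ⟨m, hm, rfl⟩

/-- The orbit count: if `W_K ∩ W_{K'} ≠ 1` then `W_K = W_{K'}`, and a suitable element of `K`
moves a common involution like `y`. -/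
theorem jinj_W_eq {K K' J Q R : Subgroup G} (h : JC K J) (h' : JC K' J) (hQ2 : IsPGroup 2 Q)
    (hQK : Q ≤ Subgroup.normalizer (K : Set G)) (hKQ : K ≤ Subgroup.normalizer (Q : Set G))
    (hle : Cfsg.pCoreOf 2 K ≤ Q)
    (hQK' : Q ≤ Subgroup.normalizer (K' : Set G)) (hK'Q : K' ≤ Subgroup.normalizer (Q : Set G))
    (hle' : Cfsg.pCoreOf 2 K' ≤ Q)
    (hR : IsPGroup 3 R) {x y : G} (hxK : x ∈ K) (hxR : x ∈ R) (hx1 : x ≠ 1)
    (hyK : y ∈ K') (hyR : y ∈ R) (hy1 : y ≠ 1)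
    (hW : Cfsg.wOf K ⊓ Cfsg.wOf K' ≠ ⊥) :
    Cfsg.wOf K' = Cfsg.wOf K ∧ ∃ w ∈ Cfsg.wOf K, w ≠ 1 ∧
      ∃ x1 ∈ K, x1 ∈ R ∧ x1 ∉ Cfsg.pCoreOf 2 K ∧ x1 * w * x1⁻¹ = y * w * y⁻¹ := by
  classical
  have : Fact (Nat.Prime 2) := ⟨Nat.prime_two⟩
  have : Fact (Nat.Prime 3) := ⟨Nat.prime_three⟩
  have hPK : IsPGroup 2 (Cfsg.pCoreOf 2 K) := pCoreOf_isPGroup K
  have hPK' : IsPGroup 2 (Cfsg.pCoreOf 2 K') := pCoreOf_isPGroup K'
  have hxQ : x ∉ Cfsg.pCoreOf 2 K := not_mem_two_of_three hR hPK hxR hx1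
  have hyQ : y ∉ Cfsg.pCoreOf 2 K' := not_mem_two_of_three hR hPK' hyR hy1
  have hxx1 : x * x ≠ 1 := by
    intro e
    obtain ⟨n, hn⟩ := isPGroup_pow_eq_one hR hxR
    exact hx1 (eq_one_of_two_three (m := 1) (by rw [pow_one, pow_two]; exact e) hn)
  have hxxQ : x * x ∉ Cfsg.pCoreOf 2 K :=
    not_mem_two_of_three hR hPK (R.mul_mem hxR hxR) hxx1
  have hWz : ∀ u ∈ Cfsg.wOf K, zqInv Q u := fun u hu => zqInv_of_mem_W h hQ2 hQK hKQ hle hu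
  have hW'z : ∀ u ∈ Cfsg.wOf K', zqInv Q u :=
    fun u hu => zqInv_of_mem_W h' hQ2 hQK' hK'Q hle' hu
  have hKM := jinj_norm_sup h h' hQ2 hQK hKQ hle hQK' hK'Q hle'
  have hK'M : K' ≤ Subgroup.normalizer ((Cfsg.wOf K ⊔ Cfsg.wOf K' : Subgroup G) : Set G) := by
    have := jinj_norm_sup h' h hQ2 hQK' hK'Q hle' hQK hKQ hle
    rwa [sup_comm] at this
  have hxM := hKM hxK
  have hyM := hK'M hyK
  have hR0R : Subgroup.closure {x, y} ≤ R := by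
    rw [Subgroup.closure_le]
    rintro _ (rfl | rfl)
    · exact hxR
    · exact hyR
  have hR0 : IsPGroup 3 (Subgroup.closure {x, y}) := hR.to_le hR0R
  have hR0M : Subgroup.closure {x, y} ≤
      Subgroup.normalizer ((Cfsg.wOf K ⊔ Cfsg.wOf K' : Subgroup G) : Set G) := by
    rw [Subgroup.closure_le]
    rintro _ (rfl | rfl)
    · exact hxM
    · exact hyM
  have hxR0 : x ∈ Subgroup.closure {x, y} := Subgroup.subset_closure (Set.mem_insert _ _)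
  have hyR0 : y ∈ Subgroup.closure {x, y} :=
    Subgroup.subset_closure (Set.mem_insert_of_mem _ rfl)
  -- `|W W'| ≤ 8`
  have hWW' : Cfsg.wOf K ≤ Subgroup.normalizer (Cfsg.wOf K' : Set G) := by
    apply mem_normalizer_of_forall_conj
    intro g hg u hu
    have h1 := (hW'z u hu).2.1 g (hWz g hg).1
    have e : g * u * g⁻¹ = u := by rw [h1]; group
    rw [e]; exact hu
  have hcard := Cfsg.Agent.Helper50.card_mul_card_eq_of_le_normalizer hWW'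
  rw [h.card4, h'.card4] at hcard
  have hc2 : 1 < Nat.card ↥(Cfsg.wOf K ⊓ Cfsg.wOf K') := (Subgroup.one_lt_card_iff_ne_bot _).mpr hW
  have hM8 : Nat.card ↥(Cfsg.wOf K ⊔ Cfsg.wOf K') ≤ 8 := by nlinarith
  obtain ⟨⟨w, hw⟩, hw1'⟩ := Subgroup.ne_bot_iff_exists_ne_one.mp hW
  have hw1 : w ≠ 1 := fun e => hw1' (Subtype.ext e)
  obtain ⟨hwW, hwW'⟩ := Subgroup.mem_inf.mp hw
  -- the conjugation action of `⟨x, y⟩`
  let act : MulAction ↥(Subgroup.closure {x, y}) G :=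
    MulAction.compHom G ((MulAut.conj : G →* MulAut G).comp (Subgroup.closure {x, y}).subtype)
  have hsmul : ∀ (r : ↥(Subgroup.closure {x, y})) (g : G),
      r • g = (r : G) * g * (r : G)⁻¹ := fun r g => rfl
  obtain ⟨n, hn⟩ := hR0.card_orbit w
  have horbM : MulAction.orbit ↥(Subgroup.closure {x, y}) w ⊆
      ((Cfsg.wOf K ⊔ Cfsg.wOf K' : Subgroup G) : Set G) \ {1} := by
    intro g hg
    obtain ⟨r, rfl⟩ := MulAction.mem_orbit_iff.mp hg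
    rw [hsmul]
    refine ⟨?_, ?_⟩
    · exact conj_mem_of_mem_normalizer (hR0M r.2)
        ((le_sup_left : Cfsg.wOf K ≤ Cfsg.wOf K ⊔ Cfsg.wOf K') hwW)
    · intro e
      apply hw1
      have e' : (r : G) * w * (r : G)⁻¹ = 1 := e
      have e2 : w = (r : G)⁻¹ * ((r : G) * w * (r : G)⁻¹) * (r : G) := by group
      rw [e2, e']; group
  have hcardorb : (MulAction.orbit ↥(Subgroup.closure {x, y}) w).ncard ≤ 7 := by
    have h1 := Set.ncard_le_ncard horbM (Set.toFinite _)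
    have h2 : (((Cfsg.wOf K ⊔ Cfsg.wOf K' : Subgroup G) : Set G) \ {1}).ncard
        = ((Cfsg.wOf K ⊔ Cfsg.wOf K' : Subgroup G) : Set G).ncard - 1 :=
      Set.ncard_sdiff_singleton_of_mem (Subgroup.one_mem _)
    have h3 : ((Cfsg.wOf K ⊔ Cfsg.wOf K' : Subgroup G) : Set G).ncard
        = Nat.card ↥(Cfsg.wOf K ⊔ Cfsg.wOf K') := (Nat.card_coe_set_eq _).symm
    omega
  have hn' : (MulAction.orbit ↥(Subgroup.closure {x, y}) w).ncard = 3 ^ n := by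
    rw [← Nat.card_coe_set_eq]; exact hn
  have hn1 : n ≤ 1 := by
    by_contra hcon
    push Not at hcon
    have h9 : 3 ^ 2 ≤ 3 ^ n := Nat.pow_le_pow_right (by norm_num) hcon
    omega
  have horb3 : (MulAction.orbit ↥(Subgroup.closure {x, y}) w).ncard ≤ 3 := by
    rw [hn']
    calc 3 ^ n ≤ 3 ^ 1 := Nat.pow_le_pow_right (by norm_num) hn1
      _ = 3 := by norm_num
  have hm0 : w ∈ MulAction.orbit ↥(Subgroup.closure {x, y}) w := MulAction.mem_orbit_self w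
  have hm1 : x * w * x⁻¹ ∈ MulAction.orbit ↥(Subgroup.closure {x, y}) w :=
    MulAction.mem_orbit_iff.mpr ⟨⟨x, hxR0⟩, rfl⟩
  have hm2 : (x * x) * w * (x * x)⁻¹ ∈ MulAction.orbit ↥(Subgroup.closure {x, y}) w :=
    MulAction.mem_orbit_iff.mpr ⟨⟨x * x, Subgroup.mul_mem _ hxR0 hxR0⟩, rfl⟩
  have hm3 : y * w * y⁻¹ ∈ MulAction.orbit ↥(Subgroup.closure {x, y}) w :=
    MulAction.mem_orbit_iff.mpr ⟨⟨y, hyR0⟩, rfl⟩
  have hd1 : x * w * x⁻¹ ≠ w := fun e => hw1 (h.K_moves hxK hxQ w hwW e)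
  have hd2 : (x * x) * w * (x * x)⁻¹ ≠ w :=
    fun e => hw1 (h.K_moves (K.mul_mem hxK hxK) hxxQ w hwW e)
  have hd3 : (x * x) * w * (x * x)⁻¹ ≠ x * w * x⁻¹ := by
    intro e
    apply hd1
    have e2 : x * w * x⁻¹ = x⁻¹ * ((x * x) * w * (x * x)⁻¹) * x := by group
    rw [e2, e]; group
  have hS3 : ({w, x * w * x⁻¹, (x * x) * w * (x * x)⁻¹} : Set G).ncard = 3 :=
    Set.ncard_eq_three.mpr
      ⟨_, _, _, fun e => hd1 e.symm, fun e => hd2 e.symm, fun e => hd3 e.symm, rfl⟩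
  have hsub : ({w, x * w * x⁻¹, (x * x) * w * (x * x)⁻¹} : Set G) ⊆
      MulAction.orbit ↥(Subgroup.closure {x, y}) w := by
    intro g hg
    rcases hg with rfl | rfl | rfl
    · exact hm0
    · exact hm1
    · exact hm2
  have heq := Set.eq_of_subset_of_ncard_le hsub (by rw [hS3]; exact horb3) (Set.toFinite _)
  have hy3 : y * w * y⁻¹ ∈ ({w, x * w * x⁻¹, (x * x) * w * (x * x)⁻¹} : Set G) := by
    rw [heq]; exact hm3
  have hyw : y * w * y⁻¹ ≠ w := fun e => hw1 (h'.K_moves hyK hyQ w hwW' e)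
  have hx1ex : ∃ x1 ∈ K, x1 ∈ R ∧ x1 ∉ Cfsg.pCoreOf 2 K ∧ x1 * w * x1⁻¹ = y * w * y⁻¹ := by
    rcases hy3 with e | e | e
    · exact absurd e hyw
    · exact ⟨x, hxK, hxR, hxQ, e.symm⟩
    · exact ⟨x * x, K.mul_mem hxK hxK, R.mul_mem hxR hxR, hxxQ, e.symm⟩
  obtain ⟨x1, hx1K, hx1R, hx1Q, hx1w⟩ := hx1ex
  have hvW : y * w * y⁻¹ ∈ Cfsg.wOf K := by
    rw [← hx1w]
    exact conj_mem_of_mem_normalizer (h.normK_le_normW (Subgroup.le_normalizer hx1K)) hwW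
  have hvW' : y * w * y⁻¹ ∈ Cfsg.wOf K' :=
    conj_mem_of_mem_normalizer (h'.normK_le_normW (Subgroup.le_normalizer hyK)) hwW'
  have hv1 : y * w * y⁻¹ ≠ 1 := by
    intro e
    apply hw1
    have e2 : w = y⁻¹ * (y * w * y⁻¹) * y := by group
    rw [e2, e]; group
  have hWle : Cfsg.wOf K ≤ Cfsg.wOf K' := by
    intro u hu
    rcases four_enum h.card4 h.sq hwW hvW hw1 hv1 hyw u hu with e | e | e | e
    · rw [e]; exact Subgroup.one_mem _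
    · rw [e]; exact hwW'
    · rw [e]; exact hvW'
    · rw [e]; exact Subgroup.mul_mem _ hwW' hvW'
  have hWeq : Cfsg.wOf K = Cfsg.wOf K' :=
    Subgroup.eq_of_le_of_card_ge hWle (by rw [h.card4, h'.card4])
  exact ⟨hWeq.symm, w, hwW, hw1, x1, hx1K, hx1R, hx1Q, hx1w⟩

/-- **Uniqueness of `J`-components with a given `W`.** -/
theorem jinj_le {K K' J Q R : Subgroup G} (h : JC K J) (h' : JC K' J) (hQ2 : IsPGroup 2 Q)
    (hQK : Q ≤ Subgroup.normalizer (K : Set G)) (hKQ : K ≤ Subgroup.normalizer (Q : Set G))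
    (hle : Cfsg.pCoreOf 2 K ≤ Q)
    (hQK' : Q ≤ Subgroup.normalizer (K' : Set G)) (hK'Q : K' ≤ Subgroup.normalizer (Q : Set G))
    (hle' : Cfsg.pCoreOf 2 K' ≤ Q)
    (hR : IsPGroup 3 R) {x y : G} (hxK : x ∈ K) (hxR : x ∈ R) (hx1 : x ≠ 1)
    (hyK : y ∈ K') (hyR : y ∈ R) (hy1 : y ≠ 1)
    (hC : ∀ c ∈ R, (∀ u, zqInv Q u → c * u * c⁻¹ = u) → ∀ a ∈ J, c * a * c⁻¹ * a⁻¹ ∈ Q)
    (hW : Cfsg.wOf K ⊓ Cfsg.wOf K' ≠ ⊥) : K' ≤ K := by
  classical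
  have : Fact (Nat.Prime 2) := ⟨Nat.prime_two⟩
  obtain ⟨hWW, w, hwW, hw1, x1, hx1K, hx1R, hx1Q, hx1w⟩ :=
    jinj_W_eq h h' hQ2 hQK hKQ hle hQK' hK'Q hle' hR hxK hxR hx1 hyK hyR hy1 hW
  have hPK' : IsPGroup 2 (Cfsg.pCoreOf 2 K') := pCoreOf_isPGroup K'
  have hyQ : y ∉ Cfsg.pCoreOf 2 K' := not_mem_two_of_three hR hPK' hyR hy1
  have hcR : x1⁻¹ * y ∈ R := R.mul_mem (R.inv_mem hx1R) hyR
  obtain ⟨n, hn⟩ := isPGroup_pow_eq_one hR hcR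
  have hyN : y ∈ Subgroup.normalizer (Cfsg.wOf K : Set G) := by
    rw [← hWW]
    exact h'.normK_le_normW (Subgroup.le_normalizer hyK)
  have hcN : x1⁻¹ * y ∈ Subgroup.normalizer (Cfsg.wOf K : Set G) :=
    Subgroup.mul_mem _ (h.normK_le_normW (Subgroup.le_normalizer (K.inv_mem hx1K))) hyN
  have hcw : (x1⁻¹ * y) * w * (x1⁻¹ * y)⁻¹ = w := by
    calc (x1⁻¹ * y) * w * (x1⁻¹ * y)⁻¹ = x1⁻¹ * (y * w * y⁻¹) * x1 := by group
      _ = x1⁻¹ * (x1 * w * x1⁻¹) * x1 := by rw [hx1w]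
      _ = w := by group
  -- `c = x1⁻¹ y` centralizes `W`
  have hkey : ∀ v ∈ Cfsg.wOf K,
      ((x1⁻¹ * y) * (x1⁻¹ * y)) * v * ((x1⁻¹ * y) * (x1⁻¹ * y))⁻¹ = v := by
    intro v hv
    by_cases hf : (x1⁻¹ * y) * v * (x1⁻¹ * y)⁻¹ = v
    · calc ((x1⁻¹ * y) * (x1⁻¹ * y)) * v * ((x1⁻¹ * y) * (x1⁻¹ * y))⁻¹
          = (x1⁻¹ * y) * ((x1⁻¹ * y) * v * (x1⁻¹ * y)⁻¹) * (x1⁻¹ * y)⁻¹ := by group
        _ = v := by rw [hf, hf]
    · obtain ⟨e, -, -⟩ := four_conj h.card4 h.sq hcN hwW hw1 hcw hv hf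
      calc ((x1⁻¹ * y) * (x1⁻¹ * y)) * v * ((x1⁻¹ * y) * (x1⁻¹ * y))⁻¹
          = (x1⁻¹ * y) * ((x1⁻¹ * y) * v * (x1⁻¹ * y)⁻¹) * (x1⁻¹ * y)⁻¹ := by group
        _ = (x1⁻¹ * y) * (w * v) * (x1⁻¹ * y)⁻¹ := by rw [e]
        _ = ((x1⁻¹ * y) * w * (x1⁻¹ * y)⁻¹) * ((x1⁻¹ * y) * v * (x1⁻¹ * y)⁻¹) := by group
        _ = w * (w * v) := by rw [hcw, e]
        _ = v := by rw [← mul_assoc, h.sq w hwW, one_mul]
  have hc2 : (x1⁻¹ * y) ^ 2 ∈ Subgroup.centralizer (Cfsg.wOf K : Set G) := by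
    rw [Subgroup.mem_centralizer_iff, pow_two]
    intro v hv
    have h1 := hkey v hv
    calc v * ((x1⁻¹ * y) * (x1⁻¹ * y))
        = (((x1⁻¹ * y) * (x1⁻¹ * y)) * v * ((x1⁻¹ * y) * (x1⁻¹ * y))⁻¹) * ((x1⁻¹ * y) * (x1⁻¹ * y)) := by
          rw [h1]
      _ = ((x1⁻¹ * y) * (x1⁻¹ * y)) * v := by group
  have hcC : x1⁻¹ * y ∈ Subgroup.centralizer (Cfsg.wOf K : Set G) :=
    mem_of_pow_mem_of_coprime (m := 2) (n := 3 ^ n) (Nat.Coprime.pow_right n (by norm_num)) hc2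
      (by rw [hn]; exact Subgroup.one_mem _)
  have hcfix : ∀ v ∈ Cfsg.wOf K, (x1⁻¹ * y) * v * (x1⁻¹ * y)⁻¹ = v := by
    intro v hv
    have h1 := (Subgroup.mem_centralizer_iff.mp hcC) v hv
    rw [← h1]; group
  -- `c` centralizes the involutions of `Z(Q)`
  have hcu : ∀ u, zqInv Q u → (x1⁻¹ * y) * u * (x1⁻¹ * y)⁻¹ = u := by
    intro u hu
    have hu' : zqInv Q (y * u * y⁻¹) := zqInv_conj hu (hK'Q hyK)
    have hd2 : y * u * y⁻¹ * u⁻¹ ∈ Cfsg.wOf K := by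
      rw [← hWW]
      exact jinj_comm_mem_W h' hQ2 hQK' hK'Q hle' hu hyK
    have hd1 : x1⁻¹ * (y * u * y⁻¹) * x1⁻¹⁻¹ * (y * u * y⁻¹)⁻¹ ∈ Cfsg.wOf K :=
      jinj_comm_mem_W h hQ2 hQK hKQ hle hu' (K.inv_mem hx1K)
    have hwc : (x1⁻¹ * (y * u * y⁻¹) * x1⁻¹⁻¹ * (y * u * y⁻¹)⁻¹) * (y * u * y⁻¹ * u⁻¹)
        ∈ Cfsg.wOf K := Subgroup.mul_mem _ hd1 hd2
    have he : (x1⁻¹ * y) * u * (x1⁻¹ * y)⁻¹
        = ((x1⁻¹ * (y * u * y⁻¹) * x1⁻¹⁻¹ * (y * u * y⁻¹)⁻¹) * (y * u * y⁻¹ * u⁻¹)) * u := by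
      group
    obtain ⟨wc, hwcdef⟩ : ∃ wc, wc =
        (x1⁻¹ * (y * u * y⁻¹) * x1⁻¹⁻¹ * (y * u * y⁻¹)⁻¹) * (y * u * y⁻¹ * u⁻¹) := ⟨_, rfl⟩
    rw [← hwcdef] at hwc he
    obtain ⟨c, hcdef⟩ : ∃ c, c = x1⁻¹ * y := ⟨_, rfl⟩
    rw [← hcdef] at he hn ⊢
    have hcwc : c * wc * c⁻¹ = wc := by
      rw [hcdef]; exact hcfix wc hwc
    have hpow : ∀ m : ℕ, c ^ m * u * (c ^ m)⁻¹ = wc ^ m * u := by
      intro m
      induction m with
      | zero => simp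
      | succ m ih =>
        have hcm : c * wc ^ m * c⁻¹ = wc ^ m := by
          rw [← conj_pow, hcwc]
        calc c ^ (m + 1) * u * (c ^ (m + 1))⁻¹ = c * (c ^ m * u * (c ^ m)⁻¹) * c⁻¹ := by
              rw [pow_succ']; group
          _ = c * (wc ^ m * u) * c⁻¹ := by rw [ih]
          _ = (c * wc ^ m * c⁻¹) * (c * u * c⁻¹) := by group
          _ = wc ^ m * (wc * u) := by rw [hcm, he]
          _ = wc ^ (m + 1) * u := by rw [pow_succ]; group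
    have h3 := hpow (3 ^ n)
    rw [hn] at h3
    have h4 : wc ^ 3 ^ n = 1 := by
      have h5 : (1 : G) * u * (1 : G)⁻¹ = u := by group
      rw [h5] at h3
      exact (mul_eq_right.mp h3.symm)
    have h6 : wc = 1 :=
      eq_one_of_two_three (m := 1) (by rw [pow_one, pow_two]; exact h.sq wc hwc) h4
    rw [he, h6, one_mul]
  have hCa := hC _ hcR hcu
  -- the element `k0 = [y, a]`
  obtain ⟨a, haJ, haC⟩ := h'.exists_a
  have haS : a ∈ jcS K' J := h'.J_le_S haJ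
  have hk0K' : y * a * y⁻¹ * a⁻¹ ∈ K' := by
    have h1 : a * y⁻¹ * a⁻¹ ∈ K' :=
      conj_mem_of_mem_normalizer (h'.J_le_normK haJ) (K'.inv_mem hyK)
    have e : y * a * y⁻¹ * a⁻¹ = y * (a * y⁻¹ * a⁻¹) := by group
    rw [e]; exact K'.mul_mem hyK h1
  have hk0Q : y * a * y⁻¹ * a⁻¹ ∉ Cfsg.pCoreOf 2 K' := by
    intro hk0
    obtain ⟨w₀, hw₀, hw₀1, hfix⟩ := h'.exists_w0
    have hvW' : y * w₀ * y⁻¹ ∈ Cfsg.wOf K' :=
      conj_mem_of_mem_normalizer (h'.normK_le_normW (Subgroup.le_normalizer hyK)) hw₀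
    have havW' : a * (y * w₀ * y⁻¹) * a⁻¹ ∈ Cfsg.wOf K' :=
      conj_mem_of_mem_normalizer (h'.S_le_normW haS) hvW'
    have hk0c := (Subgroup.mem_centralizer_iff.mp (h'.Q_le_centW hk0)) _ havW'
    have hav : a * (y * w₀ * y⁻¹) * a⁻¹ = y * w₀ * y⁻¹ := by
      calc a * (y * w₀ * y⁻¹) * a⁻¹
          = (a * (y * w₀ * y⁻¹) * a⁻¹ * (y * a * y⁻¹ * a⁻¹)) * (y * a * y⁻¹ * a⁻¹)⁻¹ := by group
        _ = ((y * a * y⁻¹ * a⁻¹) * (a * (y * w₀ * y⁻¹) * a⁻¹)) * (y * a * y⁻¹ * a⁻¹)⁻¹ := by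
            rw [hk0c]
        _ = y * (a * w₀ * a⁻¹) * y⁻¹ := by group
        _ = y * w₀ * y⁻¹ := by rw [hfix a haS]
    rcases h'.fix_of_not_central hw₀ hw₀1 hfix haS haC _ hvW' hav with e | e
    · apply hw₀1
      have e2 : w₀ = y⁻¹ * (y * w₀ * y⁻¹) * y := by group
      rw [e2, e]; group
    · exact hw₀1 (h'.K_moves hyK hyQ w₀ hw₀ e)
  have hk0H : y * a * y⁻¹ * a⁻¹ ∈ K ⊔ Q := by
    have h1 : a * x1⁻¹ * a⁻¹ ∈ K :=
      conj_mem_of_mem_normalizer (h.J_le_normK haJ) (K.inv_mem hx1K)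
    have e : y * a * y⁻¹ * a⁻¹
        = x1 * ((x1⁻¹ * y) * a * (x1⁻¹ * y)⁻¹ * a⁻¹) * (a * x1⁻¹ * a⁻¹) := by group
    rw [e]
    exact Subgroup.mul_mem _ (Subgroup.mul_mem _ ((le_sup_left : K ≤ K ⊔ Q) hx1K)
      ((le_sup_right : Q ≤ K ⊔ Q) (hCa a haJ))) ((le_sup_left : K ≤ K ⊔ Q) h1)
  have hK'le : K' ≤ K ⊔ Q := h'.K_le_of (hle'.trans le_sup_right) hk0K' hk0Q hk0H
  -- odd order elements of `K Q` lie in `K`
  rw [← h'.gen, Subgroup.closure_le]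
  rintro g ⟨hgK', hodd⟩
  obtain ⟨k, hk, q, hq, rfl⟩ := exists_mul_of_mem_sup hQK (hK'le hgK')
  have hpow : ∀ m : ℕ, ∃ k' ∈ K, (k * q) ^ m = k' * q ^ m := by
    intro m
    induction m with
    | zero => exact ⟨1, K.one_mem, by simp⟩
    | succ m ih =>
      obtain ⟨k', hk', e⟩ := ih
      refine ⟨k' * (q ^ m * k * (q ^ m)⁻¹), K.mul_mem hk'
        (conj_mem_of_mem_normalizer (hQK (Q.pow_mem hq m)) hk), ?_⟩
      rw [pow_succ, e, pow_succ]; group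
  obtain ⟨m, hm⟩ := isPGroup_pow_eq_one hQ2 hq
  obtain ⟨k', hk', e⟩ := hpow (2 ^ m)
  rw [hm, mul_one] at e
  have hcop : Nat.Coprime (2 ^ m) (orderOf (k * q)) :=
    Nat.Coprime.pow_left m (Nat.coprime_two_left.mpr hodd)
  exact mem_of_pow_mem_of_coprime hcop (by rw [e]; exact hk')
    (by rw [pow_orderOf_eq_one]; exact K.one_mem)

end

end Cfsg.Agent.Helper10
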