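import Mathlib

namespace Cfsg.Agent.Helper10

theorem s3_pell_core (x k : ℤ) (hx : 0 < x) (h : x * (x + 1) = 8 * k ^ 2) :
    ∃ s : ℤ, s ≠ 0 ∧ x = 8 * s ^ 2 := by
  have hmod : (x * (x + 1)) % 8 = 0 := by
    rw [h]; exact Int.mul_emod_right 8 (k ^ 2)
  have h8 : x % 8 = 0 ∨ x % 8 = 1 ∨ x % 8 = 2 ∨ x % 8 = 3 ∨ x % 8 = 4 ∨ x % 8 = 5 ∨
      x % 8 = 6 ∨ x % 8 = 7 := by omega
  have h07 : x % 8 = 0 ∨ x % 8 = 7 := by
    rcases h8 with h8 | h8 | h8 | h8 | h8 | h8 | h8 | h8 <;>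
      simp [Int.mul_emod, Int.add_emod, h8] at hmod <;> omega
  rcases h07 with h0 | h7
  · obtain ⟨w, rfl⟩ : (8 : ℤ) ∣ x := Int.dvd_of_emod_eq_zero h0
    have hw : 0 < w := by omega
    have hk : w * (8 * w + 1) = k ^ 2 := by nlinarith
    have hg : Int.gcd w (8 * w + 1) = 1 := by
      rw [← Int.isCoprime_iff_gcd_eq_one]
      exact ⟨-8, 1, by ring⟩
    obtain ⟨s, hs | hs⟩ := Int.sq_of_gcd_eq_one hg hk
    · refine ⟨s, ?_, by rw [hs]⟩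
      rintro rfl
      simp at hs
      omega
    · exfalso
      have : 0 ≤ s ^ 2 := sq_nonneg s
      omega
  · exfalso
    obtain ⟨w, hw⟩ : (8 : ℤ) ∣ x + 1 := Int.dvd_of_emod_eq_zero (by omega)
    have hk : x * w = k ^ 2 := by
      have : x * (8 * w) = 8 * k ^ 2 := by rw [← hw]; exact h
      nlinarith
    have hg : Int.gcd x w = 1 := by
      rw [← Int.isCoprime_iff_gcd_eq_one]
      exact ⟨-1, 8, by linarith⟩
    obtain ⟨u, hu | hu⟩ := Int.sq_of_gcd_eq_one hg hk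
    · have hu8 : u % 8 = 0 ∨ u % 8 = 1 ∨ u % 8 = 2 ∨ u % 8 = 3 ∨ u % 8 = 4 ∨ u % 8 = 5 ∨
          u % 8 = 6 ∨ u % 8 = 7 := by omega
      have hxu : x % 8 = (u ^ 2) % 8 := by rw [hu]
      rw [h7, pow_two] at hxu
      rcases hu8 with h8 | h8 | h8 | h8 | h8 | h8 | h8 | h8 <;>
        simp [Int.mul_emod, h8] at hxu
    · have : 0 ≤ u ^ 2 := sq_nonneg u
      omega

theorem s3_pell (x P : ℤ) (h : 8 * (x - P) ^ 2 = 9 * x * (1 + x)) (hx0 : x ≠ 0) (hx1 : x ≠ -1) :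
    ∃ s : ℤ, s ≠ 0 ∧ (x = 8 * s ^ 2 ∨ x = -1 - 8 * s ^ 2) := by
  have h3 : (3 : ℤ) ∣ x - P := by
    have h9 : (3 : ℤ) ∣ 8 * (x - P) ^ 2 := by
      rw [h]; exact ⟨3 * x * (1 + x), by ring⟩
    have h3p : Prime (3 : ℤ) := Int.prime_three
    rcases h3p.dvd_or_dvd h9 with h' | h'
    · norm_num at h'
    · exact h3p.dvd_of_dvd_pow h'
  obtain ⟨k, hk⟩ := h3
  have hk2 : x * (x + 1) = 8 * k ^ 2 := by
    rw [hk] at h
    nlinarith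
  rcases lt_or_gt_of_ne hx0 with hneg | hpos
  · have hy : 0 < -1 - x := by omega
    have hk3 : (-1 - x) * ((-1 - x) + 1) = 8 * k ^ 2 := by rw [← hk2]; ring
    obtain ⟨s, hs, hxs⟩ := s3_pell_core (-1 - x) k hy hk3
    exact ⟨s, hs, Or.inr (by omega)⟩
  · obtain ⟨s, hs, hxs⟩ := s3_pell_core x k hpos hk2
    exact ⟨s, hs, Or.inl hxs⟩

end Cfsg.Agent.Helper10
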