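import Mathlib
import Cfsg.Prelude.Def_GeometricClasses
import Cfsg.Prelude.Def_Classical
import Cfsg.Agent.Helper35.S88Defs
import Cfsg.Agent.Helper98.ELPDefs
import Cfsg.Agent.Helper98.S90T2Defs
import Cfsg.Agent.Helper80.TSNONSCAL

set_option autoImplicit false

/-! Sub-CALL S90T2 (helper98, row S5990): piece ZONE (double). -/

namespace Cfsg.Agent.Helper10.S90T2

open Module Matrix Cfsg Cfsg.Geo Cfsg.Agent.Helper35.S88 Cfsg.Agent.Helper98.ELP
  Cfsg.Agent.Helper98.S90T2
open scoped MatrixGroups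

section good

variable {ι : Type} [Fintype ι] [DecidableEq ι] {F : Type*} [Field F]

/-- ZONE [S]: in characteristic `2` an isometry with scalar square is an involution
(`Cfsg.Agent.Helper70` `r2_z`: `z = 1 ∨ z = -1`, Helper70/TSR2Z.lean; `-1 = 1`). -/
theorem t2_sq_one (Q : (ι → F) → F) (hQ : IsNondegenerateQuadraticForm Q) (h2 : (2 : F) = 0)
    (hne : Nonempty ι) (x : GL ι F) (hx : x ∈ Cfsg.isometryGroup F Q) (z : F)
    (hz : ((x ^ 2 : GL ι F) : Matrix ι ι F) = z • (1 : Matrix ι ι F)) :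
    (Matrix.toLin' (x : Matrix ι ι F)) * (Matrix.toLin' (x : Matrix ι ι F)) = 1 := by
  have hz2 := Cfsg.Agent.Helper80.TS5973.ts_scalar_sq Q hQ (x ^ 2)
    ((Cfsg.isometryGroup F Q).pow_mem hx 2) z hz
  have hz1 : z = 1 := by
    have h1 : (z - 1) * (z - 1) = 0 := by linear_combination hz2 + (1 - z) * h2
    rcases mul_eq_zero.mp h1 with h3 | h3 <;> exact sub_eq_zero.mp h3
  have hxx : (x : Matrix ι ι F) * (x : Matrix ι ι F) = 1 := by
    rw [← pow_two, ← Units.val_pow_eq_pow_val, hz, hz1, one_smul]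
  rw [Module.End.mul_eq_comp, ← Matrix.toLin'_mul, hxx, Matrix.toLin'_one]
  rfl

end good

end Cfsg.Agent.Helper10.S90T2
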