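import Mathlib
import Cfsg.Prelude.Def_GeometricClasses
import Cfsg.Agent.Helper90.SFRDefs
import Cfsg.Agent.Helper37.Sf3

set_option autoImplicit false

namespace Cfsg.Agent.Helper10

open Module Polynomial Cfsg.Agent.Helper90.SFR

section fin
variable {F : Type*} [Field F] [Fintype F]

/-! ## PIECE IDXG -/
theorem card_dvd (F₀ : Subfield F) (n : ℕ) :
    Nat.card (Matrix.SpecialLinearGroup (Fin n) ↥F₀) ∣ Nat.card ↥(subH F₀ n) := by
  classical
  obtain ⟨φ, hφ⟩ : ∃ φ : Matrix.SpecialLinearGroup (Fin n) ↥F₀ →*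
      Matrix.SpecialLinearGroup (Fin n) F, φ = Matrix.SpecialLinearGroup.map F₀.subtype :=
    ⟨_, rfl⟩
  have hφv : ∀ (g : Matrix.SpecialLinearGroup (Fin n) ↥F₀) (i j : Fin n),
      (φ g).val i j = ((g.val i j : ↥F₀) : F) := by
    intro g i j
    rw [hφ]
    rfl
  have hinj : Function.Injective φ := by
    intro g h hgh
    apply Subtype.ext
    ext i j
    have h1 := congrArg (fun y : Matrix.SpecialLinearGroup (Fin n) F => y.val i j) hgh
    simp only [hφv] at h1
    exact h1
  have hrange : φ.range ≤ subH F₀ n := by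
    rintro _ ⟨g, rfl⟩
    unfold subH
    rw [Subgroup.mem_comap, Cfsg.Agent.Helper97.SF.mem_subfieldSubgroup_one]
    refine ⟨1, one_ne_zero, ?_⟩
    rw [one_smul]
    intro i j
    simp only [Matrix.SpecialLinearGroup.coe_GL_coe_matrix]
    rw [hφv]
    exact SetLike.coe_mem _
  have h1 := Subgroup.card_dvd_of_le hrange
  rwa [← Nat.card_congr (MonoidHom.ofInjective hinj).toEquiv] at h1

end fin

end Cfsg.Agent.Helper10
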