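-- helper10: explicit data for piece E6 of S5778 (SU_3(5): the normaliser of a Sylow 3-subgroup
-- lies in 3.M_10).  The 27 elements of the Heisenberg group P0 = <hd, hs>, for each non-central
-- element a conjugator taking hd to it (in N(P0) = <hd, hs, f1, f2>), the action of these on the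
-- 36 points of D25M, multiplication and conjugation tables.
-- Machine generated; all facts are checked by the kernel via `decide`.
import Cfsg.Agent.Helper64.SU3Data25M

set_option autoImplicit false
set_option maxRecDepth 1000000
open Matrix

namespace Cfsg.Agent.Helper10.E6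

open Cfsg.Agent.Helper64.SU3

def pL : List (Matrix (Fin 3) (Fin 3) K25) := [!![⟨1, 0⟩, ⟨0, 0⟩, ⟨0, 0⟩; ⟨0, 0⟩, ⟨1, 0⟩, ⟨0, 0⟩; ⟨0, 0⟩, ⟨0, 0⟩, ⟨1, 0⟩],
  !![⟨0, 1⟩, ⟨0, 0⟩, ⟨0, 0⟩; ⟨0, 0⟩, ⟨0, 1⟩, ⟨0, 0⟩; ⟨0, 0⟩, ⟨0, 0⟩, ⟨0, 1⟩],
  !![⟨4, 4⟩, ⟨0, 0⟩, ⟨0, 0⟩; ⟨0, 0⟩, ⟨4, 4⟩, ⟨0, 0⟩; ⟨0, 0⟩, ⟨0, 0⟩, ⟨4, 4⟩],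
  !![⟨0, 0⟩, ⟨0, 0⟩, ⟨1, 0⟩; ⟨1, 0⟩, ⟨0, 0⟩, ⟨0, 0⟩; ⟨0, 0⟩, ⟨1, 0⟩, ⟨0, 0⟩],
  !![⟨0, 0⟩, ⟨0, 0⟩, ⟨0, 1⟩; ⟨0, 1⟩, ⟨0, 0⟩, ⟨0, 0⟩; ⟨0, 0⟩, ⟨0, 1⟩, ⟨0, 0⟩],
  !![⟨0, 0⟩, ⟨0, 0⟩, ⟨4, 4⟩; ⟨4, 4⟩, ⟨0, 0⟩, ⟨0, 0⟩; ⟨0, 0⟩, ⟨4, 4⟩, ⟨0, 0⟩],
  !![⟨0, 0⟩, ⟨1, 0⟩, ⟨0, 0⟩; ⟨0, 0⟩, ⟨0, 0⟩, ⟨1, 0⟩; ⟨1, 0⟩, ⟨0, 0⟩, ⟨0, 0⟩],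
  !![⟨0, 0⟩, ⟨0, 1⟩, ⟨0, 0⟩; ⟨0, 0⟩, ⟨0, 0⟩, ⟨0, 1⟩; ⟨0, 1⟩, ⟨0, 0⟩, ⟨0, 0⟩],
  !![⟨0, 0⟩, ⟨4, 4⟩, ⟨0, 0⟩; ⟨0, 0⟩, ⟨0, 0⟩, ⟨4, 4⟩; ⟨4, 4⟩, ⟨0, 0⟩, ⟨0, 0⟩],
  !![⟨1, 0⟩, ⟨0, 0⟩, ⟨0, 0⟩; ⟨0, 0⟩, ⟨0, 1⟩, ⟨0, 0⟩; ⟨0, 0⟩, ⟨0, 0⟩, ⟨4, 4⟩],
  !![⟨0, 1⟩, ⟨0, 0⟩, ⟨0, 0⟩; ⟨0, 0⟩, ⟨4, 4⟩, ⟨0, 0⟩; ⟨0, 0⟩, ⟨0, 0⟩, ⟨1, 0⟩],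
  !![⟨4, 4⟩, ⟨0, 0⟩, ⟨0, 0⟩; ⟨0, 0⟩, ⟨1, 0⟩, ⟨0, 0⟩; ⟨0, 0⟩, ⟨0, 0⟩, ⟨0, 1⟩],
  !![⟨0, 0⟩, ⟨0, 0⟩, ⟨1, 0⟩; ⟨0, 1⟩, ⟨0, 0⟩, ⟨0, 0⟩; ⟨0, 0⟩, ⟨4, 4⟩, ⟨0, 0⟩],
  !![⟨0, 0⟩, ⟨0, 0⟩, ⟨0, 1⟩; ⟨4, 4⟩, ⟨0, 0⟩, ⟨0, 0⟩; ⟨0, 0⟩, ⟨1, 0⟩, ⟨0, 0⟩],
  !![⟨0, 0⟩, ⟨0, 0⟩, ⟨4, 4⟩; ⟨1, 0⟩, ⟨0, 0⟩, ⟨0, 0⟩; ⟨0, 0⟩, ⟨0, 1⟩, ⟨0, 0⟩],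
  !![⟨0, 0⟩, ⟨1, 0⟩, ⟨0, 0⟩; ⟨0, 0⟩, ⟨0, 0⟩, ⟨0, 1⟩; ⟨4, 4⟩, ⟨0, 0⟩, ⟨0, 0⟩],
  !![⟨0, 0⟩, ⟨0, 1⟩, ⟨0, 0⟩; ⟨0, 0⟩, ⟨0, 0⟩, ⟨4, 4⟩; ⟨1, 0⟩, ⟨0, 0⟩, ⟨0, 0⟩],
  !![⟨0, 0⟩, ⟨4, 4⟩, ⟨0, 0⟩; ⟨0, 0⟩, ⟨0, 0⟩, ⟨1, 0⟩; ⟨0, 1⟩, ⟨0, 0⟩, ⟨0, 0⟩],
  !![⟨1, 0⟩, ⟨0, 0⟩, ⟨0, 0⟩; ⟨0, 0⟩, ⟨4, 4⟩, ⟨0, 0⟩; ⟨0, 0⟩, ⟨0, 0⟩, ⟨0, 1⟩],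
  !![⟨0, 1⟩, ⟨0, 0⟩, ⟨0, 0⟩; ⟨0, 0⟩, ⟨1, 0⟩, ⟨0, 0⟩; ⟨0, 0⟩, ⟨0, 0⟩, ⟨4, 4⟩],
  !![⟨4, 4⟩, ⟨0, 0⟩, ⟨0, 0⟩; ⟨0, 0⟩, ⟨0, 1⟩, ⟨0, 0⟩; ⟨0, 0⟩, ⟨0, 0⟩, ⟨1, 0⟩],
  !![⟨0, 0⟩, ⟨0, 0⟩, ⟨1, 0⟩; ⟨4, 4⟩, ⟨0, 0⟩, ⟨0, 0⟩; ⟨0, 0⟩, ⟨0, 1⟩, ⟨0, 0⟩],
  !![⟨0, 0⟩, ⟨0, 0⟩, ⟨0, 1⟩; ⟨1, 0⟩, ⟨0, 0⟩, ⟨0, 0⟩; ⟨0, 0⟩, ⟨4, 4⟩, ⟨0, 0⟩],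
  !![⟨0, 0⟩, ⟨0, 0⟩, ⟨4, 4⟩; ⟨0, 1⟩, ⟨0, 0⟩, ⟨0, 0⟩; ⟨0, 0⟩, ⟨1, 0⟩, ⟨0, 0⟩],
  !![⟨0, 0⟩, ⟨1, 0⟩, ⟨0, 0⟩; ⟨0, 0⟩, ⟨0, 0⟩, ⟨4, 4⟩; ⟨0, 1⟩, ⟨0, 0⟩, ⟨0, 0⟩],
  !![⟨0, 0⟩, ⟨0, 1⟩, ⟨0, 0⟩; ⟨0, 0⟩, ⟨0, 0⟩, ⟨1, 0⟩; ⟨4, 4⟩, ⟨0, 0⟩, ⟨0, 0⟩],
  !![⟨0, 0⟩, ⟨4, 4⟩, ⟨0, 0⟩; ⟨0, 0⟩, ⟨0, 0⟩, ⟨0, 1⟩; ⟨1, 0⟩, ⟨0, 0⟩, ⟨0, 0⟩]]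
def piL : List (Matrix (Fin 3) (Fin 3) K25) := [!![⟨1, 0⟩, ⟨0, 0⟩, ⟨0, 0⟩; ⟨0, 0⟩, ⟨1, 0⟩, ⟨0, 0⟩; ⟨0, 0⟩, ⟨0, 0⟩, ⟨1, 0⟩],
  !![⟨4, 4⟩, ⟨0, 0⟩, ⟨0, 0⟩; ⟨0, 0⟩, ⟨4, 4⟩, ⟨0, 0⟩; ⟨0, 0⟩, ⟨0, 0⟩, ⟨4, 4⟩],
  !![⟨0, 1⟩, ⟨0, 0⟩, ⟨0, 0⟩; ⟨0, 0⟩, ⟨0, 1⟩, ⟨0, 0⟩; ⟨0, 0⟩, ⟨0, 0⟩, ⟨0, 1⟩],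
  !![⟨0, 0⟩, ⟨1, 0⟩, ⟨0, 0⟩; ⟨0, 0⟩, ⟨0, 0⟩, ⟨1, 0⟩; ⟨1, 0⟩, ⟨0, 0⟩, ⟨0, 0⟩],
  !![⟨0, 0⟩, ⟨4, 4⟩, ⟨0, 0⟩; ⟨0, 0⟩, ⟨0, 0⟩, ⟨4, 4⟩; ⟨4, 4⟩, ⟨0, 0⟩, ⟨0, 0⟩],
  !![⟨0, 0⟩, ⟨0, 1⟩, ⟨0, 0⟩; ⟨0, 0⟩, ⟨0, 0⟩, ⟨0, 1⟩; ⟨0, 1⟩, ⟨0, 0⟩, ⟨0, 0⟩],
  !![⟨0, 0⟩, ⟨0, 0⟩, ⟨1, 0⟩; ⟨1, 0⟩, ⟨0, 0⟩, ⟨0, 0⟩; ⟨0, 0⟩, ⟨1, 0⟩, ⟨0, 0⟩],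
  !![⟨0, 0⟩, ⟨0, 0⟩, ⟨4, 4⟩; ⟨4, 4⟩, ⟨0, 0⟩, ⟨0, 0⟩; ⟨0, 0⟩, ⟨4, 4⟩, ⟨0, 0⟩],
  !![⟨0, 0⟩, ⟨0, 0⟩, ⟨0, 1⟩; ⟨0, 1⟩, ⟨0, 0⟩, ⟨0, 0⟩; ⟨0, 0⟩, ⟨0, 1⟩, ⟨0, 0⟩],
  !![⟨1, 0⟩, ⟨0, 0⟩, ⟨0, 0⟩; ⟨0, 0⟩, ⟨4, 4⟩, ⟨0, 0⟩; ⟨0, 0⟩, ⟨0, 0⟩, ⟨0, 1⟩],
  !![⟨4, 4⟩, ⟨0, 0⟩, ⟨0, 0⟩; ⟨0, 0⟩, ⟨0, 1⟩, ⟨0, 0⟩; ⟨0, 0⟩, ⟨0, 0⟩, ⟨1, 0⟩],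
  !![⟨0, 1⟩, ⟨0, 0⟩, ⟨0, 0⟩; ⟨0, 0⟩, ⟨1, 0⟩, ⟨0, 0⟩; ⟨0, 0⟩, ⟨0, 0⟩, ⟨4, 4⟩],
  !![⟨0, 0⟩, ⟨4, 4⟩, ⟨0, 0⟩; ⟨0, 0⟩, ⟨0, 0⟩, ⟨0, 1⟩; ⟨1, 0⟩, ⟨0, 0⟩, ⟨0, 0⟩],
  !![⟨0, 0⟩, ⟨0, 1⟩, ⟨0, 0⟩; ⟨0, 0⟩, ⟨0, 0⟩, ⟨1, 0⟩; ⟨4, 4⟩, ⟨0, 0⟩, ⟨0, 0⟩],
  !![⟨0, 0⟩, ⟨1, 0⟩, ⟨0, 0⟩; ⟨0, 0⟩, ⟨0, 0⟩, ⟨4, 4⟩; ⟨0, 1⟩, ⟨0, 0⟩, ⟨0, 0⟩],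
  !![⟨0, 0⟩, ⟨0, 0⟩, ⟨0, 1⟩; ⟨1, 0⟩, ⟨0, 0⟩, ⟨0, 0⟩; ⟨0, 0⟩, ⟨4, 4⟩, ⟨0, 0⟩],
  !![⟨0, 0⟩, ⟨0, 0⟩, ⟨1, 0⟩; ⟨4, 4⟩, ⟨0, 0⟩, ⟨0, 0⟩; ⟨0, 0⟩, ⟨0, 1⟩, ⟨0, 0⟩],
  !![⟨0, 0⟩, ⟨0, 0⟩, ⟨4, 4⟩; ⟨0, 1⟩, ⟨0, 0⟩, ⟨0, 0⟩; ⟨0, 0⟩, ⟨1, 0⟩, ⟨0, 0⟩],
  !![⟨1, 0⟩, ⟨0, 0⟩, ⟨0, 0⟩; ⟨0, 0⟩, ⟨0, 1⟩, ⟨0, 0⟩; ⟨0, 0⟩, ⟨0, 0⟩, ⟨4, 4⟩],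
  !![⟨4, 4⟩, ⟨0, 0⟩, ⟨0, 0⟩; ⟨0, 0⟩, ⟨1, 0⟩, ⟨0, 0⟩; ⟨0, 0⟩, ⟨0, 0⟩, ⟨0, 1⟩],
  !![⟨0, 1⟩, ⟨0, 0⟩, ⟨0, 0⟩; ⟨0, 0⟩, ⟨4, 4⟩, ⟨0, 0⟩; ⟨0, 0⟩, ⟨0, 0⟩, ⟨1, 0⟩],
  !![⟨0, 0⟩, ⟨0, 1⟩, ⟨0, 0⟩; ⟨0, 0⟩, ⟨0, 0⟩, ⟨4, 4⟩; ⟨1, 0⟩, ⟨0, 0⟩, ⟨0, 0⟩],
  !![⟨0, 0⟩, ⟨1, 0⟩, ⟨0, 0⟩; ⟨0, 0⟩, ⟨0, 0⟩, ⟨0, 1⟩; ⟨4, 4⟩, ⟨0, 0⟩, ⟨0, 0⟩],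
  !![⟨0, 0⟩, ⟨4, 4⟩, ⟨0, 0⟩; ⟨0, 0⟩, ⟨0, 0⟩, ⟨1, 0⟩; ⟨0, 1⟩, ⟨0, 0⟩, ⟨0, 0⟩],
  !![⟨0, 0⟩, ⟨0, 0⟩, ⟨4, 4⟩; ⟨1, 0⟩, ⟨0, 0⟩, ⟨0, 0⟩; ⟨0, 0⟩, ⟨0, 1⟩, ⟨0, 0⟩],
  !![⟨0, 0⟩, ⟨0, 0⟩, ⟨0, 1⟩; ⟨4, 4⟩, ⟨0, 0⟩, ⟨0, 0⟩; ⟨0, 0⟩, ⟨1, 0⟩, ⟨0, 0⟩],
  !![⟨0, 0⟩, ⟨0, 0⟩, ⟨1, 0⟩; ⟨0, 1⟩, ⟨0, 0⟩, ⟨0, 0⟩; ⟨0, 0⟩, ⟨4, 4⟩, ⟨0, 0⟩]]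
def gL : List (Matrix (Fin 3) (Fin 3) K25) := [!![⟨1, 0⟩, ⟨0, 0⟩, ⟨0, 0⟩; ⟨0, 0⟩, ⟨1, 0⟩, ⟨0, 0⟩; ⟨0, 0⟩, ⟨0, 0⟩, ⟨1, 0⟩],
  !![⟨1, 0⟩, ⟨0, 0⟩, ⟨0, 0⟩; ⟨0, 0⟩, ⟨1, 0⟩, ⟨0, 0⟩; ⟨0, 0⟩, ⟨0, 0⟩, ⟨1, 0⟩],
  !![⟨1, 0⟩, ⟨0, 0⟩, ⟨0, 0⟩; ⟨0, 0⟩, ⟨1, 0⟩, ⟨0, 0⟩; ⟨0, 0⟩, ⟨0, 0⟩, ⟨1, 0⟩],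
  !![⟨2, 4⟩, ⟨2, 4⟩, ⟨2, 4⟩; ⟨2, 4⟩, ⟨2, 3⟩, ⟨1, 3⟩; ⟨2, 4⟩, ⟨1, 3⟩, ⟨2, 3⟩],
  !![⟨2, 4⟩, ⟨2, 4⟩, ⟨2, 4⟩; ⟨1, 3⟩, ⟨2, 4⟩, ⟨2, 3⟩; ⟨2, 3⟩, ⟨2, 4⟩, ⟨1, 3⟩],
  !![⟨2, 4⟩, ⟨2, 4⟩, ⟨2, 4⟩; ⟨2, 3⟩, ⟨1, 3⟩, ⟨2, 4⟩; ⟨1, 3⟩, ⟨2, 3⟩, ⟨2, 4⟩],
  !![⟨3, 1⟩, ⟨3, 1⟩, ⟨3, 1⟩; ⟨3, 1⟩, ⟨4, 2⟩, ⟨3, 2⟩; ⟨3, 1⟩, ⟨3, 2⟩, ⟨4, 2⟩],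
  !![⟨3, 1⟩, ⟨3, 1⟩, ⟨3, 1⟩; ⟨3, 2⟩, ⟨3, 1⟩, ⟨4, 2⟩; ⟨4, 2⟩, ⟨3, 1⟩, ⟨3, 2⟩],
  !![⟨3, 1⟩, ⟨3, 1⟩, ⟨3, 1⟩; ⟨4, 2⟩, ⟨3, 2⟩, ⟨3, 1⟩; ⟨3, 2⟩, ⟨4, 2⟩, ⟨3, 1⟩],
  !![⟨1, 0⟩, ⟨0, 0⟩, ⟨0, 0⟩; ⟨0, 0⟩, ⟨1, 0⟩, ⟨0, 0⟩; ⟨0, 0⟩, ⟨0, 0⟩, ⟨1, 0⟩],
  !![⟨0, 0⟩, ⟨1, 0⟩, ⟨0, 0⟩; ⟨0, 0⟩, ⟨0, 0⟩, ⟨1, 0⟩; ⟨1, 0⟩, ⟨0, 0⟩, ⟨0, 0⟩],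
  !![⟨0, 0⟩, ⟨0, 0⟩, ⟨1, 0⟩; ⟨1, 0⟩, ⟨0, 0⟩, ⟨0, 0⟩; ⟨0, 0⟩, ⟨1, 0⟩, ⟨0, 0⟩],
  !![⟨2, 4⟩, ⟨2, 4⟩, ⟨2, 3⟩; ⟨1, 3⟩, ⟨2, 4⟩, ⟨1, 3⟩; ⟨2, 4⟩, ⟨1, 3⟩, ⟨1, 3⟩],
  !![⟨2, 3⟩, ⟨2, 4⟩, ⟨2, 4⟩; ⟨1, 3⟩, ⟨1, 3⟩, ⟨2, 4⟩; ⟨1, 3⟩, ⟨2, 4⟩, ⟨1, 3⟩],
  !![⟨2, 4⟩, ⟨2, 3⟩, ⟨2, 4⟩; ⟨2, 4⟩, ⟨1, 3⟩, ⟨1, 3⟩; ⟨1, 3⟩, ⟨1, 3⟩, ⟨2, 4⟩],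
  !![⟨3, 2⟩, ⟨3, 2⟩, ⟨3, 1⟩; ⟨3, 2⟩, ⟨3, 1⟩, ⟨3, 2⟩; ⟨4, 2⟩, ⟨3, 1⟩, ⟨3, 1⟩],
  !![⟨3, 1⟩, ⟨3, 2⟩, ⟨3, 2⟩; ⟨3, 2⟩, ⟨3, 2⟩, ⟨3, 1⟩; ⟨3, 1⟩, ⟨4, 2⟩, ⟨3, 1⟩],
  !![⟨3, 2⟩, ⟨3, 1⟩, ⟨3, 2⟩; ⟨3, 1⟩, ⟨3, 2⟩, ⟨3, 2⟩; ⟨3, 1⟩, ⟨3, 1⟩, ⟨4, 2⟩],
  !![⟨4, 0⟩, ⟨0, 0⟩, ⟨0, 0⟩; ⟨0, 0⟩, ⟨0, 0⟩, ⟨4, 0⟩; ⟨0, 0⟩, ⟨4, 0⟩, ⟨0, 0⟩],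
  !![⟨0, 0⟩, ⟨4, 0⟩, ⟨0, 0⟩; ⟨4, 0⟩, ⟨0, 0⟩, ⟨0, 0⟩; ⟨0, 0⟩, ⟨0, 0⟩, ⟨4, 0⟩],
  !![⟨0, 0⟩, ⟨0, 0⟩, ⟨4, 0⟩; ⟨0, 0⟩, ⟨4, 0⟩, ⟨0, 0⟩; ⟨4, 0⟩, ⟨0, 0⟩, ⟨0, 0⟩],
  !![⟨1, 3⟩, ⟨2, 3⟩, ⟨1, 3⟩; ⟨2, 4⟩, ⟨2, 4⟩, ⟨1, 3⟩; ⟨1, 3⟩, ⟨2, 4⟩, ⟨2, 4⟩],
  !![⟨1, 3⟩, ⟨1, 3⟩, ⟨2, 3⟩; ⟨1, 3⟩, ⟨2, 4⟩, ⟨2, 4⟩; ⟨2, 4⟩, ⟨1, 3⟩, ⟨2, 4⟩],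
  !![⟨1, 3⟩, ⟨1, 3⟩, ⟨2, 3⟩; ⟨2, 3⟩, ⟨1, 3⟩, ⟨1, 3⟩; ⟨2, 3⟩, ⟨2, 4⟩, ⟨2, 3⟩],
  !![⟨3, 1⟩, ⟨3, 1⟩, ⟨3, 2⟩; ⟨3, 1⟩, ⟨4, 2⟩, ⟨4, 2⟩; ⟨4, 2⟩, ⟨3, 1⟩, ⟨4, 2⟩],
  !![⟨4, 2⟩, ⟨3, 1⟩, ⟨4, 2⟩; ⟨3, 1⟩, ⟨3, 1⟩, ⟨3, 2⟩; ⟨3, 1⟩, ⟨4, 2⟩, ⟨4, 2⟩],
  !![⟨3, 1⟩, ⟨3, 2⟩, ⟨3, 1⟩; ⟨4, 2⟩, ⟨4, 2⟩, ⟨3, 1⟩; ⟨3, 1⟩, ⟨4, 2⟩, ⟨4, 2⟩]]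
def giL : List (Matrix (Fin 3) (Fin 3) K25) := [!![⟨1, 0⟩, ⟨0, 0⟩, ⟨0, 0⟩; ⟨0, 0⟩, ⟨1, 0⟩, ⟨0, 0⟩; ⟨0, 0⟩, ⟨0, 0⟩, ⟨1, 0⟩],
  !![⟨1, 0⟩, ⟨0, 0⟩, ⟨0, 0⟩; ⟨0, 0⟩, ⟨1, 0⟩, ⟨0, 0⟩; ⟨0, 0⟩, ⟨0, 0⟩, ⟨1, 0⟩],
  !![⟨1, 0⟩, ⟨0, 0⟩, ⟨0, 0⟩; ⟨0, 0⟩, ⟨1, 0⟩, ⟨0, 0⟩; ⟨0, 0⟩, ⟨0, 0⟩, ⟨1, 0⟩],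
  !![⟨3, 1⟩, ⟨3, 1⟩, ⟨3, 1⟩; ⟨3, 1⟩, ⟨4, 2⟩, ⟨3, 2⟩; ⟨3, 1⟩, ⟨3, 2⟩, ⟨4, 2⟩],
  !![⟨3, 1⟩, ⟨3, 2⟩, ⟨4, 2⟩; ⟨3, 1⟩, ⟨3, 1⟩, ⟨3, 1⟩; ⟨3, 1⟩, ⟨4, 2⟩, ⟨3, 2⟩],
  !![⟨3, 1⟩, ⟨4, 2⟩, ⟨3, 2⟩; ⟨3, 1⟩, ⟨3, 2⟩, ⟨4, 2⟩; ⟨3, 1⟩, ⟨3, 1⟩, ⟨3, 1⟩],
  !![⟨2, 4⟩, ⟨2, 4⟩, ⟨2, 4⟩; ⟨2, 4⟩, ⟨2, 3⟩, ⟨1, 3⟩; ⟨2, 4⟩, ⟨1, 3⟩, ⟨2, 3⟩],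
  !![⟨2, 4⟩, ⟨1, 3⟩, ⟨2, 3⟩; ⟨2, 4⟩, ⟨2, 4⟩, ⟨2, 4⟩; ⟨2, 4⟩, ⟨2, 3⟩, ⟨1, 3⟩],
  !![⟨2, 4⟩, ⟨2, 3⟩, ⟨1, 3⟩; ⟨2, 4⟩, ⟨1, 3⟩, ⟨2, 3⟩; ⟨2, 4⟩, ⟨2, 4⟩, ⟨2, 4⟩],
  !![⟨1, 0⟩, ⟨0, 0⟩, ⟨0, 0⟩; ⟨0, 0⟩, ⟨1, 0⟩, ⟨0, 0⟩; ⟨0, 0⟩, ⟨0, 0⟩, ⟨1, 0⟩],
  !![⟨0, 0⟩, ⟨0, 0⟩, ⟨1, 0⟩; ⟨1, 0⟩, ⟨0, 0⟩, ⟨0, 0⟩; ⟨0, 0⟩, ⟨1, 0⟩, ⟨0, 0⟩],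
  !![⟨0, 0⟩, ⟨1, 0⟩, ⟨0, 0⟩; ⟨0, 0⟩, ⟨0, 0⟩, ⟨1, 0⟩; ⟨1, 0⟩, ⟨0, 0⟩, ⟨0, 0⟩],
  !![⟨3, 1⟩, ⟨3, 2⟩, ⟨3, 1⟩; ⟨3, 1⟩, ⟨3, 1⟩, ⟨3, 2⟩; ⟨4, 2⟩, ⟨3, 2⟩, ⟨3, 2⟩],
  !![⟨4, 2⟩, ⟨3, 2⟩, ⟨3, 2⟩; ⟨3, 1⟩, ⟨3, 2⟩, ⟨3, 1⟩; ⟨3, 1⟩, ⟨3, 1⟩, ⟨3, 2⟩],
  !![⟨3, 1⟩, ⟨3, 1⟩, ⟨3, 2⟩; ⟨4, 2⟩, ⟨3, 2⟩, ⟨3, 2⟩; ⟨3, 1⟩, ⟨3, 2⟩, ⟨3, 1⟩],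
  !![⟨1, 3⟩, ⟨1, 3⟩, ⟨2, 3⟩; ⟨1, 3⟩, ⟨2, 4⟩, ⟨2, 4⟩; ⟨2, 4⟩, ⟨1, 3⟩, ⟨2, 4⟩],
  !![⟨2, 4⟩, ⟨1, 3⟩, ⟨2, 4⟩; ⟨1, 3⟩, ⟨1, 3⟩, ⟨2, 3⟩; ⟨1, 3⟩, ⟨2, 4⟩, ⟨2, 4⟩],
  !![⟨1, 3⟩, ⟨2, 4⟩, ⟨2, 4⟩; ⟨2, 4⟩, ⟨1, 3⟩, ⟨2, 4⟩; ⟨1, 3⟩, ⟨1, 3⟩, ⟨2, 3⟩],
  !![⟨4, 0⟩, ⟨0, 0⟩, ⟨0, 0⟩; ⟨0, 0⟩, ⟨0, 0⟩, ⟨4, 0⟩; ⟨0, 0⟩, ⟨4, 0⟩, ⟨0, 0⟩],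
  !![⟨0, 0⟩, ⟨4, 0⟩, ⟨0, 0⟩; ⟨4, 0⟩, ⟨0, 0⟩, ⟨0, 0⟩; ⟨0, 0⟩, ⟨0, 0⟩, ⟨4, 0⟩],
  !![⟨0, 0⟩, ⟨0, 0⟩, ⟨4, 0⟩; ⟨0, 0⟩, ⟨4, 0⟩, ⟨0, 0⟩; ⟨4, 0⟩, ⟨0, 0⟩, ⟨0, 0⟩],
  !![⟨3, 2⟩, ⟨3, 1⟩, ⟨3, 2⟩; ⟨4, 2⟩, ⟨3, 1⟩, ⟨3, 1⟩; ⟨3, 2⟩, ⟨3, 2⟩, ⟨3, 1⟩],
  !![⟨3, 2⟩, ⟨3, 2⟩, ⟨3, 1⟩; ⟨3, 2⟩, ⟨3, 1⟩, ⟨3, 2⟩; ⟨4, 2⟩, ⟨3, 1⟩, ⟨3, 1⟩],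
  !![⟨3, 2⟩, ⟨4, 2⟩, ⟨4, 2⟩; ⟨3, 2⟩, ⟨3, 2⟩, ⟨3, 1⟩; ⟨4, 2⟩, ⟨3, 2⟩, ⟨4, 2⟩],
  !![⟨2, 4⟩, ⟨2, 4⟩, ⟨2, 3⟩; ⟨2, 4⟩, ⟨2, 3⟩, ⟨2, 4⟩; ⟨1, 3⟩, ⟨2, 3⟩, ⟨2, 3⟩],
  !![⟨2, 3⟩, ⟨2, 4⟩, ⟨2, 4⟩; ⟨2, 4⟩, ⟨2, 4⟩, ⟨2, 3⟩; ⟨2, 3⟩, ⟨1, 3⟩, ⟨2, 3⟩],
  !![⟨2, 4⟩, ⟨2, 3⟩, ⟨2, 4⟩; ⟨1, 3⟩, ⟨2, 3⟩, ⟨2, 3⟩; ⟨2, 4⟩, ⟨2, 4⟩, ⟨2, 3⟩]]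
def pm (r : ℕ) : Matrix (Fin 3) (Fin 3) K25 := pL.getD r 0
def pmi (r : ℕ) : Matrix (Fin 3) (Fin 3) K25 := piL.getD r 0
def gm (r : ℕ) : Matrix (Fin 3) (Fin 3) K25 := gL.getD r 0
def gmi (r : ℕ) : Matrix (Fin 3) (Fin 3) K25 := giL.getD r 0
def mulT : List ℕ := [0, 1, 2, 3, 4, 5, 6, 7, 8, 9, 10, 11, 12, 13, 14, 15, 16, 17, 18, 19, 20, 21, 22, 23, 24, 25, 26, 1, 2, 0, 4, 5, 3, 7, 8, 6, 10, 11, 9, 13, 14, 12, 16, 17, 15, 19, 20, 18, 22, 23, 21, 25, 26, 24, 2, 0, 1, 5, 3, 4, 8, 6, 7, 11, 9, 10, 14, 12, 13,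 17, 15, 16, 20, 18, 19, 23, 21, 22, 26, 24, 25, 3, 4, 5, 6, 7, 8, 0, 1, 2, 14, 12, 13, 17, 15, 16, 11, 9, 10, 22, 23, 21, 25, 26, 24, 19, 20, 18, 4, 5, 3, 7, 8, 6, 1, 2, 0, 12, 13, 14, 15, 16, 17, 9, 10, 11, 23, 21, 22, 26, 24, 25, 20, 18, 19, 5, 3, 4, 8, 6, 7, 2, 0, 1, 13, 14, 12, 16, 17, 15, 10, 11, 9, 21, 22, 23, 24, 25, 26, 18, 19, 20, 6, 7, 8, 0, 1, 2, 3, 4, 5, 16, 17, 15, 10, 11, 9, 13, 14, 12, 26, 24, 25, 20, 18, 19, 23, 21, 22, 7, 8, 6, 1, 2, 0, 4, 5, 3, 17, 15, 16, 11, 9, 10, 14, 12, 13, 24, 25,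 26, 18, 19, 20, 21, 22, 23, 8, 6, 7, 2, 0, 1, 5, 3, 4, 15, 16, 17, 9, 10, 11, 12, 13, 14, 25, 26, 24, 19, 20, 18, 22, 23, 21, 9, 10, 11, 12, 13, 14, 15, 16, 17, 18, 19, 20, 21, 22, 23, 24, 25, 26, 0, 1, 2, 3, 4, 5, 6, 7, 8, 10, 11, 9, 13, 14, 12, 16, 17, 15, 19, 20, 18, 22, 23, 21, 25, 26, 24, 1, 2, 0, 4, 5, 3, 7, 8, 6, 11, 9, 10, 14, 12, 13, 17, 15, 16, 20, 18, 19, 23, 21, 22, 26, 24, 25, 2, 0, 1, 5, 3, 4, 8, 6, 7, 12, 13, 14, 15, 16, 17, 9, 10, 11, 23, 21, 22, 26, 24, 25, 20, 18, 19, 4, 5, 3, 7, 8, 6,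 1, 2, 0, 13, 14, 12, 16, 17, 15, 10, 11, 9, 21, 22, 23, 24, 25, 26, 18, 19, 20, 5, 3, 4, 8, 6, 7, 2, 0, 1, 14, 12, 13, 17, 15, 16, 11, 9, 10, 22, 23, 21, 25, 26, 24, 19, 20, 18, 3, 4, 5, 6, 7, 8, 0, 1, 2, 15, 16, 17, 9, 10, 11, 12, 13, 14, 25, 26, 24, 19, 20, 18, 22, 23, 21, 8, 6, 7, 2, 0, 1, 5, 3, 4, 16, 17, 15, 10, 11, 9, 13, 14, 12, 26, 24, 25, 20, 18, 19, 23, 21, 22, 6, 7, 8, 0, 1, 2, 3, 4, 5, 17, 15, 16, 11, 9, 10, 14, 12, 13, 24, 25, 26, 18, 19, 20, 21, 22, 23, 7, 8, 6, 1, 2, 0, 4, 5, 3, 18, 19, 20,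 21, 22, 23, 24, 25, 26, 0, 1, 2, 3, 4, 5, 6, 7, 8, 9, 10, 11, 12, 13, 14, 15, 16, 17, 19, 20, 18, 22, 23, 21, 25, 26, 24, 1, 2, 0, 4, 5, 3, 7, 8, 6, 10, 11, 9, 13, 14, 12, 16, 17, 15, 20, 18, 19, 23, 21, 22, 26, 24, 25, 2, 0, 1, 5, 3, 4, 8, 6, 7, 11, 9, 10, 14, 12, 13, 17, 15, 16, 21, 22, 23, 24, 25, 26, 18, 19, 20, 5, 3, 4, 8, 6, 7, 2, 0, 1, 13, 14, 12, 16, 17, 15, 10, 11, 9, 22, 23, 21, 25, 26, 24, 19, 20, 18, 3, 4, 5, 6, 7, 8, 0, 1, 2, 14, 12, 13, 17, 15, 16, 11, 9, 10, 23, 21, 22, 26, 24, 25, 20, 18,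 19, 4, 5, 3, 7, 8, 6, 1, 2, 0, 12, 13, 14, 15, 16, 17, 9, 10, 11, 24, 25, 26, 18, 19, 20, 21, 22, 23, 7, 8, 6, 1, 2, 0, 4, 5, 3, 17, 15, 16, 11, 9, 10, 14, 12, 13, 25, 26, 24, 19, 20, 18, 22, 23, 21, 8, 6, 7, 2, 0, 1, 5, 3, 4, 15, 16, 17, 9, 10, 11, 12, 13, 14, 26, 24, 25, 20, 18, 19, 23, 21, 22, 6, 7, 8, 0, 1, 2, 3, 4, 5, 16, 17, 15, 10, 11, 9, 13, 14, 12]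
def conjT : List ℕ := [0, 1, 2, 3, 4, 5, 6, 7, 8, 9, 10, 11, 12, 13, 14, 15, 16, 17, 18, 19, 20, 21, 22, 23, 24, 25, 26, 0, 1, 2, 3, 4, 5, 6, 7, 8, 9, 10, 11, 12, 13, 14, 15, 16, 17, 18, 19, 20, 21, 22, 23, 24, 25, 26, 0, 1, 2, 3, 4, 5, 6, 7, 8, 9, 10, 11, 12, 13, 14, 15, 16, 17, 18, 19, 20, 21, 22, 23, 24, 25, 26, 0, 1, 2, 9, 10, 11, 18, 19, 20, 6, 7, 8, 16, 17, 15, 26, 24, 25, 3, 4, 5, 14, 12, 13, 22, 23, 21, 0, 1, 2, 11, 9, 10, 19, 20, 18, 6, 7, 8, 15, 16, 17, 24, 25, 26, 3, 4, 5, 13, 14, 12, 23, 21,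 22, 0, 1, 2, 10, 11, 9, 20, 18, 19, 6, 7, 8, 17, 15, 16, 25, 26, 24, 3, 4, 5, 12, 13, 14, 21, 22, 23, 0, 1, 2, 18, 19, 20, 9, 10, 11, 3, 4, 5, 22, 23, 21, 14, 12, 13, 6, 7, 8, 26, 24, 25, 16, 17, 15, 0, 1, 2, 19, 20, 18, 11, 9, 10, 3, 4, 5, 23, 21, 22, 13, 14, 12, 6, 7, 8, 24, 25, 26, 15, 16, 17, 0, 1, 2, 20, 18, 19, 10, 11, 9, 3, 4, 5, 21, 22, 23, 12, 13, 14, 6, 7, 8, 25, 26, 24, 17, 15, 16, 0, 1, 2, 3, 4, 5, 6, 7, 8, 9, 10, 11, 12, 13, 14, 15, 16, 17, 18, 19, 20, 21, 22, 23, 24, 25, 26, 0, 1, 2, 3, 4,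 5, 6, 7, 8, 11, 9, 10, 14, 12, 13, 17, 15, 16, 19, 20, 18, 22, 23, 21, 25, 26, 24, 0, 1, 2, 3, 4, 5, 6, 7, 8, 10, 11, 9, 13, 14, 12, 16, 17, 15, 20, 18, 19, 23, 21, 22, 26, 24, 25, 0, 1, 2, 22, 23, 21, 15, 16, 17, 24, 25, 26, 9, 10, 11, 4, 5, 3, 14, 12, 13, 7, 8, 6, 19, 20, 18, 0, 1, 2, 23, 21, 22, 17, 15, 16, 25, 26, 24, 11, 9, 10, 4, 5, 3, 13, 14, 12, 7, 8, 6, 20, 18, 19, 0, 1, 2, 21, 22, 23, 16, 17, 15, 26, 24, 25, 10, 11, 9, 4, 5, 3, 12, 13, 14, 7, 8, 6, 18, 19, 20, 0, 1, 2, 13, 14, 12, 25, 26, 24,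 22, 23, 21, 7, 8, 6, 9, 10, 11, 15, 16, 17, 20, 18, 19, 3, 4, 5, 0, 1, 2, 12, 13, 14, 26, 24, 25, 23, 21, 22, 7, 8, 6, 11, 9, 10, 17, 15, 16, 18, 19, 20, 3, 4, 5, 0, 1, 2, 14, 12, 13, 24, 25, 26, 21, 22, 23, 7, 8, 6, 10, 11, 9, 16, 17, 15, 19, 20, 18, 3, 4, 5, 0, 1, 2, 6, 7, 8, 3, 4, 5, 18, 19, 20, 24, 25, 26, 21, 22, 23, 9, 10, 11, 15, 16, 17, 12, 13, 14, 0, 1, 2, 6, 7, 8, 3, 4, 5, 19, 20, 18, 25, 26, 24, 22, 23, 21, 11, 9, 10, 17, 15, 16, 14, 12, 13, 0, 1, 2, 6, 7, 8, 3, 4, 5, 20, 18, 19, 26, 24, 25,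 23, 21, 22, 10, 11, 9, 16, 17, 15, 13, 14, 12, 0, 1, 2, 26, 24, 25, 12, 13, 14, 16, 17, 15, 5, 3, 4, 20, 18, 19, 21, 22, 23, 9, 10, 11, 8, 6, 7, 0, 1, 2, 24, 25, 26, 14, 12, 13, 15, 16, 17, 5, 3, 4, 18, 19, 20, 22, 23, 21, 11, 9, 10, 8, 6, 7, 0, 1, 2, 26, 24, 25, 12, 13, 14, 15, 16, 17, 4, 5, 3, 19, 20, 18, 22, 23, 21, 10, 11, 9, 6, 7, 8, 0, 1, 2, 15, 16, 17, 22, 23, 21, 14, 12, 13, 19, 20, 18, 7, 8, 6, 24, 25, 26, 4, 5, 3, 9, 10, 11, 0, 1, 2, 15, 16, 17, 22, 23, 21, 12, 13, 14, 20, 18, 19, 8, 6, 7, 26,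 24, 25, 3, 4, 5, 11, 9, 10, 0, 1, 2, 16, 17, 15, 21, 22, 23, 12, 13, 14, 18, 19, 20, 7, 8, 6, 26, 24, 25, 4, 5, 3, 10, 11, 9]
def ppL : List (List ℕ) := [[0, 1, 2, 3, 4, 5, 6, 7, 8, 9, 10, 11, 12, 13, 14, 15, 16, 17, 18, 19, 20, 21, 22, 23, 24, 25, 26, 27, 28, 29, 30, 31, 32, 33, 34, 35],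
  [0, 1, 2, 3, 4, 5, 6, 7, 8, 9, 10, 11, 12, 13, 14, 15, 16, 17, 18, 19, 20, 21, 22, 23, 24, 25, 26, 27, 28, 29, 30, 31, 32, 33, 34, 35],
  [0, 1, 2, 3, 4, 5, 6, 7, 8, 9, 10, 11, 12, 13, 14, 15, 16, 17, 18, 19, 20, 21, 22, 23, 24, 25, 26, 27, 28, 29, 30, 31, 32, 33, 34, 35],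
  [22, 20, 10, 16, 23, 11, 28, 19, 0, 33, 14, 27, 1, 6, 2, 34, 30, 26, 15, 31, 12, 24, 8, 25, 32, 4, 35, 5, 13, 9, 3, 7, 21, 29, 18, 17],
  [22, 20, 10, 16, 23, 11, 28, 19, 0, 33, 14, 27, 1, 6, 2, 34, 30, 26, 15, 31, 12, 24, 8, 25, 32, 4, 35, 5, 13, 9, 3, 7, 21, 29, 18, 17],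
  [22, 20, 10, 16, 23, 11, 28, 19, 0, 33, 14, 27, 1, 6, 2, 34, 30, 26, 15, 31, 12, 24, 8, 25, 32, 4, 35, 5, 13, 9, 3, 7, 21, 29, 18, 17],
  [8, 12, 14, 30, 25, 27, 13, 31, 22, 29, 2, 5, 20, 28, 10, 18, 3, 35, 34, 7, 1, 32, 0, 4, 21, 23, 17, 11, 6, 33, 16, 19, 24, 9, 15, 26],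
  [8, 12, 14, 30, 25, 27, 13, 31, 22, 29, 2, 5, 20, 28, 10, 18, 3, 35, 34, 7, 1, 32, 0, 4, 21, 23, 17, 11, 6, 33, 16, 19, 24, 9, 15, 26],
  [8, 12, 14, 30, 25, 27, 13, 31, 22, 29, 2, 5, 20, 28, 10, 18, 3, 35, 34, 7, 1, 32, 0, 4, 21, 23, 17, 11, 6, 33, 16, 19, 24, 9, 15, 26],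
  [6, 4, 7, 5, 33, 34, 32, 35, 13, 12, 19, 18, 25, 24, 31, 30, 11, 10, 16, 17, 23, 22, 28, 29, 8, 9, 14, 15, 21, 20, 27, 26, 0, 1, 3, 2],
  [6, 4, 7, 5, 33, 34, 32, 35, 13, 12, 19, 18, 25, 24, 31, 30, 11, 10, 16, 17, 23, 22, 28, 29, 8, 9, 14, 15, 21, 20, 27, 26, 0, 1, 3, 2],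
  [6, 4, 7, 5, 33, 34, 32, 35, 13, 12, 19, 18, 25, 24, 31, 30, 11, 10, 16, 17, 23, 22, 28, 29, 8, 9, 14, 15, 21, 20, 27, 26, 0, 1, 3, 2],
  [28, 23, 19, 11, 29, 18, 21, 17, 6, 1, 31, 15, 4, 32, 7, 3, 27, 14, 30, 26, 25, 8, 13, 9, 0, 33, 2, 34, 24, 12, 5, 35, 22, 20, 16, 10],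
  [28, 23, 19, 11, 29, 18, 21, 17, 6, 1, 31, 15, 4, 32, 7, 3, 27, 14, 30, 26, 25, 8, 13, 9, 0, 33, 2, 34, 24, 12, 5, 35, 22, 20, 16, 10],
  [28, 23, 19, 11, 29, 18, 21, 17, 6, 1, 31, 15, 4, 32, 7, 3, 27, 14, 30, 26, 25, 8, 13, 9, 0, 33, 2, 34, 24, 12, 5, 35, 22, 20, 16, 10],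
  [13, 25, 31, 27, 9, 15, 24, 26, 28, 20, 7, 34, 23, 21, 19, 16, 5, 2, 3, 35, 4, 0, 6, 33, 22, 29, 10, 18, 32, 1, 11, 17, 8, 12, 30, 14],
  [13, 25, 31, 27, 9, 15, 24, 26, 28, 20, 7, 34, 23, 21, 19, 16, 5, 2, 3, 35, 4, 0, 6, 33, 22, 29, 10, 18, 32, 1, 11, 17, 8, 12, 30, 14],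
  [13, 25, 31, 27, 9, 15, 24, 26, 28, 20, 7, 34, 23, 21, 19, 16, 5, 2, 3, 35, 4, 0, 6, 33, 22, 29, 10, 18, 32, 1, 11, 17, 8, 12, 30, 14],
  [32, 33, 35, 34, 1, 3, 0, 2, 24, 25, 17, 16, 9, 8, 26, 27, 18, 19, 11, 10, 29, 28, 21, 20, 13, 12, 31, 30, 22, 23, 15, 14, 6, 4, 5, 7],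
  [32, 33, 35, 34, 1, 3, 0, 2, 24, 25, 17, 16, 9, 8, 26, 27, 18, 19, 11, 10, 29, 28, 21, 20, 13, 12, 31, 30, 22, 23, 15, 14, 6, 4, 5, 7],
  [32, 33, 35, 34, 1, 3, 0, 2, 24, 25, 17, 16, 9, 8, 26, 27, 18, 19, 11, 10, 29, 28, 21, 20, 13, 12, 31, 30, 22, 23, 15, 14, 6, 4, 5, 7],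
  [21, 29, 17, 18, 20, 16, 22, 10, 32, 4, 26, 30, 33, 0, 35, 5, 15, 31, 27, 14, 9, 13, 24, 12, 6, 1, 7, 3, 8, 25, 34, 2, 28, 23, 11, 19],
  [21, 29, 17, 18, 20, 16, 22, 10, 32, 4, 26, 30, 33, 0, 35, 5, 15, 31, 27, 14, 9, 13, 24, 12, 6, 1, 7, 3, 8, 25, 34, 2, 28, 23, 11, 19],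
  [21, 29, 17, 18, 20, 16, 22, 10, 32, 4, 26, 30, 33, 0, 35, 5, 15, 31, 27, 14, 9, 13, 24, 12, 6, 1, 7, 3, 8, 25, 34, 2, 28, 23, 11, 19],
  [24, 9, 26, 15, 12, 30, 8, 14, 21, 23, 35, 3, 29, 22, 17, 11, 34, 7, 5, 2, 33, 6, 32, 1, 28, 20, 19, 16, 0, 4, 18, 10, 13, 25, 27, 31],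
  [24, 9, 26, 15, 12, 30, 8, 14, 21, 23, 35, 3, 29, 22, 17, 11, 34, 7, 5, 2, 33, 6, 32, 1, 28, 20, 19, 16, 0, 4, 18, 10, 13, 25, 27, 31],
  [24, 9, 26, 15, 12, 30, 8, 14, 21, 23, 35, 3, 29, 22, 17, 11, 34, 7, 5, 2, 33, 6, 32, 1, 28, 20, 19, 16, 0, 4, 18, 10, 13, 25, 27, 31]]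
def pcL : List (List K25) := [[⟨1, 0⟩, ⟨1, 0⟩, ⟨1, 0⟩, ⟨1, 0⟩, ⟨1, 0⟩, ⟨1, 0⟩, ⟨1, 0⟩, ⟨1, 0⟩, ⟨1, 0⟩, ⟨1, 0⟩, ⟨1, 0⟩, ⟨1, 0⟩, ⟨1, 0⟩, ⟨1, 0⟩, ⟨1, 0⟩, ⟨1, 0⟩, ⟨1, 0⟩, ⟨1, 0⟩, ⟨1, 0⟩, ⟨1, 0⟩, ⟨1, 0⟩, ⟨1, 0⟩, ⟨1, 0⟩, ⟨1, 0⟩, ⟨1, 0⟩, ⟨1, 0⟩, ⟨1, 0⟩, ⟨1, 0⟩, ⟨1, 0⟩, ⟨1, 0⟩, ⟨1, 0⟩, ⟨1, 0⟩, ⟨1, 0⟩, ⟨1, 0⟩, ⟨1, 0⟩, ⟨1, 0⟩],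
  [⟨0, 1⟩, ⟨0, 1⟩, ⟨0, 1⟩, ⟨0, 1⟩, ⟨0, 1⟩, ⟨0, 1⟩, ⟨0, 1⟩, ⟨0, 1⟩, ⟨0, 1⟩, ⟨0, 1⟩, ⟨0, 1⟩, ⟨0, 1⟩, ⟨0, 1⟩, ⟨0, 1⟩, ⟨0, 1⟩, ⟨0, 1⟩, ⟨0, 1⟩, ⟨0, 1⟩, ⟨0, 1⟩, ⟨0, 1⟩, ⟨0, 1⟩, ⟨0, 1⟩, ⟨0, 1⟩, ⟨0, 1⟩, ⟨0, 1⟩, ⟨0, 1⟩, ⟨0, 1⟩, ⟨0, 1⟩, ⟨0, 1⟩, ⟨0, 1⟩, ⟨0, 1⟩, ⟨0, 1⟩, ⟨0, 1⟩, ⟨0, 1⟩, ⟨0, 1⟩, ⟨0, 1⟩],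
  [⟨4, 4⟩, ⟨4, 4⟩, ⟨4, 4⟩, ⟨4, 4⟩, ⟨4, 4⟩, ⟨4, 4⟩, ⟨4, 4⟩, ⟨4, 4⟩, ⟨4, 4⟩, ⟨4, 4⟩, ⟨4, 4⟩, ⟨4, 4⟩, ⟨4, 4⟩, ⟨4, 4⟩, ⟨4, 4⟩, ⟨4, 4⟩, ⟨4, 4⟩, ⟨4, 4⟩, ⟨4, 4⟩, ⟨4, 4⟩, ⟨4, 4⟩, ⟨4, 4⟩, ⟨4, 4⟩, ⟨4, 4⟩, ⟨4, 4⟩, ⟨4, 4⟩, ⟨4, 4⟩, ⟨4, 4⟩, ⟨4, 4⟩, ⟨4, 4⟩, ⟨4, 4⟩, ⟨4, 4⟩, ⟨4, 4⟩, ⟨4, 4⟩, ⟨4, 4⟩, ⟨4, 4⟩],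
  [⟨2, 1⟩, ⟨4, 1⟩, ⟨1, 2⟩, ⟨3, 4⟩, ⟨2, 1⟩, ⟨1, 2⟩, ⟨4, 3⟩, ⟨1, 4⟩, ⟨1, 0⟩, ⟨0, 1⟩, ⟨3, 1⟩, ⟨4, 2⟩, ⟨1, 0⟩, ⟨4, 4⟩, ⟨1, 0⟩, ⟨0, 1⟩, ⟨3, 2⟩, ⟨4, 2⟩, ⟨3, 1⟩, ⟨3, 2⟩, ⟨1, 3⟩, ⟨2, 4⟩, ⟨2, 3⟩, ⟨2, 4⟩, ⟨0, 1⟩, ⟨4, 4⟩, ⟨0, 1⟩, ⟨4, 4⟩, ⟨1, 3⟩, ⟨2, 3⟩, ⟨1, 0⟩, ⟨4, 4⟩, ⟨4, 1⟩, ⟨4, 3⟩, ⟨1, 4⟩, ⟨3, 4⟩],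
  [⟨4, 1⟩, ⟨4, 3⟩, ⟨3, 4⟩, ⟨1, 4⟩, ⟨4, 1⟩, ⟨3, 4⟩, ⟨2, 1⟩, ⟨1, 2⟩, ⟨0, 1⟩, ⟨4, 4⟩, ⟨4, 2⟩, ⟨3, 2⟩, ⟨0, 1⟩, ⟨1, 0⟩, ⟨0, 1⟩, ⟨4, 4⟩, ⟨3, 1⟩, ⟨3, 2⟩, ⟨4, 2⟩, ⟨3, 1⟩, ⟨2, 3⟩, ⟨1, 3⟩, ⟨2, 4⟩, ⟨1, 3⟩, ⟨4, 4⟩, ⟨1, 0⟩, ⟨4, 4⟩, ⟨1, 0⟩, ⟨2, 3⟩, ⟨2, 4⟩, ⟨0, 1⟩, ⟨1, 0⟩, ⟨4, 3⟩, ⟨2, 1⟩, ⟨1, 2⟩, ⟨1, 4⟩],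
  [⟨4, 3⟩, ⟨2, 1⟩, ⟨1, 4⟩, ⟨1, 2⟩, ⟨4, 3⟩, ⟨1, 4⟩, ⟨4, 1⟩, ⟨3, 4⟩, ⟨4, 4⟩, ⟨1, 0⟩, ⟨3, 2⟩, ⟨3, 1⟩, ⟨4, 4⟩, ⟨0, 1⟩, ⟨4, 4⟩, ⟨1, 0⟩, ⟨4, 2⟩, ⟨3, 1⟩, ⟨3, 2⟩, ⟨4, 2⟩, ⟨2, 4⟩, ⟨2, 3⟩, ⟨1, 3⟩, ⟨2, 3⟩, ⟨1, 0⟩, ⟨0, 1⟩, ⟨1, 0⟩, ⟨0, 1⟩, ⟨2, 4⟩, ⟨1, 3⟩, ⟨4, 4⟩, ⟨0, 1⟩, ⟨2, 1⟩, ⟨4, 1⟩, ⟨3, 4⟩, ⟨1, 2⟩],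
  [⟨1, 0⟩, ⟨1, 0⟩, ⟨1, 0⟩, ⟨1, 0⟩, ⟨0, 1⟩, ⟨0, 1⟩, ⟨0, 1⟩, ⟨0, 1⟩, ⟨2, 1⟩, ⟨2, 1⟩, ⟨3, 1⟩, ⟨3, 1⟩, ⟨4, 1⟩, ⟨4, 1⟩, ⟨1, 2⟩, ⟨1, 2⟩, ⟨3, 2⟩, ⟨3, 2⟩, ⟨4, 2⟩, ⟨4, 2⟩, ⟨1, 3⟩, ⟨1, 3⟩, ⟨2, 3⟩, ⟨2, 3⟩, ⟨4, 3⟩, ⟨4, 3⟩, ⟨1, 4⟩, ⟨1, 4⟩, ⟨2, 4⟩, ⟨2, 4⟩, ⟨3, 4⟩, ⟨3, 4⟩, ⟨4, 4⟩, ⟨4, 4⟩, ⟨4, 4⟩, ⟨4, 4⟩],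
  [⟨0, 1⟩, ⟨0, 1⟩, ⟨0, 1⟩, ⟨0, 1⟩, ⟨4, 4⟩, ⟨4, 4⟩, ⟨4, 4⟩, ⟨4, 4⟩, ⟨4, 1⟩, ⟨4, 1⟩, ⟨4, 2⟩, ⟨4, 2⟩, ⟨4, 3⟩, ⟨4, 3⟩, ⟨3, 4⟩, ⟨3, 4⟩, ⟨3, 1⟩, ⟨3, 1⟩, ⟨3, 2⟩, ⟨3, 2⟩, ⟨2, 3⟩, ⟨2, 3⟩, ⟨2, 4⟩, ⟨2, 4⟩, ⟨2, 1⟩, ⟨2, 1⟩, ⟨1, 2⟩, ⟨1, 2⟩, ⟨1, 3⟩, ⟨1, 3⟩, ⟨1, 4⟩, ⟨1, 4⟩, ⟨1, 0⟩, ⟨1, 0⟩, ⟨1, 0⟩, ⟨1, 0⟩],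
  [⟨4, 4⟩, ⟨4, 4⟩, ⟨4, 4⟩, ⟨4, 4⟩, ⟨1, 0⟩, ⟨1, 0⟩, ⟨1, 0⟩, ⟨1, 0⟩, ⟨4, 3⟩, ⟨4, 3⟩, ⟨3, 2⟩, ⟨3, 2⟩, ⟨2, 1⟩, ⟨2, 1⟩, ⟨1, 4⟩, ⟨1, 4⟩, ⟨4, 2⟩, ⟨4, 2⟩, ⟨3, 1⟩, ⟨3, 1⟩, ⟨2, 4⟩, ⟨2, 4⟩, ⟨1, 3⟩, ⟨1, 3⟩, ⟨4, 1⟩, ⟨4, 1⟩, ⟨3, 4⟩, ⟨3, 4⟩, ⟨2, 3⟩, ⟨2, 3⟩, ⟨1, 2⟩, ⟨1, 2⟩, ⟨0, 1⟩, ⟨0, 1⟩, ⟨0, 1⟩, ⟨0, 1⟩],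
  [⟨1, 0⟩, ⟨1, 0⟩, ⟨1, 0⟩, ⟨1, 0⟩, ⟨1, 0⟩, ⟨1, 0⟩, ⟨1, 0⟩, ⟨1, 0⟩, ⟨1, 0⟩, ⟨1, 0⟩, ⟨1, 0⟩, ⟨1, 0⟩, ⟨1, 0⟩, ⟨1, 0⟩, ⟨1, 0⟩, ⟨1, 0⟩, ⟨1, 0⟩, ⟨1, 0⟩, ⟨1, 0⟩, ⟨1, 0⟩, ⟨1, 0⟩, ⟨1, 0⟩, ⟨1, 0⟩, ⟨1, 0⟩, ⟨1, 0⟩, ⟨1, 0⟩, ⟨1, 0⟩, ⟨1, 0⟩, ⟨1, 0⟩, ⟨1, 0⟩, ⟨1, 0⟩, ⟨1, 0⟩, ⟨1, 0⟩, ⟨1, 0⟩, ⟨1, 0⟩, ⟨1, 0⟩],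
  [⟨0, 1⟩, ⟨0, 1⟩, ⟨0, 1⟩, ⟨0, 1⟩, ⟨0, 1⟩, ⟨0, 1⟩, ⟨0, 1⟩, ⟨0, 1⟩, ⟨0, 1⟩, ⟨0, 1⟩, ⟨0, 1⟩, ⟨0, 1⟩, ⟨0, 1⟩, ⟨0, 1⟩, ⟨0, 1⟩, ⟨0, 1⟩, ⟨0, 1⟩, ⟨0, 1⟩, ⟨0, 1⟩, ⟨0, 1⟩, ⟨0, 1⟩, ⟨0, 1⟩, ⟨0, 1⟩, ⟨0, 1⟩, ⟨0, 1⟩, ⟨0, 1⟩, ⟨0, 1⟩, ⟨0, 1⟩, ⟨0, 1⟩, ⟨0, 1⟩, ⟨0, 1⟩, ⟨0, 1⟩, ⟨0, 1⟩, ⟨0, 1⟩, ⟨0, 1⟩, ⟨0, 1⟩],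
  [⟨4, 4⟩, ⟨4, 4⟩, ⟨4, 4⟩, ⟨4, 4⟩, ⟨4, 4⟩, ⟨4, 4⟩, ⟨4, 4⟩, ⟨4, 4⟩, ⟨4, 4⟩, ⟨4, 4⟩, ⟨4, 4⟩, ⟨4, 4⟩, ⟨4, 4⟩, ⟨4, 4⟩, ⟨4, 4⟩, ⟨4, 4⟩, ⟨4, 4⟩, ⟨4, 4⟩, ⟨4, 4⟩, ⟨4, 4⟩, ⟨4, 4⟩, ⟨4, 4⟩, ⟨4, 4⟩, ⟨4, 4⟩, ⟨4, 4⟩, ⟨4, 4⟩, ⟨4, 4⟩, ⟨4, 4⟩, ⟨4, 4⟩, ⟨4, 4⟩, ⟨4, 4⟩, ⟨4, 4⟩, ⟨4, 4⟩, ⟨4, 4⟩, ⟨4, 4⟩, ⟨4, 4⟩],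
  [⟨2, 1⟩, ⟨4, 1⟩, ⟨1, 2⟩, ⟨3, 4⟩, ⟨2, 1⟩, ⟨1, 2⟩, ⟨4, 3⟩, ⟨1, 4⟩, ⟨1, 0⟩, ⟨0, 1⟩, ⟨3, 1⟩, ⟨4, 2⟩, ⟨1, 0⟩, ⟨4, 4⟩, ⟨1, 0⟩, ⟨0, 1⟩, ⟨3, 2⟩, ⟨4, 2⟩, ⟨3, 1⟩, ⟨3, 2⟩, ⟨1, 3⟩, ⟨2, 4⟩, ⟨2, 3⟩, ⟨2, 4⟩, ⟨0, 1⟩, ⟨4, 4⟩, ⟨0, 1⟩, ⟨4, 4⟩, ⟨1, 3⟩, ⟨2, 3⟩, ⟨1, 0⟩, ⟨4, 4⟩, ⟨4, 1⟩, ⟨4, 3⟩, ⟨1, 4⟩, ⟨3, 4⟩],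
  [⟨4, 1⟩, ⟨4, 3⟩, ⟨3, 4⟩, ⟨1, 4⟩, ⟨4, 1⟩, ⟨3, 4⟩, ⟨2, 1⟩, ⟨1, 2⟩, ⟨0, 1⟩, ⟨4, 4⟩, ⟨4, 2⟩, ⟨3, 2⟩, ⟨0, 1⟩, ⟨1, 0⟩, ⟨0, 1⟩, ⟨4, 4⟩, ⟨3, 1⟩, ⟨3, 2⟩, ⟨4, 2⟩, ⟨3, 1⟩, ⟨2, 3⟩, ⟨1, 3⟩, ⟨2, 4⟩, ⟨1, 3⟩, ⟨4, 4⟩, ⟨1, 0⟩, ⟨4, 4⟩, ⟨1, 0⟩, ⟨2, 3⟩, ⟨2, 4⟩, ⟨0, 1⟩, ⟨1, 0⟩, ⟨4, 3⟩, ⟨2, 1⟩, ⟨1, 2⟩, ⟨1, 4⟩],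
  [⟨4, 3⟩, ⟨2, 1⟩, ⟨1, 4⟩, ⟨1, 2⟩, ⟨4, 3⟩, ⟨1, 4⟩, ⟨4, 1⟩, ⟨3, 4⟩, ⟨4, 4⟩, ⟨1, 0⟩, ⟨3, 2⟩, ⟨3, 1⟩, ⟨4, 4⟩, ⟨0, 1⟩, ⟨4, 4⟩, ⟨1, 0⟩, ⟨4, 2⟩, ⟨3, 1⟩, ⟨3, 2⟩, ⟨4, 2⟩, ⟨2, 4⟩, ⟨2, 3⟩, ⟨1, 3⟩, ⟨2, 3⟩, ⟨1, 0⟩, ⟨0, 1⟩, ⟨1, 0⟩, ⟨0, 1⟩, ⟨2, 4⟩, ⟨1, 3⟩, ⟨4, 4⟩, ⟨0, 1⟩, ⟨2, 1⟩, ⟨4, 1⟩, ⟨3, 4⟩, ⟨1, 2⟩],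
  [⟨1, 0⟩, ⟨1, 0⟩, ⟨1, 0⟩, ⟨1, 0⟩, ⟨0, 1⟩, ⟨0, 1⟩, ⟨0, 1⟩, ⟨0, 1⟩, ⟨2, 1⟩, ⟨2, 1⟩, ⟨3, 1⟩, ⟨3, 1⟩, ⟨4, 1⟩, ⟨4, 1⟩, ⟨1, 2⟩, ⟨1, 2⟩, ⟨3, 2⟩, ⟨3, 2⟩, ⟨4, 2⟩, ⟨4, 2⟩, ⟨1, 3⟩, ⟨1, 3⟩, ⟨2, 3⟩, ⟨2, 3⟩, ⟨4, 3⟩, ⟨4, 3⟩, ⟨1, 4⟩, ⟨1, 4⟩, ⟨2, 4⟩, ⟨2, 4⟩, ⟨3, 4⟩, ⟨3, 4⟩, ⟨4, 4⟩, ⟨4, 4⟩, ⟨4, 4⟩, ⟨4, 4⟩],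
  [⟨0, 1⟩, ⟨0, 1⟩, ⟨0, 1⟩, ⟨0, 1⟩, ⟨4, 4⟩, ⟨4, 4⟩, ⟨4, 4⟩, ⟨4, 4⟩, ⟨4, 1⟩, ⟨4, 1⟩, ⟨4, 2⟩, ⟨4, 2⟩, ⟨4, 3⟩, ⟨4, 3⟩, ⟨3, 4⟩, ⟨3, 4⟩, ⟨3, 1⟩, ⟨3, 1⟩, ⟨3, 2⟩, ⟨3, 2⟩, ⟨2, 3⟩, ⟨2, 3⟩, ⟨2, 4⟩, ⟨2, 4⟩, ⟨2, 1⟩, ⟨2, 1⟩, ⟨1, 2⟩, ⟨1, 2⟩, ⟨1, 3⟩, ⟨1, 3⟩, ⟨1, 4⟩, ⟨1, 4⟩, ⟨1, 0⟩, ⟨1, 0⟩, ⟨1, 0⟩, ⟨1, 0⟩],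
  [⟨4, 4⟩, ⟨4, 4⟩, ⟨4, 4⟩, ⟨4, 4⟩, ⟨1, 0⟩, ⟨1, 0⟩, ⟨1, 0⟩, ⟨1, 0⟩, ⟨4, 3⟩, ⟨4, 3⟩, ⟨3, 2⟩, ⟨3, 2⟩, ⟨2, 1⟩, ⟨2, 1⟩, ⟨1, 4⟩, ⟨1, 4⟩, ⟨4, 2⟩, ⟨4, 2⟩, ⟨3, 1⟩, ⟨3, 1⟩, ⟨2, 4⟩, ⟨2, 4⟩, ⟨1, 3⟩, ⟨1, 3⟩, ⟨4, 1⟩, ⟨4, 1⟩, ⟨3, 4⟩, ⟨3, 4⟩, ⟨2, 3⟩, ⟨2, 3⟩, ⟨1, 2⟩, ⟨1, 2⟩, ⟨0, 1⟩, ⟨0, 1⟩, ⟨0, 1⟩, ⟨0, 1⟩],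
  [⟨1, 0⟩, ⟨1, 0⟩, ⟨1, 0⟩, ⟨1, 0⟩, ⟨1, 0⟩, ⟨1, 0⟩, ⟨1, 0⟩, ⟨1, 0⟩, ⟨1, 0⟩, ⟨1, 0⟩, ⟨1, 0⟩, ⟨1, 0⟩, ⟨1, 0⟩, ⟨1, 0⟩, ⟨1, 0⟩, ⟨1, 0⟩, ⟨1, 0⟩, ⟨1, 0⟩, ⟨1, 0⟩, ⟨1, 0⟩, ⟨1, 0⟩, ⟨1, 0⟩, ⟨1, 0⟩, ⟨1, 0⟩, ⟨1, 0⟩, ⟨1, 0⟩, ⟨1, 0⟩, ⟨1, 0⟩, ⟨1, 0⟩, ⟨1, 0⟩, ⟨1, 0⟩, ⟨1, 0⟩, ⟨1, 0⟩, ⟨1, 0⟩, ⟨1, 0⟩, ⟨1, 0⟩],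
  [⟨0, 1⟩, ⟨0, 1⟩, ⟨0, 1⟩, ⟨0, 1⟩, ⟨0, 1⟩, ⟨0, 1⟩, ⟨0, 1⟩, ⟨0, 1⟩, ⟨0, 1⟩, ⟨0, 1⟩, ⟨0, 1⟩, ⟨0, 1⟩, ⟨0, 1⟩, ⟨0, 1⟩, ⟨0, 1⟩, ⟨0, 1⟩, ⟨0, 1⟩, ⟨0, 1⟩, ⟨0, 1⟩, ⟨0, 1⟩, ⟨0, 1⟩, ⟨0, 1⟩, ⟨0, 1⟩, ⟨0, 1⟩, ⟨0, 1⟩, ⟨0, 1⟩, ⟨0, 1⟩, ⟨0, 1⟩, ⟨0, 1⟩, ⟨0, 1⟩, ⟨0, 1⟩, ⟨0, 1⟩, ⟨0, 1⟩, ⟨0, 1⟩, ⟨0, 1⟩, ⟨0, 1⟩],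
  [⟨4, 4⟩, ⟨4, 4⟩, ⟨4, 4⟩, ⟨4, 4⟩, ⟨4, 4⟩, ⟨4, 4⟩, ⟨4, 4⟩, ⟨4, 4⟩, ⟨4, 4⟩, ⟨4, 4⟩, ⟨4, 4⟩, ⟨4, 4⟩, ⟨4, 4⟩, ⟨4, 4⟩, ⟨4, 4⟩, ⟨4, 4⟩, ⟨4, 4⟩, ⟨4, 4⟩, ⟨4, 4⟩, ⟨4, 4⟩, ⟨4, 4⟩, ⟨4, 4⟩, ⟨4, 4⟩, ⟨4, 4⟩, ⟨4, 4⟩, ⟨4, 4⟩, ⟨4, 4⟩, ⟨4, 4⟩, ⟨4, 4⟩, ⟨4, 4⟩, ⟨4, 4⟩, ⟨4, 4⟩, ⟨4, 4⟩, ⟨4, 4⟩, ⟨4, 4⟩, ⟨4, 4⟩],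
  [⟨2, 1⟩, ⟨4, 1⟩, ⟨1, 2⟩, ⟨3, 4⟩, ⟨2, 1⟩, ⟨1, 2⟩, ⟨4, 3⟩, ⟨1, 4⟩, ⟨1, 0⟩, ⟨0, 1⟩, ⟨3, 1⟩, ⟨4, 2⟩, ⟨1, 0⟩, ⟨4, 4⟩, ⟨1, 0⟩, ⟨0, 1⟩, ⟨3, 2⟩, ⟨4, 2⟩, ⟨3, 1⟩, ⟨3, 2⟩, ⟨1, 3⟩, ⟨2, 4⟩, ⟨2, 3⟩, ⟨2, 4⟩, ⟨0, 1⟩, ⟨4, 4⟩, ⟨0, 1⟩, ⟨4, 4⟩, ⟨1, 3⟩, ⟨2, 3⟩, ⟨1, 0⟩, ⟨4, 4⟩, ⟨4, 1⟩, ⟨4, 3⟩, ⟨1, 4⟩, ⟨3, 4⟩],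
  [⟨4, 1⟩, ⟨4, 3⟩, ⟨3, 4⟩, ⟨1, 4⟩, ⟨4, 1⟩, ⟨3, 4⟩, ⟨2, 1⟩, ⟨1, 2⟩, ⟨0, 1⟩, ⟨4, 4⟩, ⟨4, 2⟩, ⟨3, 2⟩, ⟨0, 1⟩, ⟨1, 0⟩, ⟨0, 1⟩, ⟨4, 4⟩, ⟨3, 1⟩, ⟨3, 2⟩, ⟨4, 2⟩, ⟨3, 1⟩, ⟨2, 3⟩, ⟨1, 3⟩, ⟨2, 4⟩, ⟨1, 3⟩, ⟨4, 4⟩, ⟨1, 0⟩, ⟨4, 4⟩, ⟨1, 0⟩, ⟨2, 3⟩, ⟨2, 4⟩, ⟨0, 1⟩, ⟨1, 0⟩, ⟨4, 3⟩, ⟨2, 1⟩, ⟨1, 2⟩, ⟨1, 4⟩],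
  [⟨4, 3⟩, ⟨2, 1⟩, ⟨1, 4⟩, ⟨1, 2⟩, ⟨4, 3⟩, ⟨1, 4⟩, ⟨4, 1⟩, ⟨3, 4⟩, ⟨4, 4⟩, ⟨1, 0⟩, ⟨3, 2⟩, ⟨3, 1⟩, ⟨4, 4⟩, ⟨0, 1⟩, ⟨4, 4⟩, ⟨1, 0⟩, ⟨4, 2⟩, ⟨3, 1⟩, ⟨3, 2⟩, ⟨4, 2⟩, ⟨2, 4⟩, ⟨2, 3⟩, ⟨1, 3⟩, ⟨2, 3⟩, ⟨1, 0⟩, ⟨0, 1⟩, ⟨1, 0⟩, ⟨0, 1⟩, ⟨2, 4⟩, ⟨1, 3⟩, ⟨4, 4⟩, ⟨0, 1⟩, ⟨2, 1⟩, ⟨4, 1⟩, ⟨3, 4⟩, ⟨1, 2⟩],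
  [⟨1, 0⟩, ⟨1, 0⟩, ⟨1, 0⟩, ⟨1, 0⟩, ⟨0, 1⟩, ⟨0, 1⟩, ⟨0, 1⟩, ⟨0, 1⟩, ⟨2, 1⟩, ⟨2, 1⟩, ⟨3, 1⟩, ⟨3, 1⟩, ⟨4, 1⟩, ⟨4, 1⟩, ⟨1, 2⟩, ⟨1, 2⟩, ⟨3, 2⟩, ⟨3, 2⟩, ⟨4, 2⟩, ⟨4, 2⟩, ⟨1, 3⟩, ⟨1, 3⟩, ⟨2, 3⟩, ⟨2, 3⟩, ⟨4, 3⟩, ⟨4, 3⟩, ⟨1, 4⟩, ⟨1, 4⟩, ⟨2, 4⟩, ⟨2, 4⟩, ⟨3, 4⟩, ⟨3, 4⟩, ⟨4, 4⟩, ⟨4, 4⟩, ⟨4, 4⟩, ⟨4, 4⟩],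
  [⟨0, 1⟩, ⟨0, 1⟩, ⟨0, 1⟩, ⟨0, 1⟩, ⟨4, 4⟩, ⟨4, 4⟩, ⟨4, 4⟩, ⟨4, 4⟩, ⟨4, 1⟩, ⟨4, 1⟩, ⟨4, 2⟩, ⟨4, 2⟩, ⟨4, 3⟩, ⟨4, 3⟩, ⟨3, 4⟩, ⟨3, 4⟩, ⟨3, 1⟩, ⟨3, 1⟩, ⟨3, 2⟩, ⟨3, 2⟩, ⟨2, 3⟩, ⟨2, 3⟩, ⟨2, 4⟩, ⟨2, 4⟩, ⟨2, 1⟩, ⟨2, 1⟩, ⟨1, 2⟩, ⟨1, 2⟩, ⟨1, 3⟩, ⟨1, 3⟩, ⟨1, 4⟩, ⟨1, 4⟩, ⟨1, 0⟩, ⟨1, 0⟩, ⟨1, 0⟩, ⟨1, 0⟩],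
  [⟨4, 4⟩, ⟨4, 4⟩, ⟨4, 4⟩, ⟨4, 4⟩, ⟨1, 0⟩, ⟨1, 0⟩, ⟨1, 0⟩, ⟨1, 0⟩, ⟨4, 3⟩, ⟨4, 3⟩, ⟨3, 2⟩, ⟨3, 2⟩, ⟨2, 1⟩, ⟨2, 1⟩, ⟨1, 4⟩, ⟨1, 4⟩, ⟨4, 2⟩, ⟨4, 2⟩, ⟨3, 1⟩, ⟨3, 1⟩, ⟨2, 4⟩, ⟨2, 4⟩, ⟨1, 3⟩, ⟨1, 3⟩, ⟨4, 1⟩, ⟨4, 1⟩, ⟨3, 4⟩, ⟨3, 4⟩, ⟨2, 3⟩, ⟨2, 3⟩, ⟨1, 2⟩, ⟨1, 2⟩, ⟨0, 1⟩, ⟨0, 1⟩, ⟨0, 1⟩, ⟨0, 1⟩]]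
def gpL : List (List ℕ) := [[0, 1, 2, 3, 4, 5, 6, 7, 8, 9, 10, 11, 12, 13, 14, 15, 16, 17, 18, 19, 20, 21, 22, 23, 24, 25, 26, 27, 28, 29, 30, 31, 32, 33, 34, 35],
  [0, 1, 2, 3, 4, 5, 6, 7, 8, 9, 10, 11, 12, 13, 14, 15, 16, 17, 18, 19, 20, 21, 22, 23, 24, 25, 26, 27, 28, 29, 30, 31, 32, 33, 34, 35],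
  [0, 1, 2, 3, 4, 5, 6, 7, 8, 9, 10, 11, 12, 13, 14, 15, 16, 17, 18, 19, 20, 21, 22, 23, 24, 25, 26, 27, 28, 29, 30, 31, 32, 33, 34, 35],
  [19, 23, 28, 11, 25, 27, 31, 13, 17, 33, 22, 30, 29, 26, 21, 34, 16, 0, 3, 8, 20, 2, 10, 12, 35, 9, 32, 15, 14, 1, 18, 24, 7, 4, 5, 6],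
  [17, 29, 21, 18, 9, 15, 26, 24, 10, 1, 28, 27, 20, 14, 22, 3, 11, 6, 5, 13, 23, 7, 19, 25, 2, 12, 0, 30, 31, 4, 16, 8, 35, 33, 34, 32],
  [10, 20, 22, 16, 12, 30, 14, 8, 19, 4, 21, 15, 23, 31, 28, 5, 18, 32, 34, 24, 29, 35, 17, 9, 7, 25, 6, 27, 26, 33, 11, 13, 2, 1, 3, 0],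
  [17, 29, 21, 18, 33, 34, 35, 32, 19, 25, 22, 3, 23, 7, 28, 27, 16, 8, 30, 0, 20, 14, 10, 1, 31, 4, 13, 5, 2, 12, 11, 6, 26, 9, 15, 24],
  [19, 23, 28, 11, 4, 5, 7, 6, 10, 12, 21, 34, 20, 2, 22, 30, 18, 24, 15, 32, 29, 26, 17, 33, 14, 1, 8, 3, 35, 9, 16, 0, 31, 25, 27, 13],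
  [10, 20, 22, 16, 1, 3, 2, 0, 17, 9, 28, 5, 29, 35, 21, 15, 11, 13, 27, 6, 23, 31, 19, 4, 26, 33, 24, 34, 7, 25, 18, 32, 14, 12, 30, 8],
  [0, 1, 2, 3, 4, 5, 6, 7, 8, 9, 10, 11, 12, 13, 14, 15, 16, 17, 18, 19, 20, 21, 22, 23, 24, 25, 26, 27, 28, 29, 30, 31, 32, 33, 34, 35],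
  [8, 12, 14, 30, 25, 27, 13, 31, 22, 29, 2, 5, 20, 28, 10, 18, 3, 35, 34, 7, 1, 32, 0, 4, 21, 23, 17, 11, 6, 33, 16, 19, 24, 9, 15, 26],
  [22, 20, 10, 16, 23, 11, 28, 19, 0, 33, 14, 27, 1, 6, 2, 34, 30, 26, 15, 31, 12, 24, 8, 25, 32, 4, 35, 5, 13, 9, 3, 7, 21, 29, 18, 17],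
  [10, 16, 22, 20, 27, 25, 31, 13, 26, 11, 6, 29, 15, 2, 24, 23, 4, 8, 12, 21, 5, 14, 7, 18, 19, 3, 28, 1, 17, 30, 9, 0, 35, 34, 33, 32],
  [26, 15, 24, 9, 3, 1, 2, 0, 7, 30, 22, 25, 5, 17, 6, 12, 20, 32, 33, 13, 16, 35, 10, 27, 14, 18, 8, 29, 31, 34, 4, 21, 19, 11, 23, 28],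
  [7, 5, 6, 4, 18, 29, 17, 21, 10, 34, 24, 1, 16, 31, 22, 33, 9, 28, 23, 0, 15, 19, 26, 3, 35, 27, 32, 25, 2, 11, 20, 13, 14, 30, 12, 8],
  [28, 11, 19, 23, 34, 33, 32, 35, 24, 5, 2, 25, 15, 22, 26, 4, 1, 17, 29, 31, 3, 21, 0, 27, 6, 16, 7, 20, 13, 18, 9, 10, 8, 30, 12, 14],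
  [24, 15, 26, 9, 16, 20, 22, 10, 0, 18, 19, 33, 3, 13, 2, 29, 23, 14, 12, 35, 11, 8, 28, 34, 21, 27, 17, 25, 32, 30, 1, 31, 6, 5, 4, 7],
  [0, 3, 2, 1, 27, 25, 13, 31, 28, 30, 26, 20, 11, 32, 19, 12, 9, 7, 4, 10, 15, 6, 24, 16, 8, 34, 14, 33, 22, 5, 23, 35, 21, 18, 29, 17],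
  [8, 12, 14, 30, 9, 15, 24, 26, 0, 4, 10, 18, 1, 32, 2, 5, 16, 19, 11, 17, 20, 28, 22, 29, 6, 33, 7, 34, 21, 23, 3, 35, 13, 25, 27, 31],
  [0, 1, 2, 3, 33, 34, 32, 35, 22, 23, 14, 15, 20, 21, 10, 11, 30, 31, 27, 26, 12, 13, 8, 9, 28, 29, 19, 18, 24, 25, 16, 17, 6, 4, 5, 7],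
  [22, 20, 10, 16, 29, 18, 21, 17, 8, 25, 2, 34, 12, 24, 14, 27, 3, 7, 5, 35, 1, 6, 0, 33, 13, 9, 31, 15, 32, 4, 30, 26, 28, 23, 11, 19],
  [13, 27, 31, 25, 3, 1, 0, 2, 22, 5, 35, 23, 16, 24, 10, 4, 33, 14, 12, 19, 34, 8, 32, 11, 6, 15, 7, 9, 28, 30, 20, 26, 21, 18, 29, 17],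
  [22, 16, 10, 20, 15, 9, 24, 26, 32, 30, 31, 1, 34, 28, 35, 12, 25, 17, 29, 2, 27, 21, 13, 3, 8, 11, 14, 23, 0, 18, 33, 19, 6, 5, 4, 7],
  [28, 11, 19, 23, 30, 12, 8, 14, 0, 27, 26, 4, 3, 21, 2, 25, 9, 10, 20, 7, 15, 22, 24, 5, 13, 18, 31, 29, 6, 16, 1, 17, 32, 34, 33, 35],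
  [10, 16, 22, 20, 34, 33, 35, 32, 7, 18, 24, 23, 5, 14, 6, 29, 9, 0, 1, 28, 15, 2, 26, 11, 17, 30, 21, 12, 19, 3, 4, 8, 31, 27, 25, 13],
  [14, 30, 8, 12, 18, 29, 17, 21, 19, 15, 32, 25, 11, 2, 28, 9, 33, 22, 20, 13, 34, 10, 35, 27, 26, 3, 24, 1, 31, 16, 23, 0, 7, 5, 4, 6],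
  [26, 15, 24, 9, 11, 23, 19, 28, 10, 27, 6, 12, 16, 35, 22, 25, 4, 21, 29, 8, 5, 17, 7, 30, 31, 34, 13, 33, 14, 18, 20, 32, 2, 3, 1, 0]]
def gcL : List (List K25) := [[⟨1, 0⟩, ⟨1, 0⟩, ⟨1, 0⟩, ⟨1, 0⟩, ⟨1, 0⟩, ⟨1, 0⟩, ⟨1, 0⟩, ⟨1, 0⟩, ⟨1, 0⟩, ⟨1, 0⟩, ⟨1, 0⟩, ⟨1, 0⟩, ⟨1, 0⟩, ⟨1, 0⟩, ⟨1, 0⟩, ⟨1, 0⟩, ⟨1, 0⟩, ⟨1, 0⟩, ⟨1, 0⟩, ⟨1, 0⟩, ⟨1, 0⟩, ⟨1, 0⟩, ⟨1, 0⟩, ⟨1, 0⟩, ⟨1, 0⟩, ⟨1, 0⟩, ⟨1, 0⟩, ⟨1, 0⟩, ⟨1, 0⟩, ⟨1, 0⟩, ⟨1, 0⟩, ⟨1, 0⟩, ⟨1, 0⟩, ⟨1, 0⟩, ⟨1, 0⟩, ⟨1, 0⟩],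
  [⟨1, 0⟩, ⟨1, 0⟩, ⟨1, 0⟩, ⟨1, 0⟩, ⟨1, 0⟩, ⟨1, 0⟩, ⟨1, 0⟩, ⟨1, 0⟩, ⟨1, 0⟩, ⟨1, 0⟩, ⟨1, 0⟩, ⟨1, 0⟩, ⟨1, 0⟩, ⟨1, 0⟩, ⟨1, 0⟩, ⟨1, 0⟩, ⟨1, 0⟩, ⟨1, 0⟩, ⟨1, 0⟩, ⟨1, 0⟩, ⟨1, 0⟩, ⟨1, 0⟩, ⟨1, 0⟩, ⟨1, 0⟩, ⟨1, 0⟩, ⟨1, 0⟩, ⟨1, 0⟩, ⟨1, 0⟩, ⟨1, 0⟩, ⟨1, 0⟩, ⟨1, 0⟩, ⟨1, 0⟩, ⟨1, 0⟩, ⟨1, 0⟩, ⟨1, 0⟩, ⟨1, 0⟩],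
  [⟨1, 0⟩, ⟨1, 0⟩, ⟨1, 0⟩, ⟨1, 0⟩, ⟨1, 0⟩, ⟨1, 0⟩, ⟨1, 0⟩, ⟨1, 0⟩, ⟨1, 0⟩, ⟨1, 0⟩, ⟨1, 0⟩, ⟨1, 0⟩, ⟨1, 0⟩, ⟨1, 0⟩, ⟨1, 0⟩, ⟨1, 0⟩, ⟨1, 0⟩, ⟨1, 0⟩, ⟨1, 0⟩, ⟨1, 0⟩, ⟨1, 0⟩, ⟨1, 0⟩, ⟨1, 0⟩, ⟨1, 0⟩, ⟨1, 0⟩, ⟨1, 0⟩, ⟨1, 0⟩, ⟨1, 0⟩, ⟨1, 0⟩, ⟨1, 0⟩, ⟨1, 0⟩, ⟨1, 0⟩, ⟨1, 0⟩, ⟨1, 0⟩, ⟨1, 0⟩, ⟨1, 0⟩],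
  [⟨4, 4⟩, ⟨3, 2⟩, ⟨3, 3⟩, ⟨4, 2⟩, ⟨3, 3⟩, ⟨2, 2⟩, ⟨4, 2⟩, ⟨4, 3⟩, ⟨4, 4⟩, ⟨3, 3⟩, ⟨1, 4⟩, ⟨4, 1⟩, ⟨3, 2⟩, ⟨3, 1⟩, ⟨3, 3⟩, ⟨2, 2⟩, ⟨3, 0⟩, ⟨0, 4⟩, ⟨4, 1⟩, ⟨0, 4⟩, ⟨2, 0⟩, ⟨0, 2⟩, ⟨1, 3⟩, ⟨2, 1⟩, ⟨4, 2⟩, ⟨0, 2⟩, ⟨4, 3⟩, ⟨0, 3⟩, ⟨0, 2⟩, ⟨2, 1⟩, ⟨4, 2⟩, ⟨4, 1⟩, ⟨3, 1⟩, ⟨0, 2⟩, ⟨0, 3⟩, ⟨4, 1⟩],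
  [⟨4, 4⟩, ⟨3, 2⟩, ⟨3, 3⟩, ⟨4, 2⟩, ⟨3, 3⟩, ⟨2, 2⟩, ⟨4, 2⟩, ⟨4, 3⟩, ⟨4, 4⟩, ⟨3, 3⟩, ⟨1, 4⟩, ⟨4, 1⟩, ⟨3, 2⟩, ⟨3, 1⟩, ⟨3, 3⟩, ⟨2, 2⟩, ⟨3, 0⟩, ⟨0, 4⟩, ⟨4, 1⟩, ⟨0, 4⟩, ⟨2, 0⟩, ⟨0, 2⟩, ⟨1, 3⟩, ⟨2, 1⟩, ⟨4, 2⟩, ⟨0, 2⟩, ⟨4, 3⟩, ⟨0, 3⟩, ⟨0, 2⟩, ⟨2, 1⟩, ⟨4, 2⟩, ⟨4, 1⟩, ⟨3, 1⟩, ⟨0, 2⟩, ⟨0, 3⟩, ⟨4, 1⟩],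
  [⟨4, 4⟩, ⟨3, 2⟩, ⟨3, 3⟩, ⟨4, 2⟩, ⟨3, 3⟩, ⟨2, 2⟩, ⟨4, 2⟩, ⟨4, 3⟩, ⟨4, 4⟩, ⟨3, 3⟩, ⟨1, 4⟩, ⟨4, 1⟩, ⟨3, 2⟩, ⟨3, 1⟩, ⟨3, 3⟩, ⟨2, 2⟩, ⟨3, 0⟩, ⟨0, 4⟩, ⟨4, 1⟩, ⟨0, 4⟩, ⟨2, 0⟩, ⟨0, 2⟩, ⟨1, 3⟩, ⟨2, 1⟩, ⟨4, 2⟩, ⟨0, 2⟩, ⟨4, 3⟩, ⟨0, 3⟩, ⟨0, 2⟩, ⟨2, 1⟩, ⟨4, 2⟩, ⟨4, 1⟩, ⟨3, 1⟩, ⟨0, 2⟩, ⟨0, 3⟩, ⟨4, 1⟩],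
  [⟨1, 1⟩, ⟨2, 3⟩, ⟨2, 2⟩, ⟨1, 3⟩, ⟨2, 2⟩, ⟨3, 3⟩, ⟨1, 3⟩, ⟨1, 2⟩, ⟨1, 1⟩, ⟨2, 2⟩, ⟨4, 1⟩, ⟨1, 4⟩, ⟨2, 3⟩, ⟨2, 4⟩, ⟨2, 2⟩, ⟨3, 3⟩, ⟨2, 0⟩, ⟨0, 1⟩, ⟨1, 4⟩, ⟨0, 1⟩, ⟨3, 0⟩, ⟨0, 3⟩, ⟨4, 2⟩, ⟨3, 4⟩, ⟨1, 3⟩, ⟨0, 3⟩, ⟨1, 2⟩, ⟨0, 2⟩, ⟨0, 3⟩, ⟨3, 4⟩, ⟨1, 3⟩, ⟨1, 4⟩, ⟨2, 4⟩, ⟨0, 3⟩, ⟨0, 2⟩, ⟨1, 4⟩],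
  [⟨1, 1⟩, ⟨2, 3⟩, ⟨2, 2⟩, ⟨1, 3⟩, ⟨2, 2⟩, ⟨3, 3⟩, ⟨1, 3⟩, ⟨1, 2⟩, ⟨1, 1⟩, ⟨2, 2⟩, ⟨4, 1⟩, ⟨1, 4⟩, ⟨2, 3⟩, ⟨2, 4⟩, ⟨2, 2⟩, ⟨3, 3⟩, ⟨2, 0⟩, ⟨0, 1⟩, ⟨1, 4⟩, ⟨0, 1⟩, ⟨3, 0⟩, ⟨0, 3⟩, ⟨4, 2⟩, ⟨3, 4⟩, ⟨1, 3⟩, ⟨0, 3⟩, ⟨1, 2⟩, ⟨0, 2⟩, ⟨0, 3⟩, ⟨3, 4⟩, ⟨1, 3⟩, ⟨1, 4⟩, ⟨2, 4⟩, ⟨0, 3⟩, ⟨0, 2⟩, ⟨1, 4⟩],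
  [⟨1, 1⟩, ⟨2, 3⟩, ⟨2, 2⟩, ⟨1, 3⟩, ⟨2, 2⟩, ⟨3, 3⟩, ⟨1, 3⟩, ⟨1, 2⟩, ⟨1, 1⟩, ⟨2, 2⟩, ⟨4, 1⟩, ⟨1, 4⟩, ⟨2, 3⟩, ⟨2, 4⟩, ⟨2, 2⟩, ⟨3, 3⟩, ⟨2, 0⟩, ⟨0, 1⟩, ⟨1, 4⟩, ⟨0, 1⟩, ⟨3, 0⟩, ⟨0, 3⟩, ⟨4, 2⟩, ⟨3, 4⟩, ⟨1, 3⟩, ⟨0, 3⟩, ⟨1, 2⟩, ⟨0, 2⟩, ⟨0, 3⟩, ⟨3, 4⟩, ⟨1, 3⟩, ⟨1, 4⟩, ⟨2, 4⟩, ⟨0, 3⟩, ⟨0, 2⟩, ⟨1, 4⟩],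
  [⟨1, 0⟩, ⟨1, 0⟩, ⟨1, 0⟩, ⟨1, 0⟩, ⟨1, 0⟩, ⟨1, 0⟩, ⟨1, 0⟩, ⟨1, 0⟩, ⟨1, 0⟩, ⟨1, 0⟩, ⟨1, 0⟩, ⟨1, 0⟩, ⟨1, 0⟩, ⟨1, 0⟩, ⟨1, 0⟩, ⟨1, 0⟩, ⟨1, 0⟩, ⟨1, 0⟩, ⟨1, 0⟩, ⟨1, 0⟩, ⟨1, 0⟩, ⟨1, 0⟩, ⟨1, 0⟩, ⟨1, 0⟩, ⟨1, 0⟩, ⟨1, 0⟩, ⟨1, 0⟩, ⟨1, 0⟩, ⟨1, 0⟩, ⟨1, 0⟩, ⟨1, 0⟩, ⟨1, 0⟩, ⟨1, 0⟩, ⟨1, 0⟩, ⟨1, 0⟩, ⟨1, 0⟩],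
  [⟨1, 0⟩, ⟨1, 0⟩, ⟨1, 0⟩, ⟨1, 0⟩, ⟨0, 1⟩, ⟨0, 1⟩, ⟨0, 1⟩, ⟨0, 1⟩, ⟨2, 1⟩, ⟨2, 1⟩, ⟨3, 1⟩, ⟨3, 1⟩, ⟨4, 1⟩, ⟨4, 1⟩, ⟨1, 2⟩, ⟨1, 2⟩, ⟨3, 2⟩, ⟨3, 2⟩, ⟨4, 2⟩, ⟨4, 2⟩, ⟨1, 3⟩, ⟨1, 3⟩, ⟨2, 3⟩, ⟨2, 3⟩, ⟨4, 3⟩, ⟨4, 3⟩, ⟨1, 4⟩, ⟨1, 4⟩, ⟨2, 4⟩, ⟨2, 4⟩, ⟨3, 4⟩, ⟨3, 4⟩, ⟨4, 4⟩, ⟨4, 4⟩, ⟨4, 4⟩, ⟨4, 4⟩],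
  [⟨2, 1⟩, ⟨4, 1⟩, ⟨1, 2⟩, ⟨3, 4⟩, ⟨2, 1⟩, ⟨1, 2⟩, ⟨4, 3⟩, ⟨1, 4⟩, ⟨1, 0⟩, ⟨0, 1⟩, ⟨3, 1⟩, ⟨4, 2⟩, ⟨1, 0⟩, ⟨4, 4⟩, ⟨1, 0⟩, ⟨0, 1⟩, ⟨3, 2⟩, ⟨4, 2⟩, ⟨3, 1⟩, ⟨3, 2⟩, ⟨1, 3⟩, ⟨2, 4⟩, ⟨2, 3⟩, ⟨2, 4⟩, ⟨0, 1⟩, ⟨4, 4⟩, ⟨0, 1⟩, ⟨4, 4⟩, ⟨1, 3⟩, ⟨2, 3⟩, ⟨1, 0⟩, ⟨4, 4⟩, ⟨4, 1⟩, ⟨4, 3⟩, ⟨1, 4⟩, ⟨3, 4⟩],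
  [⟨0, 3⟩, ⟨4, 4⟩, ⟨0, 4⟩, ⟨3, 3⟩, ⟨4, 2⟩, ⟨4, 3⟩, ⟨2, 1⟩, ⟨3, 1⟩, ⟨4, 3⟩, ⟨4, 4⟩, ⟨2, 2⟩, ⟨1, 4⟩, ⟨3, 1⟩, ⟨2, 1⟩, ⟨3, 2⟩, ⟨3, 3⟩, ⟨0, 4⟩, ⟨2, 2⟩, ⟨0, 4⟩, ⟨2, 3⟩, ⟨0, 2⟩, ⟨4, 4⟩, ⟨4, 4⟩, ⟨1, 3⟩, ⟨0, 3⟩, ⟨4, 2⟩, ⟨0, 4⟩, ⟨4, 3⟩, ⟨3, 4⟩, ⟨0, 2⟩, ⟨4, 1⟩, ⟨3, 1⟩, ⟨4, 3⟩, ⟨3, 1⟩, ⟨4, 1⟩, ⟨3, 2⟩],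
  [⟨4, 3⟩, ⟨3, 1⟩, ⟨3, 2⟩, ⟨4, 1⟩, ⟨3, 2⟩, ⟨2, 1⟩, ⟨4, 1⟩, ⟨4, 2⟩, ⟨4, 3⟩, ⟨3, 2⟩, ⟨1, 3⟩, ⟨4, 0⟩, ⟨3, 1⟩, ⟨3, 0⟩, ⟨3, 2⟩, ⟨2, 1⟩, ⟨3, 4⟩, ⟨0, 3⟩, ⟨4, 0⟩, ⟨0, 3⟩, ⟨2, 4⟩, ⟨0, 1⟩, ⟨1, 2⟩, ⟨2, 0⟩, ⟨4, 1⟩, ⟨0, 1⟩, ⟨4, 2⟩, ⟨0, 2⟩, ⟨0, 1⟩, ⟨2, 0⟩, ⟨4, 1⟩, ⟨4, 0⟩, ⟨3, 0⟩, ⟨0, 1⟩, ⟨0, 2⟩, ⟨4, 0⟩],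
  [⟨4, 3⟩, ⟨3, 1⟩, ⟨3, 2⟩, ⟨4, 1⟩, ⟨4, 4⟩, ⟨3, 3⟩, ⟨0, 3⟩, ⟨0, 4⟩, ⟨0, 3⟩, ⟨4, 2⟩, ⟨2, 2⟩, ⟨0, 4⟩, ⟨4, 4⟩, ⟨4, 3⟩, ⟨0, 4⟩, ⟨4, 3⟩, ⟨0, 4⟩, ⟨2, 3⟩, ⟨1, 4⟩, ⟨2, 2⟩, ⟨0, 2⟩, ⟨3, 4⟩, ⟨4, 4⟩, ⟨0, 2⟩, ⟨2, 1⟩, ⟨3, 1⟩, ⟨3, 1⟩, ⟨4, 1⟩, ⟨4, 4⟩, ⟨1, 3⟩, ⟨3, 3⟩, ⟨3, 2⟩, ⟨2, 1⟩, ⟨4, 2⟩, ⟨4, 3⟩, ⟨3, 1⟩],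
  [⟨1, 3⟩, ⟨2, 0⟩, ⟨2, 4⟩, ⟨1, 0⟩, ⟨1, 2⟩, ⟨2, 3⟩, ⟨0, 3⟩, ⟨0, 2⟩, ⟨0, 3⟩, ⟨1, 4⟩, ⟨3, 4⟩, ⟨0, 2⟩, ⟨1, 2⟩, ⟨1, 3⟩, ⟨0, 2⟩, ⟨1, 3⟩, ⟨0, 2⟩, ⟨3, 3⟩, ⟨4, 2⟩, ⟨3, 4⟩, ⟨0, 4⟩, ⟨2, 2⟩, ⟨1, 2⟩, ⟨0, 4⟩, ⟨3, 0⟩, ⟨2, 0⟩, ⟨2, 0⟩, ⟨1, 0⟩, ⟨1, 2⟩, ⟨4, 3⟩, ⟨2, 3⟩, ⟨2, 4⟩, ⟨3, 0⟩, ⟨1, 4⟩, ⟨1, 3⟩, ⟨2, 0⟩],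
  [⟨0, 3⟩, ⟨1, 2⟩, ⟨0, 2⟩, ⟨2, 3⟩, ⟨0, 2⟩, ⟨0, 1⟩, ⟨2, 3⟩, ⟨1, 3⟩, ⟨0, 3⟩, ⟨0, 2⟩, ⟨2, 0⟩, ⟨3, 3⟩, ⟨1, 2⟩, ⟨2, 2⟩, ⟨0, 2⟩, ⟨0, 1⟩, ⟨3, 2⟩, ⟨1, 4⟩, ⟨3, 3⟩, ⟨1, 4⟩, ⟨2, 1⟩, ⟨3, 4⟩, ⟨3, 0⟩, ⟨1, 1⟩, ⟨2, 3⟩, ⟨3, 4⟩, ⟨1, 3⟩, ⟨2, 4⟩, ⟨3, 4⟩, ⟨1, 1⟩, ⟨2, 3⟩, ⟨3, 3⟩, ⟨2, 2⟩, ⟨3, 4⟩, ⟨2, 4⟩, ⟨3, 3⟩],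
  [⟨0, 3⟩, ⟨1, 2⟩, ⟨0, 2⟩, ⟨2, 3⟩, ⟨1, 4⟩, ⟨1, 3⟩, ⟨3, 0⟩, ⟨2, 0⟩, ⟨1, 3⟩, ⟨1, 2⟩, ⟨3, 4⟩, ⟨4, 2⟩, ⟨2, 0⟩, ⟨3, 0⟩, ⟨2, 4⟩, ⟨2, 3⟩, ⟨0, 2⟩, ⟨3, 4⟩, ⟨0, 2⟩, ⟨3, 3⟩, ⟨0, 4⟩, ⟨1, 2⟩, ⟨1, 2⟩, ⟨4, 3⟩, ⟨0, 3⟩, ⟨1, 4⟩, ⟨0, 2⟩, ⟨1, 3⟩, ⟨2, 2⟩, ⟨0, 4⟩, ⟨1, 0⟩, ⟨2, 0⟩, ⟨1, 3⟩, ⟨2, 0⟩, ⟨1, 0⟩, ⟨2, 4⟩],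
  [⟨4, 0⟩, ⟨4, 0⟩, ⟨4, 0⟩, ⟨4, 0⟩, ⟨4, 0⟩, ⟨4, 0⟩, ⟨4, 0⟩, ⟨4, 0⟩, ⟨4, 0⟩, ⟨4, 0⟩, ⟨4, 0⟩, ⟨4, 0⟩, ⟨4, 0⟩, ⟨4, 0⟩, ⟨4, 0⟩, ⟨4, 0⟩, ⟨4, 0⟩, ⟨4, 0⟩, ⟨4, 0⟩, ⟨4, 0⟩, ⟨4, 0⟩, ⟨4, 0⟩, ⟨4, 0⟩, ⟨4, 0⟩, ⟨4, 0⟩, ⟨4, 0⟩, ⟨4, 0⟩, ⟨4, 0⟩, ⟨4, 0⟩, ⟨4, 0⟩, ⟨4, 0⟩, ⟨4, 0⟩, ⟨4, 0⟩, ⟨4, 0⟩, ⟨4, 0⟩, ⟨4, 0⟩],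
  [⟨4, 0⟩, ⟨4, 0⟩, ⟨4, 0⟩, ⟨4, 0⟩, ⟨0, 4⟩, ⟨0, 4⟩, ⟨0, 4⟩, ⟨0, 4⟩, ⟨3, 4⟩, ⟨3, 4⟩, ⟨2, 4⟩, ⟨2, 4⟩, ⟨1, 4⟩, ⟨1, 4⟩, ⟨4, 3⟩, ⟨4, 3⟩, ⟨2, 3⟩, ⟨2, 3⟩, ⟨1, 3⟩, ⟨1, 3⟩, ⟨4, 2⟩, ⟨4, 2⟩, ⟨3, 2⟩, ⟨3, 2⟩, ⟨1, 2⟩, ⟨1, 2⟩, ⟨4, 1⟩, ⟨4, 1⟩, ⟨3, 1⟩, ⟨3, 1⟩, ⟨2, 1⟩, ⟨2, 1⟩, ⟨1, 1⟩, ⟨1, 1⟩, ⟨1, 1⟩, ⟨1, 1⟩],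
  [⟨3, 4⟩, ⟨1, 4⟩, ⟨4, 3⟩, ⟨2, 1⟩, ⟨3, 4⟩, ⟨4, 3⟩, ⟨1, 2⟩, ⟨4, 1⟩, ⟨4, 0⟩, ⟨0, 4⟩, ⟨2, 4⟩, ⟨1, 3⟩, ⟨4, 0⟩, ⟨1, 1⟩, ⟨4, 0⟩, ⟨0, 4⟩, ⟨2, 3⟩, ⟨1, 3⟩, ⟨2, 4⟩, ⟨2, 3⟩, ⟨4, 2⟩, ⟨3, 1⟩, ⟨3, 2⟩, ⟨3, 1⟩, ⟨0, 4⟩, ⟨1, 1⟩, ⟨0, 4⟩, ⟨1, 1⟩, ⟨4, 2⟩, ⟨3, 2⟩, ⟨4, 0⟩, ⟨1, 1⟩, ⟨1, 4⟩, ⟨1, 2⟩, ⟨4, 1⟩, ⟨2, 1⟩],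
  [⟨2, 0⟩, ⟨4, 1⟩, ⟨3, 0⟩, ⟨4, 2⟩, ⟨2, 1⟩, ⟨3, 1⟩, ⟨3, 3⟩, ⟨2, 2⟩, ⟨3, 1⟩, ⟨4, 1⟩, ⟨4, 3⟩, ⟨2, 4⟩, ⟨2, 2⟩, ⟨3, 3⟩, ⟨3, 2⟩, ⟨4, 2⟩, ⟨3, 0⟩, ⟨4, 3⟩, ⟨3, 0⟩, ⟨0, 3⟩, ⟨1, 0⟩, ⟨4, 1⟩, ⟨4, 1⟩, ⟨1, 4⟩, ⟨2, 0⟩, ⟨2, 1⟩, ⟨3, 0⟩, ⟨3, 1⟩, ⟨0, 2⟩, ⟨1, 0⟩, ⟨1, 1⟩, ⟨2, 2⟩, ⟨3, 1⟩, ⟨2, 2⟩, ⟨1, 1⟩, ⟨3, 2⟩],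
  [⟨3, 1⟩, ⟨2, 2⟩, ⟨3, 2⟩, ⟨1, 1⟩, ⟨4, 1⟩, ⟨4, 2⟩, ⟨2, 0⟩, ⟨3, 0⟩, ⟨2, 0⟩, ⟨2, 1⟩, ⟨4, 3⟩, ⟨3, 0⟩, ⟨4, 1⟩, ⟨3, 1⟩, ⟨3, 0⟩, ⟨3, 1⟩, ⟨3, 0⟩, ⟨0, 3⟩, ⟨2, 4⟩, ⟨4, 3⟩, ⟨1, 0⟩, ⟨0, 2⟩, ⟨4, 1⟩, ⟨1, 0⟩, ⟨3, 3⟩, ⟨2, 2⟩, ⟨2, 2⟩, ⟨1, 1⟩, ⟨4, 1⟩, ⟨1, 4⟩, ⟨4, 2⟩, ⟨3, 2⟩, ⟨3, 3⟩, ⟨2, 1⟩, ⟨3, 1⟩, ⟨2, 2⟩],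
  [⟨3, 1⟩, ⟨2, 2⟩, ⟨3, 2⟩, ⟨1, 1⟩, ⟨4, 1⟩, ⟨4, 2⟩, ⟨2, 0⟩, ⟨3, 0⟩, ⟨2, 0⟩, ⟨2, 1⟩, ⟨4, 3⟩, ⟨3, 0⟩, ⟨4, 1⟩, ⟨3, 1⟩, ⟨3, 0⟩, ⟨3, 1⟩, ⟨3, 0⟩, ⟨0, 3⟩, ⟨2, 4⟩, ⟨4, 3⟩, ⟨1, 0⟩, ⟨0, 2⟩, ⟨4, 1⟩, ⟨1, 0⟩, ⟨3, 3⟩, ⟨2, 2⟩, ⟨2, 2⟩, ⟨1, 1⟩, ⟨4, 1⟩, ⟨1, 4⟩, ⟨4, 2⟩, ⟨3, 2⟩, ⟨3, 3⟩, ⟨2, 1⟩, ⟨3, 1⟩, ⟨2, 2⟩],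
  [⟨0, 2⟩, ⟨1, 1⟩, ⟨0, 1⟩, ⟨2, 2⟩, ⟨1, 3⟩, ⟨1, 2⟩, ⟨3, 4⟩, ⟨2, 4⟩, ⟨1, 2⟩, ⟨1, 1⟩, ⟨3, 3⟩, ⟨4, 1⟩, ⟨2, 4⟩, ⟨3, 4⟩, ⟨2, 3⟩, ⟨2, 2⟩, ⟨0, 1⟩, ⟨3, 3⟩, ⟨0, 1⟩, ⟨3, 2⟩, ⟨0, 3⟩, ⟨1, 1⟩, ⟨1, 1⟩, ⟨4, 2⟩, ⟨0, 2⟩, ⟨1, 3⟩, ⟨0, 1⟩, ⟨1, 2⟩, ⟨2, 1⟩, ⟨0, 3⟩, ⟨1, 4⟩, ⟨2, 4⟩, ⟨1, 2⟩, ⟨2, 4⟩, ⟨1, 4⟩, ⟨2, 3⟩],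
  [⟨3, 4⟩, ⟨1, 3⟩, ⟨2, 4⟩, ⟨1, 2⟩, ⟨4, 0⟩, ⟨3, 0⟩, ⟨3, 3⟩, ⟨4, 4⟩, ⟨3, 3⟩, ⟨2, 3⟩, ⟨2, 0⟩, ⟨4, 4⟩, ⟨4, 0⟩, ⟨3, 4⟩, ⟨4, 4⟩, ⟨3, 4⟩, ⟨4, 4⟩, ⟨3, 1⟩, ⟨4, 3⟩, ⟨2, 0⟩, ⟨2, 2⟩, ⟨4, 1⟩, ⟨4, 0⟩, ⟨2, 2⟩, ⟨1, 4⟩, ⟨1, 3⟩, ⟨1, 3⟩, ⟨1, 2⟩, ⟨4, 0⟩, ⟨3, 2⟩, ⟨3, 0⟩, ⟨2, 4⟩, ⟨1, 4⟩, ⟨2, 3⟩, ⟨3, 4⟩, ⟨1, 3⟩],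
  [⟨1, 2⟩, ⟨2, 4⟩, ⟨2, 3⟩, ⟨1, 4⟩, ⟨1, 1⟩, ⟨2, 2⟩, ⟨0, 2⟩, ⟨0, 1⟩, ⟨0, 2⟩, ⟨1, 3⟩, ⟨3, 3⟩, ⟨0, 1⟩, ⟨1, 1⟩, ⟨1, 2⟩, ⟨0, 1⟩, ⟨1, 2⟩, ⟨0, 1⟩, ⟨3, 2⟩, ⟨4, 1⟩, ⟨3, 3⟩, ⟨0, 3⟩, ⟨2, 1⟩, ⟨1, 1⟩, ⟨0, 3⟩, ⟨3, 4⟩, ⟨2, 4⟩, ⟨2, 4⟩, ⟨1, 4⟩, ⟨1, 1⟩, ⟨4, 2⟩, ⟨2, 2⟩, ⟨2, 3⟩, ⟨3, 4⟩, ⟨1, 3⟩, ⟨1, 2⟩, ⟨2, 4⟩]]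
def dv : Fin 3 → K25 := ![⟨1, 0⟩, ⟨0, 1⟩, ⟨4, 4⟩]
def cenL : List K25 := [⟨1, 0⟩, ⟨0, 1⟩, ⟨4, 4⟩]

theorem p_inv : ∀ r < 27, pmi r * pm r = 1 := by decide +kernel
theorem p_unitary : ∀ r < 27, (pm r).transpose * (pm r).map (fun x => x ^ 5) = 1 := by decide +kernel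
theorem p_det : ∀ r < 27, (pm r).det = 1 := by decide +kernel
theorem p_pow : ∀ r < 27, pm r ^ 3 = 1 := by decide +kernel
theorem p_inj : ∀ i < 27, ∀ j < 27, pm i = pm j → i = j := by decide +kernel
theorem p_mul : ∀ i < 27, ∀ j < 27, mulT.getD (27 * i + j) 0 < 27 ∧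
    pm i * pm j = pm (mulT.getD (27 * i + j) 0) := by decide +kernel
theorem p_cen : ∀ r < 3, pm r = (cenL.getD r 0) • (1 : Matrix (Fin 3) (Fin 3) K25) := by decide +kernel
theorem p_sig : ∀ r < 27, ∀ i < 36, (ppL.getD r []).getD i 0 < 36 ∧ (pcL.getD r []).getD i 0 ≠ 0 ∧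
    Matrix.mulVec (pm r) (D25M.sig i) = (pcL.getD r []).getD i 0 • D25M.sig ((ppL.getD r []).getD i 0) := by
  decide +kernel
theorem g_inv : ∀ n < 27, gmi n * gm n = 1 := by decide +kernel
theorem g_inv' : ∀ n < 27, gm n * gmi n = 1 := by decide +kernel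
theorem gi_unitary : ∀ n < 27, (gmi n).transpose * (gmi n).map (fun x => x ^ 5) = 1 := by decide +kernel
theorem gi_det : ∀ n < 27, (gmi n).det = 1 := by decide +kernel
theorem g_pow : ∀ n < 27, gm n ^ 12 = 1 := by decide +kernel
theorem g_conj : ∀ n < 27, 3 ≤ n → gm n * D25M.hd = pm n * gm n := by decide +kernel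
theorem g_norm : ∀ n < 27, ∀ m < 27, conjT.getD (27 * n + m) 0 < 27 ∧
    gmi n * pm m * gm n = pm (conjT.getD (27 * n + m) 0) := by decide +kernel
theorem g_sig : ∀ n < 27, ∀ i < 36, (gpL.getD n []).getD i 0 < 36 ∧ (gcL.getD n []).getD i 0 ≠ 0 ∧
    Matrix.mulVec (gm n) (D25M.sig i) = (gcL.getD n []).getD i 0 • D25M.sig ((gpL.getD n []).getD i 0) := by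
  decide +kernel
theorem hd_diag : D25M.hd = Matrix.diagonal dv := by decide +kernel
theorem dv_sep : ∀ x : K25, ∀ i j : Fin 3, i ≠ j → x * dv j = dv i * x → x = 0 := by decide +kernel
theorem hd_idx : D25M.hd = pm 9 := by decide +kernel
theorem hs_idx : D25M.hs = pm 3 := by decide +kernel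
theorem hd_ne_cen : ∀ r < 3, D25M.hd ≠ pm r := by decide +kernel
theorem z_not : ∀ r < 27, D25M.z * D25M.hd ≠ pm r * D25M.z := by decide +kernel
theorem frob_add : ∀ a b : K25, (a + b) ^ 5 = a ^ 5 + b ^ 5 := by decide +kernel
theorem diag_core : ∀ x : K25, x * x ^ 5 = 1 → ∀ y : K25, y * y ^ 5 = 1 → ∀ z : K25, z * z ^ 5 = 1 →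
    x * y * z = 1 → ∀ m < 27, Matrix.diagonal ![x, y, z] * D25M.hs = pm m * Matrix.diagonal ![x, y, z] →
    ∃ r < 27, Matrix.diagonal ![x, y, z] = pm r := by decide +kernel

end Cfsg.Agent.Helper10.E6
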