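-- helper10: piece E6 of helper64's CALL for S5778.  In SU_3(5) the normaliser of a subgroup of
-- order 27 (a Sylow 3-subgroup, extraspecial 3^(1+2)) is not maximal: it lies in a 3.M_10, the
-- stabiliser of the 36 points of `D25M.sig`.
import Cfsg.Agent.Helper10.SU3E6Data
import Cfsg.Agent.Helper64.SU3Base
import Cfsg.Agent.Helper5.UnitSU

set_option autoImplicit false
open Cfsg Cfsg.Geo Matrix

namespace Cfsg.Agent.Helper10.E6

open Cfsg.Agent.Helper97 Cfsg.Agent.Helper64.SU3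

open scoped Pointwise

/-! ### Matrices over `K25` -/

/-- The Frobenius `x ↦ x ^ 5` of `K25` as a ring homomorphism. -/
def frob5 : K25 →+* K25 where
  toFun x := x ^ 5
  map_one' := one_pow 5
  map_mul' a b := mul_pow a b 5
  map_zero' := zero_pow (by norm_num)
  map_add' := frob_add

theorem map_frob5 (A : Matrix (Fin 3) (Fin 3) K25) : A.map (fun x => x ^ 5) = A.map frob5 := rfl

/-- A product of unitary matrices is unitary. -/
theorem uni_mul (A B : Matrix (Fin 3) (Fin 3) K25)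
    (hA : A.transpose * A.map (fun x => x ^ 5) = 1)
    (hB : B.transpose * B.map (fun x => x ^ 5) = 1) :
    (A * B).transpose * (A * B).map (fun x => x ^ 5) = 1 := by
  rw [map_frob5] at hA hB ⊢
  rw [Matrix.map_mul, Matrix.transpose_mul, Matrix.mul_assoc, ← Matrix.mul_assoc Aᵀ, hA,
    Matrix.one_mul, hB]

theorem p_one : pm 0 = 1 := by decide +kernel

/-- The matrix form of the normaliser computation: a unitary matrix of determinant 1 conjugating
`hd` and `hs` into `P0` is a product of a tabulated conjugator and an element of `P0`. -/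
theorem core_K (M Mi : Matrix (Fin 3) (Fin 3) K25) (hinv : Mi * M = 1)
    (hu : M.transpose * M.map (fun x => x ^ 5) = 1) (hdet : M.det = 1)
    (n : ℕ) (hn : n < 27) (hMd : M * D25M.hd = pm n * M)
    (m : ℕ) (hm : m < 27) (hMs : M * D25M.hs = pm m * M) :
    ∃ r < 27, M = gm n * pm r := by
  have hn3 : 3 ≤ n := by
    by_contra hlt
    push Not at hlt
    have hc := p_cen n hlt
    have h1 : M * D25M.hd = M * pm n := by
      rw [hMd, hc, Matrix.smul_mul, Matrix.one_mul, Matrix.mul_smul, Matrix.mul_one]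
    have h2 : D25M.hd = pm n := by
      have h3 := congrArg (fun X => Mi * X) h1
      simp only [← Matrix.mul_assoc, hinv, Matrix.one_mul] at h3
      exact h3
    exact hd_ne_cen n hlt h2
  have hgc := g_conj n hn hn3
  have hgi := g_inv n hn
  have hgi' := g_inv' n hn
  have hgc' : gmi n * pm n = D25M.hd * gmi n := by
    calc gmi n * pm n = gmi n * pm n * (gm n * gmi n) := by rw [hgi', Matrix.mul_one]
      _ = gmi n * (pm n * gm n) * gmi n := by simp only [Matrix.mul_assoc]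
      _ = gmi n * (gm n * D25M.hd) * gmi n := by rw [hgc]
      _ = (gmi n * gm n) * D25M.hd * gmi n := by simp only [Matrix.mul_assoc]
      _ = D25M.hd * gmi n := by rw [hgi, Matrix.one_mul]
  have hM1d : (gmi n * M) * D25M.hd = D25M.hd * (gmi n * M) := by
    rw [Matrix.mul_assoc, hMd, ← Matrix.mul_assoc, hgc', Matrix.mul_assoc]
  have hoff : ∀ i j : Fin 3, i ≠ j → (gmi n * M) i j = 0 := by
    intro i j hij
    have h1 := congrFun (congrFun hM1d i) j
    rw [hd_diag, Matrix.mul_diagonal, Matrix.diagonal_mul] at h1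
    exact dv_sep _ i j hij h1
  obtain ⟨x, y, z, hxyz⟩ : ∃ x y z : K25, gmi n * M = Matrix.diagonal ![x, y, z] := by
    refine ⟨(gmi n * M) 0 0, (gmi n * M) 1 1, (gmi n * M) 2 2, ?_⟩
    apply Matrix.ext
    intro i j
    by_cases hij : i = j
    · subst hij
      rw [Matrix.diagonal_apply_eq]
      fin_cases i <;> rfl
    · rw [Matrix.diagonal_apply_ne _ hij]
      exact hoff i j hij
  have hu1 := uni_mul (gmi n) M (gi_unitary n hn) hu
  have hdet1 : (gmi n * M).det = 1 := by rw [Matrix.det_mul, gi_det n hn, hdet, one_mul]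
  obtain ⟨hc1, hc2⟩ := g_norm n hn m hm
  have hM1s : (gmi n * M) * D25M.hs = pm (conjT.getD (27 * n + m) 0) * (gmi n * M) := by
    rw [← hc2]
    calc gmi n * M * D25M.hs = gmi n * (M * D25M.hs) := by rw [Matrix.mul_assoc]
      _ = gmi n * (pm m * M) := by rw [hMs]
      _ = gmi n * pm m * ((gm n * gmi n) * M) := by rw [hgi', Matrix.one_mul, Matrix.mul_assoc]
      _ = gmi n * pm m * gm n * (gmi n * M) := by simp only [Matrix.mul_assoc]
  rw [hxyz] at hu1 hdet1 hM1s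
  have hu2 : Matrix.diagonal (fun i => ![x, y, z] i * (![x, y, z] i) ^ 5) =
      (1 : Matrix (Fin 3) (Fin 3) K25) := by
    rw [← hu1, Matrix.diagonal_transpose,
      Matrix.diagonal_map (f := fun x : K25 => x ^ 5) (zero_pow (by norm_num)),
      Matrix.diagonal_mul_diagonal]
  have hx : x * x ^ 5 = 1 := by
    have h := congrFun (congrFun hu2 0) 0
    rw [Matrix.diagonal_apply_eq, Matrix.one_apply_eq] at h
    exact h
  have hy : y * y ^ 5 = 1 := by
    have h := congrFun (congrFun hu2 1) 1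
    rw [Matrix.diagonal_apply_eq, Matrix.one_apply_eq] at h
    exact h
  have hz : z * z ^ 5 = 1 := by
    have h := congrFun (congrFun hu2 2) 2
    rw [Matrix.diagonal_apply_eq, Matrix.one_apply_eq] at h
    exact h
  have hprod : x * y * z = 1 := by
    rw [Matrix.det_diagonal, Fin.prod_univ_three] at hdet1
    exact hdet1
  obtain ⟨r, hr, hr2⟩ := diag_core x hx y hy z hz hprod _ hc1 hM1s
  refine ⟨r, hr, ?_⟩
  rw [← hr2, ← hxyz, ← Matrix.mul_assoc, hgi', Matrix.one_mul]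

/-! ### Transfer to a field `F` with 25 elements -/

section transfer

variable {F : Type*} [Field F] (ψe : K25 ≃+* F)

/-- Pull a matrix over `F` back to `K25`. -/
def pb (y : GL (Fin 3) F) : Matrix (Fin 3) (Fin 3) K25 :=
  (y : Matrix (Fin 3) (Fin 3) F).map ψe.symm.toRingHom

theorem pb_map (y : GL (Fin 3) F) :
    (pb ψe y).map ψe.toRingHom = (y : Matrix (Fin 3) (Fin 3) F) := by
  ext i j
  simp [pb]

theorem pb_mul (a b : GL (Fin 3) F) : pb ψe (a * b) = pb ψe a * pb ψe b := by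
  unfold pb
  rw [Units.val_mul, Matrix.map_mul]

theorem pb_one : pb ψe (1 : GL (Fin 3) F) = 1 := by
  unfold pb
  rw [Units.val_one]
  exact Matrix.map_one _ (map_zero _) (map_one _)

theorem pb_inv_mul (y : GL (Fin 3) F) : pb ψe y⁻¹ * pb ψe y = 1 := by
  rw [← pb_mul, inv_mul_cancel, pb_one]

theorem pb_unitary [Fintype F] (hF : Fintype.card F = 5 ^ 2) (y : GL (Fin 3) F)
    (hy : y ∈ GU 3 F 5) :
    (pb ψe y).transpose * (pb ψe y).map (fun x => x ^ 5) = 1 := by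
  have h1 := Cfsg.Agent.Helper5.transpose_mul_map_of_mem_GU hF y hy
  apply su3_map_inj ψe.toRingHom
  rw [su3_map_mul, su3_map_one, Matrix.transpose_map, pb_map]
  have h2 : ((pb ψe y).map (fun x => x ^ 5)).map ψe.toRingHom =
      (y : Matrix (Fin 3) (Fin 3) F).map (Cfsg.Agent.Helper5.frobQ hF) := by
    ext i j
    have h3 := congrFun (congrFun (pb_map ψe y) i) j
    simp only [Matrix.map_apply] at h3
    simp only [Matrix.map_apply, Cfsg.Agent.Helper5.frobQ_apply, map_pow, h3]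
  rw [h2]
  exact h1

theorem pb_det (y : GL (Fin 3) F) (hy : y ∈ specialLinear (Fin 3) F) : (pb ψe y).det = 1 := by
  rw [specialLinear, MonoidHom.mem_ker] at hy
  have h1 : (y : Matrix (Fin 3) (Fin 3) F).det = 1 := by
    have h := congrArg Units.val hy
    rwa [Matrix.GeneralLinearGroup.val_det_apply, Units.val_one] at h
  have h2 := RingHom.map_det ψe.symm.toRingHom (y : Matrix (Fin 3) (Fin 3) F)
  rw [h1, map_one] at h2
  exact h2.symm

end transfer

/-! ### The Heisenberg group `P0` over `F` -/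

section heis

variable {F : Type*} [Field F] (ψ : K25 →+* F)

/-- The group of order 27 generated by the images of `hd` and `hs`. -/
def P0 : Subgroup (GL (Fin 3) F) where
  carrier := {g | ∃ r, r < 27 ∧ (g : Matrix (Fin 3) (Fin 3) F) = (pm r).map ψ}
  mul_mem' := by
    rintro a b ⟨i, hi, ha⟩ ⟨j, hj, hb⟩
    obtain ⟨h1, h2⟩ := p_mul i hi j hj
    exact ⟨_, h1, by rw [Units.val_mul, ha, hb, ← su3_map_mul, h2]⟩
  one_mem' := ⟨0, by norm_num, by rw [Units.val_one, p_one, su3_map_one]⟩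
  inv_mem' := by
    rintro a ⟨i, hi, ha⟩
    have h3 : a * (a * a) = 1 := by
      apply Units.ext
      rw [Units.val_mul, Units.val_mul, ha, ← su3_map_mul, ← su3_map_mul, Units.val_one,
        ← su3_map_one ψ]
      congr 1
      have h := p_pow i hi
      rw [pow_succ, pow_two] at h
      rw [← h, Matrix.mul_assoc]
    have hinv : a⁻¹ = a * a := inv_eq_of_mul_eq_one_right h3
    obtain ⟨h1, h2⟩ := p_mul i hi i hi
    exact ⟨_, h1, by rw [hinv, Units.val_mul, ha, ← su3_map_mul, h2]⟩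

theorem mem_P0 (g : GL (Fin 3) F) :
    g ∈ P0 ψ ↔ ∃ r, r < 27 ∧ (g : Matrix (Fin 3) (Fin 3) F) = (pm r).map ψ := Iff.rfl

theorem P0_eq (g : GL (Fin 3) F) (r : ℕ) (hr : r < 27)
    (hg : (g : Matrix (Fin 3) (Fin 3) F) = (pm r).map ψ) :
    g = su3GL ψ (pm r) (pmi r) (p_inv r hr) := Units.ext hg

theorem P0_le_SU {σ : F ≃+* F} (hσ : IsSigma 5 σ) :
    P0 ψ ≤ GU 3 F 5 ⊓ specialLinear (Fin 3) F := by
  rintro g ⟨r, hr, hg⟩
  rw [P0_eq ψ g r hr hg]
  exact ⟨su3GL_mem_GU ψ hσ _ _ _ (p_unitary r hr), su3GL_mem_SL ψ _ _ _ (p_det r hr)⟩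

theorem P0_le_stab : P0 ψ ≤ su3Stab (su3Pts ψ D25M.sig 36) := by
  rintro g ⟨r, hr, hg⟩
  rw [P0_eq ψ g r hr hg]
  exact su3GL_mem_stab ψ _ _ _ D25M.sig 36 (ppL.getD r []) (pcL.getD r []) (p_sig r hr) 3
    (by norm_num) (p_pow r hr)

theorem card_P0 : Nat.card (P0 ψ) = 27 := by
  let f : Fin 27 → P0 ψ := fun r =>
    ⟨su3GL ψ (pm r) (pmi r) (p_inv r r.2), ⟨r, r.2, rfl⟩⟩
  have hf : Function.Bijective f := by
    constructor
    · intro a b hab
      have h1 : (pm a).map ψ = (pm b).map ψ := congrArg (fun t : P0 ψ =>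
        ((t : GL (Fin 3) F) : Matrix (Fin 3) (Fin 3) F)) hab
      exact Fin.ext (p_inj a a.2 b b.2 (su3_map_inj ψ h1))
    · rintro ⟨g, r, hr, hg⟩
      exact ⟨⟨r, hr⟩, Subtype.ext (P0_eq ψ g r hr hg).symm⟩
  rw [← Nat.card_eq_of_bijective f hf, Nat.card_fin]

theorem hd_mem_P0 : su3GL ψ D25M.hd D25M.hd_i D25M.hd_inv ∈ P0 ψ :=
  ⟨9, by norm_num, by rw [su3GL_val, hd_idx]⟩

theorem hs_mem_P0 : su3GL ψ D25M.hs D25M.hs_i D25M.hs_inv ∈ P0 ψ :=
  ⟨3, by norm_num, by rw [su3GL_val, hs_idx]⟩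

end heis

/-! ### The normaliser of `P0` in `SU_3(5)` stabilises the 36 points -/

theorem core_F {F : Type*} [Field F] [Fintype F] (ψe : K25 ≃+* F) (hF : Fintype.card F = 5 ^ 2)
    (y : GL (Fin 3) F) (hyU : y ∈ GU 3 F 5) (hyS : y ∈ specialLinear (Fin 3) F)
    (hyd : y * su3GL ψe.toRingHom D25M.hd D25M.hd_i D25M.hd_inv * y⁻¹ ∈ P0 ψe.toRingHom)
    (hys : y * su3GL ψe.toRingHom D25M.hs D25M.hs_i D25M.hs_inv * y⁻¹ ∈ P0 ψe.toRingHom) :
    y ∈ su3Stab (su3Pts ψe.toRingHom D25M.sig 36) := by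
  obtain ⟨n, hn, hnd⟩ := hyd
  obtain ⟨m, hm, hms⟩ := hys
  have key : ∀ (A B : Matrix (Fin 3) (Fin 3) K25) (h : B * A = 1) (k : ℕ),
      ((y * su3GL ψe.toRingHom A B h * y⁻¹ : GL (Fin 3) F) : Matrix (Fin 3) (Fin 3) F) =
        (pm k).map ψe.toRingHom → pb ψe y * A = pm k * pb ψe y := by
    intro A B h k hk
    apply su3_map_inj ψe.toRingHom
    rw [su3_map_mul, su3_map_mul, pb_map, ← hk, ← su3GL_val ψe.toRingHom A B h, ← Units.val_mul,
      ← Units.val_mul]
    congr 1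
    group
  have hMd := key _ _ _ n hnd
  have hMs := key _ _ _ m hms
  obtain ⟨r, hr, hM⟩ := core_K (pb ψe y) (pb ψe y⁻¹) (pb_inv_mul ψe y) (pb_unitary ψe hF y hyU)
    (pb_det ψe y hyS) n hn hMd m hm hMs
  have hy : y = su3GL ψe.toRingHom (gm n) (gmi n) (g_inv n hn) *
      su3GL ψe.toRingHom (pm r) (pmi r) (p_inv r hr) := by
    apply Units.ext
    rw [Units.val_mul, su3GL_val, su3GL_val, ← su3_map_mul, ← hM, pb_map]
  rw [hy]
  exact Subgroup.mul_mem _
    (su3GL_mem_stab ψe.toRingHom _ _ _ D25M.sig 36 (gpL.getD n []) (gcL.getD n []) (g_sig n hn) 12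
      (by norm_num) (g_pow n hn))
    (su3GL_mem_stab ψe.toRingHom _ _ _ D25M.sig 36 (ppL.getD r []) (pcL.getD r []) (p_sig r hr) 3
      (by norm_num) (p_pow r hr))

/-! ### Sylow conjugacy inside a subgroup -/

theorem sylow_conj_of_card {Γ : Type*} [Group Γ] [Finite Γ] (G A B : Subgroup Γ) (p k : ℕ)
    [Fact p.Prime] (hA : A ≤ G) (hB : B ≤ G) (hcA : Nat.card A = p ^ k)
    (hcB : Nat.card B = p ^ k) (hnd : ¬ p ^ (k + 1) ∣ Nat.card G) :
    ∃ g ∈ G, (∀ x ∈ A, g * x * g⁻¹ ∈ B) ∧ ∀ x ∈ B, g⁻¹ * x * g ∈ A := by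
  classical
  have hp : p.Prime := Fact.out
  have hne : Nat.card G ≠ 0 := Nat.card_pos.ne'
  have hpk : p ^ k ∣ Nat.card G := by
    rw [← hcA]
    exact Subgroup.card_dvd_of_le hA
  have hfac : (Nat.card G).factorization p = k := by
    have h1 : k ≤ (Nat.card G).factorization p := (hp.pow_dvd_iff_le_factorization hne).mp hpk
    have h2 : ¬ k + 1 ≤ (Nat.card G).factorization p := fun h =>
      hnd ((hp.pow_dvd_iff_le_factorization hne).mpr h)
    omega
  have hcA' : Nat.card (A.subgroupOf G) = p ^ (Nat.card G).factorization p := by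
    rw [hfac, ← hcA]
    exact Nat.card_congr (Subgroup.subgroupOfEquivOfLe hA).toEquiv
  have hcB' : Nat.card (B.subgroupOf G) = p ^ (Nat.card G).factorization p := by
    rw [hfac, ← hcB]
    exact Nat.card_congr (Subgroup.subgroupOfEquivOfLe hB).toEquiv
  let PA : Sylow p G := Sylow.ofCard (A.subgroupOf G) hcA'
  let PB : Sylow p G := Sylow.ofCard (B.subgroupOf G) hcB'
  obtain ⟨g, hg⟩ := MulAction.exists_smul_eq G PA PB
  have h3 : ((g • PA : Sylow p G) : Subgroup G) = MulAut.conj g • (PA : Subgroup G) :=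
    Sylow.coe_subgroup_smul
  rw [hg] at h3
  refine ⟨g, g.2, ?_, ?_⟩
  · intro x hx
    have h1 : (⟨x, hA hx⟩ : G) ∈ (PA : Subgroup G) := hx
    have h2 : MulAut.conj g • (⟨x, hA hx⟩ : G) ∈ MulAut.conj g • (PA : Subgroup G) :=
      Subgroup.smul_mem_pointwise_smul _ _ _ h1
    rw [← h3] at h2
    exact h2
  · intro x hx
    have h1 : (⟨x, hB hx⟩ : G) ∈ (PB : Subgroup G) := hx
    rw [h3, Subgroup.mem_pointwise_smul_iff_inv_smul_mem] at h1
    have h2 : ((MulAut.conj g)⁻¹ • (⟨x, hB hx⟩ : G) : G) ∈ A.subgroupOf G := h1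
    have h4 : (((MulAut.conj g)⁻¹ • (⟨x, hB hx⟩ : G) : G) : Γ) = (g : Γ)⁻¹ * x * g := by
      simp [MulAut.smul_def]
    rw [← h4]
    exact h2

/-! ### The order of `SU_3(5)` -/

theorem card_SU3_five {F : Type*} [Field F] [Fintype F] (hF : Fintype.card F = 5 ^ 2) :
    Nat.card ↥(GU 3 F 5 ⊓ specialLinear (Fin 3) F) = 378000 := by
  have h1 := Subgroup.card_mul_index (Cfsg.Agent.Helper5.detGU F 5 3).ker
  rw [Subgroup.index_ker, Cfsg.Agent.Helper5.range_detGU hF (by norm_num),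
    Cfsg.Agent.Helper5.card_norm_one hF, su3_card_GU_five hF] at h1
  have h2 : Nat.card ↥(GU 3 F 5 ⊓ specialLinear (Fin 3) F) =
      Nat.card (Cfsg.Agent.Helper5.detGU F 5 3).ker := by
    refine Nat.card_congr ⟨fun x => ⟨⟨x.1, x.2.1⟩, ?_⟩, fun y => ⟨y.1.1, ⟨y.1.2, ?_⟩⟩, ?_, ?_⟩
    · have h3 : x.1 ∈ specialLinear (Fin 3) F := x.2.2
      exact h3
    · have h3 := y.2
      exact h3
    · intro x
      rfl
    · intro y
      rfl
  omega

/-! ### The theorem -/

/-- **E6**: in `SU_3(5)` the normaliser of a subgroup of order 27 is not maximal. -/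
theorem su3_five_extra_false {F : Type*} [Field F] [Fintype F] (hF : Fintype.card F = 5 ^ 2)
    (H : Subgroup (GL (Fin 3) F))
    (hH : IsMaximalIn (GU 3 F 5 ⊓ specialLinear (Fin 3) F) H)
    (N : Subgroup (GL (Fin 3) F)) (hNGU : N ≤ GU 3 F 5) (hNSL : N ≤ specialLinear (Fin 3) F)
    (hcard : Nat.card N = 27)
    (hHeq : H = subgroupNormalizer N ⊓ (GU 3 F 5 ⊓ specialLinear (Fin 3) F)) : False := by
  classical
  obtain ⟨σ, hσ⟩ := exists_sigma hF
  have hc : Fintype.card K25 = Fintype.card F := by rw [hF]; exact su3_card_K25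
  let ψe : K25 ≃+* F := FiniteField.ringEquivOfCardEq hc
  have hψ : Function.Surjective ψe.toRingHom := ψe.surjective
  have hNG : N ≤ GU 3 F 5 ⊓ specialLinear (Fin 3) F := le_inf hNGU hNSL
  have hP0G : P0 ψe.toRingHom ≤ GU 3 F 5 ⊓ specialLinear (Fin 3) F := P0_le_SU ψe.toRingHom hσ
  have : Fact (Nat.Prime 3) := ⟨by norm_num⟩
  obtain ⟨g, hgG, hg1, hg2⟩ := sylow_conj_of_card (GU 3 F 5 ⊓ specialLinear (Fin 3) F) N
    (P0 ψe.toRingHom) 3 3 hNG hP0G (by rw [hcard]; norm_num)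
    (by rw [card_P0]; norm_num) (by rw [card_SU3_five hF]; norm_num)
  have hmax' := su3_max_conj (GU 3 F 5 ⊓ specialLinear (Fin 3) F) H hH g
    (fun x hx => Subgroup.mul_mem _ (Subgroup.mul_mem _ hgG hx) (Subgroup.inv_mem _ hgG))
    (fun x hx => Subgroup.mul_mem _ (Subgroup.mul_mem _ (Subgroup.inv_mem _ hgG) hx) hgG)
  have hnorm : ∀ y ∈ H.map (MulAut.conj g).toMonoidHom,
      y ∈ GU 3 F 5 ⊓ specialLinear (Fin 3) F ∧
        ∀ p ∈ P0 ψe.toRingHom, y * p * y⁻¹ ∈ P0 ψe.toRingHom := by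
    rintro _ ⟨x, hx, rfl⟩
    rw [hHeq] at hx
    obtain ⟨hxN, hxG⟩ := hx
    have hconj : (MulAut.conj g).toMonoidHom x = g * x * g⁻¹ := by
      simp [MulAut.conj_apply]
    rw [hconj]
    refine ⟨Subgroup.mul_mem _ (Subgroup.mul_mem _ hgG hxG) (Subgroup.inv_mem _ hgG), ?_⟩
    intro p hp
    have h1 : g⁻¹ * p * g ∈ N := hg2 p hp
    have hxN' : x ∈ Subgroup.normalizer (N : Set (GL (Fin 3) F)) := hxN
    have h2 : x * (g⁻¹ * p * g) * x⁻¹ ∈ N := (Subgroup.mem_normalizer_iff.mp hxN' _).mp h1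
    have h3 := hg1 _ h2
    have h4 : g * x * g⁻¹ * p * (g * x * g⁻¹)⁻¹ = g * (x * (g⁻¹ * p * g) * x⁻¹) * g⁻¹ := by
      group
    rw [h4]
    exact h3
  have hHL : H.map (MulAut.conj g).toMonoidHom ≤ su3Stab (su3Pts ψe.toRingHom D25M.sig 36) := by
    intro y hy
    obtain ⟨hyG, hyn⟩ := hnorm y hy
    exact core_F ψe hF y hyG.1 hyG.2 (hyn _ (hd_mem_P0 ψe.toRingHom))
      (hyn _ (hs_mem_P0 ψe.toRingHom))
  have hzG : su3GL ψe.toRingHom D25M.z D25M.z_i D25M.z_inv ∈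
      GU 3 F 5 ⊓ specialLinear (Fin 3) F :=
    ⟨su3GL_mem_GU ψe.toRingHom hσ _ _ _ D25M.z_unitary, su3GL_mem_SL ψe.toRingHom _ _ _ D25M.z_det⟩
  have hzL : su3GL ψe.toRingHom D25M.z D25M.z_i D25M.z_inv ∈
      su3Stab (su3Pts ψe.toRingHom D25M.sig 36) :=
    su3GL_mem_stab ψe.toRingHom _ _ _ D25M.sig 36 D25M.z_p D25M.z_c D25M.z_sig 2 (by norm_num)
      D25M.z_pow
  have hzH : su3GL ψe.toRingHom D25M.z D25M.z_i D25M.z_inv ∉
      H.map (MulAut.conj g).toMonoidHom := by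
    intro hz
    obtain ⟨r, hr, hzr⟩ := (hnorm _ hz).2 _ (hd_mem_P0 ψe.toRingHom)
    apply z_not r hr
    apply su3_map_inj ψe.toRingHom
    rw [su3_map_mul, su3_map_mul, ← hzr, ← su3GL_val ψe.toRingHom D25M.z D25M.z_i D25M.z_inv,
      ← su3GL_val ψe.toRingHom D25M.hd D25M.hd_i D25M.hd_inv, ← Units.val_mul, ← Units.val_mul]
    congr 1
    group
  have hwG : su3GL ψe.toRingHom D25M.wm D25M.wm_i D25M.wm_inv ∈
      GU 3 F 5 ⊓ specialLinear (Fin 3) F :=
    ⟨su3GL_mem_GU ψe.toRingHom hσ _ _ _ D25M.wm_unitary,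
      su3GL_mem_SL ψe.toRingHom _ _ _ D25M.wm_det⟩
  have hwL : su3GL ψe.toRingHom D25M.wm D25M.wm_i D25M.wm_inv ∉
      su3Stab (su3Pts ψe.toRingHom D25M.sig 36) :=
    su3GL_not_mem_stab ψe.toRingHom hψ _ _ D25M.wm_inv D25M.sig 36 0 (by norm_num) D25M.wm_not
  exact su3_not_max _ _ _ hmax' hHL _ hzG hzL hzH _ hwG hwL

end Cfsg.Agent.Helper10.E6
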