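import Mathlib

set_option autoImplicit false

universe u v

namespace Cfsg.Agent.Helper10

/-- The structural property of the normal Sylow subgroup of a minimal non-nilpotent group that
is used for `p`-length one: abelian, or class two with central `p`-th powers, centre inside the
derived subgroup, the "semi-extraspecial" condition, and the cyclicity of the subgroups of
order `p ^ 2` when the order is `p ^ 3` and `p ≤ 3`. -/
def SchProp (p : ℕ) (T : Type u) [Group T] : Prop :=
  (∀ a b : T, a * b = b * a) ∨
  ((∀ a b c : T, a * b * a⁻¹ * b⁻¹ * c = c * (a * b * a⁻¹ * b⁻¹)) ∧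
   (∀ a c : T, a ^ p * c = c * a ^ p) ∧
   (∀ c : T, (∀ g : T, c * g = g * c) → c ∈ commutator T) ∧
   (∀ N : Subgroup T, N < commutator T → ∀ u : T, (∀ g : T, u * g * u⁻¹ * g⁻¹ ∈ N) →
      ∀ g : T, u * g = g * u) ∧
   (p ≤ 3 → Nat.card T = p ^ 3 → ∀ M : Subgroup T, Nat.card M = p ^ 2 → IsCyclic M))

theorem sch_map_commutator {T : Type u} {T' : Type v} [Group T] [Group T'] (e : T ≃* T') :
    (commutator T).map e.toMonoidHom = commutator T' := by
  rw [commutator_def, commutator_def, Subgroup.map_commutator,
    Subgroup.map_top_of_surjective _ e.surjective]

theorem SchProp.of_equiv {p : ℕ} {T : Type u} {T' : Type v} [Group T] [Group T'] (e : T ≃* T')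
    (h : SchProp p T) : SchProp p T' := by
  rcases h with h | ⟨h2, hpow, hZ, hses, h3⟩
  · left
    intro a b
    have := h (e.symm a) (e.symm b)
    have h1 := congrArg e this
    simpa using h1
  · right
    refine ⟨?_, ?_, ?_, ?_, ?_⟩
    · intro a b c
      have := h2 (e.symm a) (e.symm b) (e.symm c)
      have h1 := congrArg e this
      simpa using h1
    · intro a c
      have := hpow (e.symm a) (e.symm c)
      have h1 := congrArg e this
      simpa using h1
    · intro c hc
      have h1 : e.symm c ∈ commutator T := by
        apply hZ
        intro g
        have := hc (e g)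
        have h1 := congrArg e.symm this
        simpa using h1
      rw [← sch_map_commutator e]
      exact ⟨e.symm c, h1, by simp⟩
    · intro N hN u hu g
      have hN' : N.comap e.toMonoidHom < commutator T := by
        rw [← sch_map_commutator e] at hN
        constructor
        · intro x hx
          have hx' : e x ∈ N := hx
          obtain ⟨y, hy, hye⟩ := hN.le hx'
          have : y = x := e.injective hye
          rw [← this]
          exact hy
        · intro hle
          apply hN.not_ge
          rintro _ ⟨y, hy, rfl⟩
          exact hle hy
      have h1 := hses (N.comap e.toMonoidHom) hN' (e.symm u) (by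
        intro g'
        show e (e.symm u * g' * (e.symm u)⁻¹ * g'⁻¹) ∈ N
        have := hu (e g')
        simpa using this) (e.symm g)
      have h2 := congrArg e h1
      simpa using h2
    · intro hp3 hcard M hM
      have hcard' : Nat.card T = p ^ 3 := by
        rw [Nat.card_congr e.toEquiv]
        exact hcard
      let f : ↥(M.comap e.toMonoidHom) →* ↥M :=
        (e.toMonoidHom.comp (M.comap e.toMonoidHom).subtype).codRestrict M (fun x => x.2)
      have hfbij : Function.Bijective f := by
        constructor
        · intro a b hab
          have h1 : e (a : T) = e (b : T) := congrArg Subtype.val hab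
          exact Subtype.ext (e.injective h1)
        · rintro ⟨m, hm⟩
          refine ⟨⟨e.symm m, ?_⟩, ?_⟩
          · show e (e.symm m) ∈ M
            simpa using hm
          · apply Subtype.ext
            show e (e.symm m) = m
            simp
      have hMc : Nat.card ↥(M.comap e.toMonoidHom) = p ^ 2 := by
        rw [← hM]
        exact Nat.card_congr (Equiv.ofBijective f hfbij)
      haveI := h3 hp3 hcard' _ hMc
      exact isCyclic_of_surjective f hfbij.2

end Cfsg.Agent.Helper10
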