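import Mathlib
import Cfsg.Agent.Helper10.SchDef

set_option autoImplicit false

universe u v

namespace Cfsg.Agent.Helper10

section SchP

variable {T : Type u} [Group T]

/-- In a group of class two, `g ↦ u g u⁻¹ g⁻¹` is a homomorphism. -/
def schCommR (h2 : ∀ a b c : T, a * b * a⁻¹ * b⁻¹ * c = c * (a * b * a⁻¹ * b⁻¹)) (u : T) :
    T →* T :=
  MonoidHom.mk' (fun g => u * g * u⁻¹ * g⁻¹) (by
    intro g g'
    have h := h2 u g' g⁻¹
    calc u * (g * g') * u⁻¹ * (g * g')⁻¹
        = u * g * u⁻¹ * (u * g' * u⁻¹ * g'⁻¹ * g⁻¹) := by group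
      _ = u * g * u⁻¹ * (g⁻¹ * (u * g' * u⁻¹ * g'⁻¹)) := by rw [h]
      _ = u * g * u⁻¹ * g⁻¹ * (u * g' * u⁻¹ * g'⁻¹) := by group)

theorem schCommR_apply (h2 : ∀ a b c : T, a * b * a⁻¹ * b⁻¹ * c = c * (a * b * a⁻¹ * b⁻¹))
    (u g : T) : schCommR h2 u g = u * g * u⁻¹ * g⁻¹ := rfl

/-- In a group of class two, `u ↦ u x u⁻¹ x⁻¹` is a homomorphism. -/
def schCommL (h2 : ∀ a b c : T, a * b * a⁻¹ * b⁻¹ * c = c * (a * b * a⁻¹ * b⁻¹)) (x : T) :
    T →* T :=
  MonoidHom.mk' (fun u => u * x * u⁻¹ * x⁻¹) (by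
    intro u u'
    have h := h2 u' x u
    have h' := h2 u' x (u * x * u⁻¹ * x⁻¹)
    calc u * u' * x * (u * u')⁻¹ * x⁻¹
        = u * (u' * x * u'⁻¹ * x⁻¹) * (x * u⁻¹ * x⁻¹) := by group
      _ = (u' * x * u'⁻¹ * x⁻¹ * u) * (x * u⁻¹ * x⁻¹) := by rw [← h]
      _ = (u' * x * u'⁻¹ * x⁻¹) * (u * x * u⁻¹ * x⁻¹) := by group
      _ = u * x * u⁻¹ * x⁻¹ * (u' * x * u'⁻¹ * x⁻¹) := h')

theorem schCommL_apply (h2 : ∀ a b c : T, a * b * a⁻¹ * b⁻¹ * c = c * (a * b * a⁻¹ * b⁻¹))
    (x u : T) : schCommL h2 x u = u * x * u⁻¹ * x⁻¹ := rfl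

theorem sch_commutator_le_center
    (h2 : ∀ a b c : T, a * b * a⁻¹ * b⁻¹ * c = c * (a * b * a⁻¹ * b⁻¹)) :
    commutator T ≤ Subgroup.center T := by
  rw [commutator_eq_closure, Subgroup.closure_le]
  intro g hg
  rw [mem_commutatorSet_iff] at hg
  obtain ⟨a, b, rfl⟩ := hg
  rw [SetLike.mem_coe, Subgroup.mem_center_iff, commutatorElement_def]
  intro c
  exact (h2 a b c).symm

theorem sch_comm_mem (a b : T) : a * b * a⁻¹ * b⁻¹ ∈ commutator T := by
  rw [commutator_def, ← commutatorElement_def]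
  exact Subgroup.commutator_mem_commutator (Subgroup.mem_top a) (Subgroup.mem_top b)

/-- A counting lemma: if every element of `M` is `c * z ^ i` with `c ∈ K` and `z ^ n ∈ K`,
then `|M| ≤ n |K|`. -/
theorem sch_card_le_of_decomp [Finite T] (K M : Subgroup T) (z : T) (n : ℕ) (hn : 0 < n)
    (hz : z ^ n ∈ K) (h : ∀ u ∈ M, ∃ c ∈ K, ∃ i : ℤ, u = c * z ^ i) :
    Nat.card M ≤ n * Nat.card K := by
  classical
  have h' : ∀ u : ↥M, ∃ cj : ↥K × Fin n, (u : T) = (cj.1 : T) * z ^ (cj.2 : ℕ) := by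
    intro u
    obtain ⟨c, hc, i, hi⟩ := h u u.2
    have hnz : (n : ℤ) ≠ 0 := by exact_mod_cast hn.ne'
    have h0 : 0 ≤ i % (n : ℤ) := Int.emod_nonneg i hnz
    have h1 : i % (n : ℤ) < n := Int.emod_lt_of_pos i (by exact_mod_cast hn)
    have h2 : ((i % (n : ℤ)).toNat : ℤ) = i % (n : ℤ) := Int.toNat_of_nonneg h0
    have hlt : (i % (n : ℤ)).toNat < n := by
      have : ((i % (n : ℤ)).toNat : ℤ) < n := by rw [h2]; exact h1
      exact_mod_cast this
    refine ⟨(⟨c * (z ^ n) ^ (i / (n : ℤ)), K.mul_mem hc (K.zpow_mem hz _)⟩,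
      ⟨(i % (n : ℤ)).toNat, hlt⟩), ?_⟩
    show (u : T) = c * (z ^ n) ^ (i / (n : ℤ)) * z ^ (i % (n : ℤ)).toNat
    rw [hi, ← zpow_natCast z (i % (n : ℤ)).toNat, h2, ← zpow_natCast z n, ← zpow_mul, mul_assoc,
      ← zpow_add, Int.mul_ediv_add_emod]
  choose g hg using h'
  have hinj : Function.Injective g := by
    intro u v huv
    apply Subtype.ext
    rw [hg u, hg v, huv]
  have := Nat.card_le_card_of_injective g hinj
  rw [Nat.card_prod, Nat.card_fin] at this
  rw [mul_comm]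
  exact this

/-- **The index-`p` lemma.**  Let `T` be a nonabelian `p`-group of class two with central
`p`-th powers, centre inside the derived subgroup and the semi-extraspecial property, and let
`M` be a subgroup containing the centre with `T = M ⟨x⟩`.  Then either `[M, M] = T'`, or
`|T| = p ^ 3` and `|M| = p ^ 2`. -/
theorem sch_index_p [Finite T] {p : ℕ} [hp : Fact p.Prime] (hT : IsPGroup p T)
    (hnc : ∃ a b : T, a * b ≠ b * a)
    (h2 : ∀ a b c : T, a * b * a⁻¹ * b⁻¹ * c = c * (a * b * a⁻¹ * b⁻¹))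
    (hpow : ∀ a c : T, a ^ p * c = c * a ^ p)
    (hZ : ∀ c : T, (∀ g : T, c * g = g * c) → c ∈ commutator T)
    (hses : ∀ N : Subgroup T, N < commutator T → ∀ u : T, (∀ g : T, u * g * u⁻¹ * g⁻¹ ∈ N) →
      ∀ g : T, u * g = g * u)
    (M : Subgroup T) (hZM : ∀ c : T, (∀ g : T, c * g = g * c) → c ∈ M) (x : T)
    (hMx : M ⊔ Subgroup.zpowers x = ⊤) :
    (∀ a b : T, a * b * a⁻¹ * b⁻¹ ∈ ⁅M, M⁆) ∨ (Nat.card T = p ^ 3 ∧ Nat.card M = p ^ 2) := by
  classical
  by_cases hα : ∀ a b : T, a * b * a⁻¹ * b⁻¹ ∈ ⁅M, M⁆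
  · exact Or.inl hα
  right
  have hpp : p.Prime := hp.out
  have hNle : ⁅M, M⁆ ≤ commutator T := by
    rw [commutator_def]
    exact Subgroup.commutator_mono le_top le_top
  have hNlt : ⁅M, M⁆ < commutator T := by
    refine lt_of_le_of_ne hNle ?_
    intro h
    apply hα
    intro a b
    rw [h]
    exact sch_comm_mem a b
  have hMM : ∀ a ∈ M, ∀ b ∈ M, a * b * a⁻¹ * b⁻¹ ∈ ⁅M, M⁆ := by
    intro a ha b hb
    rw [← commutatorElement_def]
    exact Subgroup.commutator_mem_commutator ha hb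
  have hcen : ∀ n ∈ commutator T, ∀ g : T, n * g = g * n := by
    intro n hn g
    have := sch_commutator_le_center h2 hn
    rw [Subgroup.mem_center_iff] at this
    exact (this g).symm
  -- (1)
  have hC : ∀ c ∈ M, c * x * c⁻¹ * x⁻¹ ∈ ⁅M, M⁆ → ∀ g : T, c * g = g * c := by
    intro c hc hcx
    apply hses _ hNlt c
    intro g
    have hle : M ⊔ Subgroup.zpowers x ≤ (⁅M, M⁆).comap (schCommR h2 c) := by
      refine sup_le ?_ ?_
      · intro m hm
        exact hMM c hc m hm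
      · rw [Subgroup.zpowers_le]
        exact hcx
    rw [hMx] at hle
    exact hle (Subgroup.mem_top g)
  -- (2)
  obtain ⟨r₀, hr₀M, hr₀⟩ : ∃ r₀ ∈ M, ¬ ∀ g : T, r₀ * g = g * r₀ := by
    by_contra hcon
    push Not at hcon
    obtain ⟨a, b, hab⟩ := hnc
    have hxc : ∀ g : T, x * g = g * x := by
      intro g
      have hle : M ⊔ Subgroup.zpowers x ≤ Subgroup.centralizer {x} := by
        refine sup_le ?_ ?_
        · intro m hm
          rw [Subgroup.mem_centralizer_iff]
          intro y hy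
          rw [Set.mem_singleton_iff] at hy
          rw [hy]
          exact (hcon m hm x).symm
        · rw [Subgroup.zpowers_le, Subgroup.mem_centralizer_iff]
          intro y hy
          rw [Set.mem_singleton_iff] at hy
          rw [hy]
      rw [hMx] at hle
      have := hle (Subgroup.mem_top g)
      rw [Subgroup.mem_centralizer_iff] at this
      exact this x rfl
    have hall : ∀ u g : T, u * g = g * u := by
      intro u g
      have hle : M ⊔ Subgroup.zpowers x ≤ Subgroup.center T := by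
        refine sup_le ?_ ?_
        · intro m hm
          rw [Subgroup.mem_center_iff]
          intro g'
          exact (hcon m hm g').symm
        · rw [Subgroup.zpowers_le, Subgroup.mem_center_iff]
          intro g'
          exact (hxc g').symm
      rw [hMx] at hle
      have := hle (Subgroup.mem_top u)
      rw [Subgroup.mem_center_iff] at this
      exact (this g).symm
    exact hab (hall a b)
  -- (3)
  obtain ⟨t, ht⟩ : ∃ t : T, t = r₀ * x * r₀⁻¹ * x⁻¹ := ⟨_, rfl⟩
  have hN₀ : commutator T ≤ ⁅M, M⁆ ⊔ Subgroup.zpowers t := by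
    by_contra hnot
    have hlt : ⁅M, M⁆ ⊔ Subgroup.zpowers t < commutator T := by
      refine lt_of_le_of_ne (sup_le hNle ?_) ?_
      · rw [Subgroup.zpowers_le, ht]
        exact sch_comm_mem _ _
      · intro h
        exact hnot h.ge
    apply hr₀
    apply hses _ hlt r₀
    intro g
    have hle : M ⊔ Subgroup.zpowers x ≤
        (⁅M, M⁆ ⊔ Subgroup.zpowers t).comap (schCommR h2 r₀) := by
      refine sup_le ?_ ?_
      · intro m hm
        exact Subgroup.mem_sup_left (hMM r₀ hr₀M m hm)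
      · rw [Subgroup.zpowers_le]
        rw [Subgroup.mem_comap, schCommR_apply, ← ht]
        exact Subgroup.mem_sup_right (Subgroup.mem_zpowers _)
    rw [hMx] at hle
    exact hle (Subgroup.mem_top g)
  -- (4)
  have hNn : (⁅M, M⁆).Normal := by
    constructor
    intro n hn g
    have := hcen n (hNle hn) g
    have h1 : g * n * g⁻¹ = n := by rw [← this]; group
    rw [h1]
    exact hn
  have hdec : ∀ r ∈ M, ∃ i : ℤ, ∀ g : T, (r * r₀ ^ (-i)) * g = g * (r * r₀ ^ (-i)) := by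
    intro r hr
    have h1 : r * x * r⁻¹ * x⁻¹ ∈ (↑(⁅M, M⁆ ⊔ Subgroup.zpowers t) : Set T) :=
      hN₀ (sch_comm_mem r x)
    rw [Subgroup.normal_mul] at h1
    obtain ⟨n, hn, z, hz, hnz⟩ := h1
    obtain ⟨i, rfl⟩ := Subgroup.mem_zpowers_iff.mp hz
    refine ⟨i, hC (r * r₀ ^ (-i)) (M.mul_mem hr (M.zpow_mem hr₀M _)) ?_⟩
    have h3 : (schCommL h2 x) (r * r₀ ^ (-i)) = n := by
      rw [map_mul, map_zpow, schCommL_apply, schCommL_apply, ← ht, ← hnz, zpow_neg,
        mul_inv_cancel_right]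
    rw [schCommL_apply] at h3
    rw [h3]
    exact hn
  have hMab : ∀ r ∈ M, ∀ s ∈ M, r * s = s * r := by
    intro r hr s hs
    obtain ⟨i, hi⟩ := hdec r hr
    obtain ⟨j, hj⟩ := hdec s hs
    have hr' : r = (r * r₀ ^ (-i)) * r₀ ^ i := by group
    have hs' : s = (s * r₀ ^ (-j)) * r₀ ^ j := by group
    generalize r * r₀ ^ (-i) = c at hi hr'
    generalize s * r₀ ^ (-j) = d at hj hs'
    rw [hr', hs']
    have e1 : r₀ ^ i * d = d * r₀ ^ i := (hj (r₀ ^ i)).symm
    have e2 : c * d = d * c := hi d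
    have e3 : r₀ ^ i * r₀ ^ j = r₀ ^ j * r₀ ^ i := by
      rw [← zpow_add, ← zpow_add, add_comm]
    have e4 : c * r₀ ^ j = r₀ ^ j * c := hi (r₀ ^ j)
    calc c * r₀ ^ i * (d * r₀ ^ j) = c * (r₀ ^ i * d) * r₀ ^ j := by group
      _ = c * (d * r₀ ^ i) * r₀ ^ j := by rw [e1]
      _ = (c * d) * (r₀ ^ i * r₀ ^ j) := by group
      _ = (d * c) * (r₀ ^ j * r₀ ^ i) := by rw [e2, e3]
      _ = d * (c * r₀ ^ j) * r₀ ^ i := by group
      _ = d * (r₀ ^ j * c) * r₀ ^ i := by rw [e4]
      _ = d * r₀ ^ j * (c * r₀ ^ i) := by group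
  have hMM0 : ⁅M, M⁆ = ⊥ := by
    rw [Subgroup.commutator_eq_bot_iff_le_centralizer]
    intro r hr
    rw [Subgroup.mem_centralizer_iff]
    intro s hs
    exact hMab s hs r hr
  have hT'le : commutator T ≤ Subgroup.zpowers t := by
    rw [hMM0, bot_sup_eq] at hN₀
    exact hN₀
  have htp : t ^ p = 1 := by
    have h1 : (schCommL h2 x) (r₀ ^ p) = t ^ p := by
      rw [map_pow, schCommL_apply, ← ht]
    rw [← h1, schCommL_apply, hpow r₀ x]
    group
  -- (6) cardinalities
  have hZcard : Nat.card (Subgroup.center T) ≤ p := by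
    have h1 : Subgroup.center T ≤ Subgroup.zpowers t := by
      intro c hc
      rw [Subgroup.mem_center_iff] at hc
      exact hT'le (hZ c (fun g => (hc g).symm))
    have h2' := Subgroup.card_le_of_le h1
    rw [Nat.card_zpowers] at h2'
    exact h2'.trans (Nat.le_of_dvd hpp.pos (orderOf_dvd_of_pow_eq_one htp))
  have hMcard : Nat.card M ≤ p * Nat.card (Subgroup.center T) := by
    apply sch_card_le_of_decomp (Subgroup.center T) M r₀ p hpp.pos
    · rw [Subgroup.mem_center_iff]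
      intro g
      exact (hpow r₀ g).symm
    · intro u hu
      obtain ⟨i, hi⟩ := hdec u hu
      refine ⟨u * r₀ ^ (-i), ?_, i, by group⟩
      rw [Subgroup.mem_center_iff]
      intro g
      exact (hi g).symm
  have hMn : M.Normal := by
    constructor
    intro m hm g
    have h1 : g * m * g⁻¹ = (g * m * g⁻¹ * m⁻¹) * m := by group
    rw [h1]
    exact M.mul_mem (hZM _ (hcen _ (sch_comm_mem g m))) hm
  have hTcard : Nat.card T ≤ p * Nat.card M := by
    have h1 := sch_card_le_of_decomp M ⊤ x p hpp.pos (hZM _ (fun g => hpow x g)) (by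
      intro u _
      have h3 : u ∈ (↑(M ⊔ Subgroup.zpowers x) : Set T) := by
        rw [hMx]
        exact Subgroup.mem_top u
      rw [Subgroup.normal_mul] at h3
      obtain ⟨m, hm, z, hz, hmz⟩ := h3
      obtain ⟨i, rfl⟩ := Subgroup.mem_zpowers_iff.mp hz
      exact ⟨m, hm, i, hmz.symm⟩)
    rwa [Subgroup.card_top] at h1
  obtain ⟨n, hn⟩ := (IsPGroup.iff_card).mp hT
  have hle3 : Nat.card T ≤ p ^ 3 := by
    calc Nat.card T ≤ p * Nat.card M := hTcard
      _ ≤ p * (p * Nat.card (Subgroup.center T)) := Nat.mul_le_mul_left p hMcard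
      _ ≤ p * (p * p) := Nat.mul_le_mul_left p (Nat.mul_le_mul_left p hZcard)
      _ = p ^ 3 := by ring
  have hn3 : n ≤ 3 := by
    rw [hn] at hle3
    exact (Nat.pow_le_pow_iff_right hpp.one_lt).mp hle3
  have hn3' : 3 ≤ n := by
    by_contra hlt
    push Not at hlt
    obtain ⟨a, b, hab⟩ := hnc
    apply hab
    interval_cases n
    · rw [pow_zero] at hn
      have : Subsingleton T := (Nat.card_eq_one_iff_unique.mp hn).1
      exact Subsingleton.elim _ _
    · rw [pow_one] at hn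
      have := isCyclic_of_prime_card hn
      exact (IsCyclic.isMulCommutative (α := T)).is_comm.comm a b
    · exact (IsPGroup.isMulCommutative_of_card_eq_prime_sq hn).is_comm.comm a b
  have hn' : n = 3 := le_antisymm hn3 hn3'
  rw [hn'] at hn
  refine ⟨hn, ?_⟩
  apply le_antisymm
  · calc Nat.card M ≤ p * Nat.card (Subgroup.center T) := hMcard
      _ ≤ p * p := Nat.mul_le_mul_left p hZcard
      _ = p ^ 2 := by ring
  · rw [hn] at hTcard
    have : p * p ^ 2 ≤ p * Nat.card M := by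
      calc p * p ^ 2 = p ^ 3 := by ring
        _ ≤ p * Nat.card M := hTcard
    exact Nat.le_of_mul_le_mul_left this hpp.pos

end SchP

end Cfsg.Agent.Helper10
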