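import Mathlib
import Cfsg.Agent.Helper10.SchP
import Cfsg.Agent.Helper70.Schmidt
import Cfsg.Agent.Helper70.Schmidt2
import Cfsg.Agent.Helper70.Ito
import Cfsg.Agent.Helper50.Basic
import Cfsg.Agent.Helper22.Fitting
import Cfsg.Agent.Helper2.PGroup
import Cfsg.Agent.S3736

set_option autoImplicit false

universe u

namespace Cfsg.Agent.Helper10

section SchA

variable {X : Type u} [Group X]

/-- The datum of a Schmidt group whose normal Sylow subgroup is the given Sylow `p`-subgroup. -/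
theorem sch_datum [Finite X] (p : ℕ) [hp : Fact p.Prime]
    (hnil : ¬ Group.IsNilpotent X) (hsub : ∀ H : Subgroup X, H ≠ ⊤ → Group.IsNilpotent H)
    (P : Sylow p X) (hPn : (P : Subgroup X).Normal) (hP1 : (P : Subgroup X) ≠ ⊥) :
    ∃ (q : ℕ) (y : X) (k : ℕ), q.Prime ∧ q ≠ p ∧ orderOf y = q ^ k ∧
      (P : Subgroup X) ⊔ Subgroup.zpowers y = ⊤ ∧
      y ∉ Subgroup.centralizer ((P : Subgroup X) : Set X) := by
  obtain ⟨p₀, q₀, hp₀, hq₀, hne, g, Q₀, k, hord, hQ₀, hQ₀n, htop, hgC⟩ :=
    Cfsg.Agent.Helper70.exists_schmidt_datum hnil hsub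
  have hpp := hp.out
  haveI : Fact q₀.Prime := ⟨hq₀⟩
  have hpdvd : p ∣ Nat.card X := by
    obtain ⟨n, hn⟩ := (IsPGroup.iff_card).mp P.isPGroup'
    have hn0 : n ≠ 0 := by
      intro h0
      rw [h0, pow_zero] at hn
      exact hP1 ((Subgroup.card_eq_one).mp hn)
    have h1 : p ∣ Nat.card (P : Subgroup X) := by
      rw [hn]
      exact dvd_pow_self p hn0
    exact h1.trans (Subgroup.card_subgroup_dvd_card _)
  have hidx : Q₀.index ∣ p₀ ^ k := by
    rw [← hord]
    exact Cfsg.Agent.Helper70.index_dvd_orderOf_of_sup_zpowers_eq_top Q₀ g htop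
  obtain ⟨j, hj⟩ := (IsPGroup.iff_card).mp hQ₀
  have hcard : Nat.card X = Nat.card Q₀ * Q₀.index := (Subgroup.card_mul_index Q₀).symm
  have hcases : p = q₀ ∨ p = p₀ := by
    rw [hcard, hj] at hpdvd
    rcases (Nat.Prime.dvd_mul hpp).mp hpdvd with h | h
    · left
      exact (Nat.prime_dvd_prime_iff_eq hpp hq₀).mp (hpp.dvd_of_dvd_pow h)
    · right
      exact (Nat.prime_dvd_prime_iff_eq hpp hp₀).mp (hpp.dvd_of_dvd_pow (h.trans hidx))
  rcases hcases with h | h
  · have hPQ : (P : Subgroup X) = Q₀ := by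
      apply Cfsg.Agent.Helper70.sylow_eq_of_normal_of_coprime_index Q₀ (h ▸ hQ₀) ?_ P
      rw [h]
      exact Nat.Coprime.coprime_dvd_left hidx
        (Nat.Coprime.pow_left k ((Nat.coprime_primes hp₀ hq₀).mpr hne))
    refine ⟨p₀, g, k, hp₀, ?_, hord, ?_, ?_⟩
    · rw [h]
      exact hne
    · rw [hPQ]
      exact htop
    · rw [hPQ]
      exact hgC
  · exfalso
    have hgP : g ∈ (P : Subgroup X) :=
      Cfsg.Agent.Helper70.mem_sylow_of_pow_eq_one_of_normal P hPn g k (by
        rw [h, ← hord]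
        exact pow_orderOf_eq_one g)
    apply hgC
    rw [Subgroup.mem_centralizer_iff]
    intro u hu
    have h1 : u * g * u⁻¹ * g⁻¹ ∈ Q₀ := by
      have := hQ₀n.conj_mem u⁻¹ (Q₀.inv_mem hu) g
      have e : u * g * u⁻¹ * g⁻¹ = u * (g * u⁻¹ * g⁻¹) := by group
      rw [e]
      exact Q₀.mul_mem hu this
    have h2 : u * g * u⁻¹ * g⁻¹ ∈ (P : Subgroup X) := by
      have := hPn.conj_mem g hgP u
      exact (P : Subgroup X).mul_mem this ((P : Subgroup X).inv_mem hgP)
    have h3 : u * g * u⁻¹ * g⁻¹ = 1 :=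
      Cfsg.Agent.Helper70.eq_one_of_mem_pGroups hq₀ hpp (by rw [h]; exact hne.symm) hQ₀
        P.isPGroup' h1 h2
    calc u * g = (u * g * u⁻¹ * g⁻¹) * (g * u) := by group
      _ = g * u := by rw [h3, one_mul]

/-- The facts about the normal Sylow subgroup `P` of a Schmidt group `P ⟨y⟩` that we use. -/
structure SchCtx (p q : ℕ) (P : Subgroup X) (y : X) : Prop where
  normal : P.Normal
  pgroup : IsPGroup p P
  qprime : q.Prime
  hqp : q ≠ p
  hord : ∃ k : ℕ, orderOf y = q ^ k
  hmin : ∀ U : Subgroup X, U < P → (∀ u ∈ U, y * u * y⁻¹ ∈ U) → ∀ u ∈ U, y * u = u * y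
  hkey : ∀ U : Subgroup X, U < P → (∀ u ∈ U, y * u * y⁻¹ ∈ U) →
    U ≤ (commutator ↥P).map P.subtype
  hyq : ∀ u ∈ P, y ^ q * u = u * y ^ q
  hstr : (∀ a b : ↥P, a * b = b * a) ∨
    (frattini ↥P = Subgroup.center ↥P ∧ commutator ↥P = Subgroup.center ↥P)

theorem sch_ctx [Finite X] (p : ℕ) [hp : Fact p.Prime]
    (hsub : ∀ H : Subgroup X, H ≠ ⊤ → Group.IsNilpotent H)
    (P : Subgroup X) (hPn : P.Normal) (hP : IsPGroup p P) (q : ℕ) (y : X) (k : ℕ)
    (hq : q.Prime) (hqp : q ≠ p) (hord : orderOf y = q ^ k)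
    (hyC : y ∉ Subgroup.centralizer (P : Set X)) : SchCtx p q P y := by
  classical
  have hpp := hp.out
  haveI : Fact q.Prime := ⟨hq⟩
  have hyq' : IsPGroup q (Subgroup.zpowers y) := by
    apply IsPGroup.of_card (n := k)
    rw [Nat.card_zpowers, hord]
  have hqpc : (q ^ k).Coprime p := Nat.Coprime.pow_left k ((Nat.coprime_primes hq hpp).mpr hqp)
  have hzcop : ∀ z ∈ Subgroup.zpowers y, (orderOf z).Coprime p := by
    intro z hz
    have h1 := orderOf_dvd_of_mem_zpowers hz
    rw [hord] at h1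
    exact Nat.Coprime.coprime_dvd_left h1 hqpc
  have hnormP : ∀ u ∈ P, y * u * y⁻¹ ∈ P := fun u hu => hPn.conj_mem u hu y
  -- every proper `y`-invariant subgroup of `P` is centralized by `⟨y⟩`
  have hmin0 : ∀ U : Subgroup X, U < P → (∀ u ∈ U, y * u * y⁻¹ ∈ U) →
      ∀ u ∈ U, ∀ z ∈ Subgroup.zpowers y, u * z = z * u := by
    intro U hU hyU u hu z hz
    have hyN : Subgroup.zpowers y ≤ Subgroup.normalizer (U : Set X) :=
      Subgroup.zpowers_le.mpr (Cfsg.Agent.Helper50.mem_normalizer_of_conj_mem U y hyU)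
    by_cases htop' : U ⊔ Subgroup.zpowers y = ⊤
    · exfalso
      haveI hUN : U.Normal := by
        rw [← Subgroup.normalizer_eq_top_iff, eq_top_iff, ← htop']
        exact sup_le Subgroup.le_normalizer hyN
      apply hU.not_ge
      intro x hx
      have h1 : x ∈ (↑(U ⊔ Subgroup.zpowers y) : Set X) := by
        rw [htop']
        trivial
      rw [Subgroup.normal_mul] at h1
      obtain ⟨u', hu', z', hz', rfl⟩ := h1
      have hzP : z' ∈ P := by
        have := P.mul_mem (P.inv_mem (hU.le hu')) hx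
        simpa using this
      have hz1 : z' = 1 :=
        Cfsg.Agent.Helper70.eq_one_of_mem_pGroups hpp hq hqp.symm hP hyq' hzP hz'
      rw [hz1]
      show u' * 1 ∈ U
      rw [mul_one]
      exact hu'
    · haveI := hsub _ htop'
      obtain ⟨j, hj⟩ := hP ⟨u, hU.le hu⟩
      have hj' : u ^ p ^ j = 1 := congrArg Subtype.val hj
      have hcm := Cfsg.Agent.Helper70.commute_of_isNilpotent
        (G := ↥(U ⊔ Subgroup.zpowers y)) (p := p)
        ⟨u, Subgroup.mem_sup_left hu⟩ ⟨z, Subgroup.mem_sup_right hz⟩ j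
        (Subtype.ext (by simpa using hj')) (by rw [Subgroup.orderOf_mk]; exact hzcop z hz)
      exact congrArg Subtype.val hcm
  have hmin : ∀ U : Subgroup X, U < P → (∀ u ∈ U, y * u * y⁻¹ ∈ U) →
      ∀ u ∈ U, y * u = u * y := by
    intro U hU hyU u hu
    exact (hmin0 U hU hyU u hu y (Subgroup.mem_zpowers y)).symm
  -- the Hall–Higman reduction
  have hAP : Subgroup.zpowers y ≤ Subgroup.normalizer (P : Set X) := by
    rw [Subgroup.normalizer_eq_top_iff.mpr hPn]
    exact le_top
  have hAp : (Nat.card (Subgroup.zpowers y)).Coprime p := by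
    rw [Nat.card_zpowers, hord]
    exact hqpc
  have hnt : ⁅P, Subgroup.zpowers y⁆ ≠ ⊥ := by
    intro h
    rw [Subgroup.commutator_eq_bot_iff_le_centralizer] at h
    apply hyC
    rw [Subgroup.mem_centralizer_iff]
    intro u hu
    have := h hu
    rw [Subgroup.mem_centralizer_iff] at this
    exact (this y (Subgroup.mem_zpowers y)).symm
  have hmin1 : ∀ U : Subgroup X, U < P →
      Subgroup.zpowers y ≤ Subgroup.normalizer (U : Set X) → ⁅U, Subgroup.zpowers y⁆ = ⊥ := by
    intro U hU hN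
    rw [Subgroup.commutator_eq_bot_iff_le_centralizer]
    intro u hu
    rw [Subgroup.mem_centralizer_iff]
    intro z hz
    have hyU : ∀ u ∈ U, y * u * y⁻¹ ∈ U := fun u hu =>
      (Subgroup.mem_normalizer_iff.mp (hN (Subgroup.mem_zpowers y)) u).mp hu
    exact (hmin0 U hU hyU u hu z hz).symm
  obtain ⟨hPA, hstr, -, -⟩ := Cfsg.Agent.S3736.result (Subgroup.zpowers y) (Subgroup.zpowers y) P
    hP hAP le_rfl Subgroup.le_normalizer hAp hnt hmin1
  have hcop : (Nat.card (Subgroup.zpowers y)).Coprime (Nat.card P) := by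
    obtain ⟨n, hn⟩ := (IsPGroup.iff_card).mp hP
    rw [hn]
    exact Nat.Coprime.pow_right n hAp
  have hfix := Cfsg.Agent.S3736.fixed_le_commutator hAP hcop hPA
  have hkey : ∀ U : Subgroup X, U < P → (∀ u ∈ U, y * u * y⁻¹ ∈ U) →
      U ≤ (commutator ↥P).map P.subtype := by
    intro U hU hyU u hu
    apply hfix
    rw [Subgroup.mem_inf, Subgroup.mem_centralizer_iff]
    refine ⟨hU.le hu, ?_⟩
    intro z hz
    exact (hmin0 U hU hyU u hu z hz).symm
  -- `y ^ q` centralizes `P`
  have hyq : ∀ u ∈ P, y ^ q * u = u * y ^ q := by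
    by_contra hcon
    have hnc : y ^ q ∉ Subgroup.centralizer (P : Set X) := by
      intro h
      apply hcon
      intro u hu
      exact ((Subgroup.mem_centralizer_iff.mp h) u hu).symm
    have htop' := Cfsg.Agent.Helper70.sup_zpowers_eq_top_of_not_mem_centralizer (p := p)
      (fun H hH => by
        haveI := hsub H hH
        exact Cfsg.Agent.Helper70.hasNPC_of_isNilpotent p) P hP (y ^ q)
      (hAP (Subgroup.pow_mem _ (Subgroup.mem_zpowers y) q))
      (hzcop _ (Subgroup.pow_mem _ (Subgroup.mem_zpowers y) q)) hnc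
    haveI := hPn
    have hdvd := Cfsg.Agent.Helper70.index_dvd_orderOf_of_sup_zpowers_eq_top P (y ^ q) htop'
    have h1 : orderOf y ∣ P.index := by
      have h2 : orderOf y ∣ Nat.card P * P.index := by
        rw [Subgroup.card_mul_index]
        exact orderOf_dvd_natCard y
      have hc : (orderOf y).Coprime (Nat.card P) := by
        rw [← Nat.card_zpowers]
        exact hcop
      exact hc.dvd_of_dvd_mul_left h2
    have hk : k ≠ 0 := by
      intro h0
      rw [h0, pow_zero, orderOf_eq_one_iff] at hord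
      apply hyC
      rw [hord]
      exact Subgroup.one_mem _
    have h3 : orderOf (y ^ q) * q = orderOf y := by
      rw [orderOf_pow_of_dvd hq.ne_zero (by rw [hord]; exact dvd_pow_self q hk)]
      exact Nat.div_mul_cancel (by rw [hord]; exact dvd_pow_self q hk)
    have h4 : orderOf y ∣ orderOf (y ^ q) := h1.trans hdvd
    have h5 : orderOf (y ^ q) ≠ 0 := (orderOf_pos _).ne'
    have h6 := Nat.le_of_dvd (Nat.pos_of_ne_zero h5) h4
    have h7 : orderOf (y ^ q) * 2 ≤ orderOf (y ^ q) * q :=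
      Nat.mul_le_mul_left _ hq.two_le
    omega
  refine ⟨hPn, hP, hq, hqp, ⟨k, hord⟩, hmin, hkey, hyq, ?_⟩
  rcases hstr with h | h
  · left
    intro a b
    have := h.1.is_comm.comm ⟨(a : X), a.2⟩ ⟨(b : X), b.2⟩
    exact this
  · right
    exact ⟨h.2.1, h.2.2⟩

section Ctx

variable {p q : ℕ} {P : Subgroup X} {y : X}

/-- Conjugation by `y` as an endomorphism of `P`. -/
def SchCtx.phi (h : SchCtx p q P y) : ↥P →* ↥P :=
  MonoidHom.mk' (fun u => ⟨y * u * y⁻¹, h.normal.conj_mem u u.2 y⟩) (by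
    intro a b
    apply Subtype.ext
    show y * (a * b : X) * y⁻¹ = (y * a * y⁻¹) * (y * b * y⁻¹)
    group)

theorem SchCtx.phi_coe (h : SchCtx p q P y) (u : ↥P) : ((h.phi u : ↥P) : X) = y * u * y⁻¹ :=
  rfl

theorem SchCtx.center_fixed (h : SchCtx p q P y) (hnc : ∃ a b : ↥P, a * b ≠ b * a) (z : ↥P)
    (hz : z ∈ Subgroup.center ↥P) : h.phi z = z := by
  have hlt : (Subgroup.center ↥P).map P.subtype < P := by
    refine lt_of_le_of_ne (Subgroup.map_subtype_le _) ?_
    intro heq
    obtain ⟨a, b, hab⟩ := hnc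
    apply hab
    have ha : (a : X) ∈ (Subgroup.center ↥P).map P.subtype := by
      rw [heq]
      exact a.2
    obtain ⟨a', ha', haa⟩ := ha
    have : a' = a := Subtype.ext haa
    rw [this] at ha'
    have ha'' : a ∈ Subgroup.center ↥P := ha'
    rw [Subgroup.mem_center_iff] at ha''
    exact (ha'' b).symm
  have hyN : y ∈ Subgroup.normalizer (((Subgroup.center ↥P).map P.subtype : Subgroup X) : Set X) := by
    apply Cfsg.Agent.Helper22.normalizer_le_normalizer_map_subtype P (Subgroup.center ↥P)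
    rw [Subgroup.normalizer_eq_top_iff.mpr h.normal]
    exact Subgroup.mem_top y
  have hinv : ∀ u ∈ (Subgroup.center ↥P).map P.subtype,
      y * u * y⁻¹ ∈ (Subgroup.center ↥P).map P.subtype := fun u hu =>
    (Subgroup.mem_normalizer_iff.mp hyN u).mp hu
  have h1 := h.hmin _ hlt hinv (z : X) ⟨z, hz, rfl⟩
  apply Subtype.ext
  rw [SchCtx.phi_coe, h1]
  group

theorem SchCtx.claim (h : SchCtx p q P y) (hcm : commutator ↥P = Subgroup.center ↥P)
    (hnc : ∃ a b : ↥P, a * b ≠ b * a) (g : ↥P)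
    (hg : h.phi g ∈ Subgroup.zpowers g ⊔ Subgroup.center ↥P) : g ∈ Subgroup.center ↥P := by
  have hφK : ∀ k ∈ Subgroup.zpowers g ⊔ Subgroup.center ↥P,
      h.phi k ∈ Subgroup.zpowers g ⊔ Subgroup.center ↥P := by
    intro k hk
    have hle : (Subgroup.zpowers g ⊔ Subgroup.center ↥P).map h.phi ≤
        Subgroup.zpowers g ⊔ Subgroup.center ↥P := by
      rw [Subgroup.map_sup, MonoidHom.map_zpowers]
      refine sup_le (Subgroup.zpowers_le.mpr hg) ?_
      rintro _ ⟨z, hz, rfl⟩
      rw [h.center_fixed hnc z hz]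
      exact Subgroup.mem_sup_right hz
    exact hle (Subgroup.mem_map_of_mem _ hk)
  have hlt : (Subgroup.zpowers g ⊔ Subgroup.center ↥P).map P.subtype < P := by
    refine lt_of_le_of_ne (Subgroup.map_subtype_le _) ?_
    intro heq
    have htop : ∀ u : ↥P, u ∈ Subgroup.zpowers g ⊔ Subgroup.center ↥P := by
      intro u
      have hu : (u : X) ∈ (Subgroup.zpowers g ⊔ Subgroup.center ↥P).map P.subtype := by
        rw [heq]
        exact u.2
      obtain ⟨u', hu', huu⟩ := hu
      have : u' = u := Subtype.ext huu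
      rw [← this]
      exact hu'
    have hgc : ∀ u : ↥P, u * g = g * u := by
      intro u
      have hle : Subgroup.zpowers g ⊔ Subgroup.center ↥P ≤ Subgroup.centralizer {g} := by
        refine sup_le ?_ ?_
        · rw [Subgroup.zpowers_le, Subgroup.mem_centralizer_iff]
          intro w hw
          rw [Set.mem_singleton_iff] at hw
          rw [hw]
        · intro z hz
          rw [Subgroup.mem_centralizer_iff]
          intro w hw
          rw [Set.mem_singleton_iff] at hw
          rw [hw]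
          rw [Subgroup.mem_center_iff] at hz
          exact hz g
      have := hle (htop u)
      rw [Subgroup.mem_centralizer_iff] at this
      exact (this g rfl).symm
    obtain ⟨a, b, hab⟩ := hnc
    apply hab
    have hle : Subgroup.zpowers g ⊔ Subgroup.center ↥P ≤ Subgroup.center ↥P := by
      refine sup_le ?_ le_rfl
      rw [Subgroup.zpowers_le, Subgroup.mem_center_iff]
      exact hgc
    have ha := hle (htop a)
    rw [Subgroup.mem_center_iff] at ha
    exact (ha b).symm
  have hinv : ∀ u ∈ (Subgroup.zpowers g ⊔ Subgroup.center ↥P).map P.subtype,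
      y * u * y⁻¹ ∈ (Subgroup.zpowers g ⊔ Subgroup.center ↥P).map P.subtype := by
    rintro _ ⟨k, hk, rfl⟩
    exact ⟨h.phi k, hφK k hk, rfl⟩
  have h1 := h.hkey _ hlt hinv
  have h2 : (g : X) ∈ (commutator ↥P).map P.subtype :=
    h1 ⟨g, Subgroup.mem_sup_left (Subgroup.mem_zpowers g), rfl⟩
  obtain ⟨c, hc, hcg⟩ := h2
  have : c = g := Subtype.ext hcg
  rw [← this, ← hcm]
  exact hc

theorem SchCtx.h2 (hcm : commutator ↥P = Subgroup.center ↥P) :
    ∀ a b c : ↥P, a * b * a⁻¹ * b⁻¹ * c = c * (a * b * a⁻¹ * b⁻¹) := by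
  intro a b c
  have h1 := sch_comm_mem a b
  rw [hcm, Subgroup.mem_center_iff] at h1
  exact (h1 c).symm

theorem SchCtx.ses (h : SchCtx p q P y) (hcm : commutator ↥P = Subgroup.center ↥P)
    (hnc : ∃ a b : ↥P, a * b ≠ b * a) (N : Subgroup ↥P) (hN : N < commutator ↥P) (u : ↥P)
    (hu : ∀ g : ↥P, u * g * u⁻¹ * g⁻¹ ∈ N) : ∀ g : ↥P, u * g = g * u := by
  have h2 := SchCtx.h2 hcm
  obtain ⟨MN, hMN⟩ : ∃ MN : Subgroup ↥P, MN = ⨅ g : ↥P, N.comap (schCommL h2 g) := ⟨_, rfl⟩
  have hmem : ∀ v : ↥P, v ∈ MN ↔ ∀ g : ↥P, v * g * v⁻¹ * g⁻¹ ∈ N := by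
    intro v
    rw [hMN, Subgroup.mem_iInf]
    rfl
  have huM : u ∈ MN := (hmem u).mpr hu
  have hφM : ∀ m ∈ MN, h.phi m ∈ MN := by
    intro m hm
    rw [hmem] at hm ⊢
    intro g
    obtain ⟨g₀, hg₀⟩ : ∃ g₀ : ↥P, h.phi g₀ = g := by
      refine ⟨⟨y⁻¹ * g * y, ?_⟩, ?_⟩
      · have := h.normal.conj_mem g g.2 y⁻¹
        simpa using this
      · apply Subtype.ext
        rw [SchCtx.phi_coe]
        show y * (y⁻¹ * (g : X) * y) * y⁻¹ = g
        group
    have hn := hm g₀
    have hnc' : m * g₀ * m⁻¹ * g₀⁻¹ ∈ Subgroup.center ↥P := by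
      rw [← hcm]
      exact hN.le hn
    have hfix := h.center_fixed hnc _ hnc'
    rw [map_mul, map_mul, map_mul, map_inv, map_inv, hg₀] at hfix
    rw [hfix]
    exact hn
  by_cases hUP : MN.map P.subtype = P
  · exfalso
    apply hN.not_ge
    rw [commutator_eq_closure, Subgroup.closure_le]
    intro c hc
    rw [mem_commutatorSet_iff] at hc
    obtain ⟨a, b, rfl⟩ := hc
    rw [commutatorElement_def]
    have ha : (a : X) ∈ MN.map P.subtype := by
      rw [hUP]
      exact a.2
    obtain ⟨a', ha', haa⟩ := ha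
    have : a' = a := Subtype.ext haa
    rw [this] at ha'
    exact (hmem a).mp ha' b
  · have hlt : MN.map P.subtype < P := lt_of_le_of_ne (Subgroup.map_subtype_le _) hUP
    have hinv : ∀ v ∈ MN.map P.subtype, y * v * y⁻¹ ∈ MN.map P.subtype := by
      rintro _ ⟨m, hm, rfl⟩
      exact ⟨h.phi m, hφM m hm, rfl⟩
    have h1 := h.hkey _ hlt hinv
    have h3 : (u : X) ∈ (commutator ↥P).map P.subtype := h1 ⟨u, huM, rfl⟩
    obtain ⟨c, hc, hcu⟩ := h3
    have : c = u := Subtype.ext hcu
    rw [this, hcm] at hc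
    have hc' : u ∈ Subgroup.center ↥P := hc
    rw [Subgroup.mem_center_iff] at hc'
    intro g
    exact (hc' g).symm

end Ctx

section Small

variable {q : ℕ} {P : Subgroup X} {y : X}

theorem SchCtx.not_card_27 [Finite X] (h : SchCtx 3 q P y)
    (hcm : commutator ↥P = Subgroup.center ↥P) (hnc : ∃ a b : ↥P, a * b ≠ b * a)
    (hcard : Nat.card ↥P = 27) : False := by
  classical
  haveI : Fact (Nat.Prime 3) := ⟨Nat.prime_three⟩
  have hq := h.qprime
  haveI : Fact q.Prime := ⟨hq⟩
  haveI := h.normal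
  obtain ⟨k, hord⟩ := h.hord
  have hyq' : IsPGroup q (Subgroup.zpowers y) := by
    apply IsPGroup.of_card (n := k)
    rw [Nat.card_zpowers, hord]
  let f : ↥(Subgroup.zpowers y) →* MulAut ↥P :=
    (MulAut.conjNormal (H := P)).comp (Subgroup.zpowers y).subtype
  letI : MulAction ↥(Subgroup.zpowers y) ↥P := MulAction.compHom ↥P f
  have hsmul : ∀ (s : ↥(Subgroup.zpowers y)) (u : ↥P),
      ((s • u : ↥P) : X) = (s : X) * u * (s : X)⁻¹ := by
    intro s u
    rfl
  have hmod := hyq'.card_modEq_card_fixedPoints ↥P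
  have hfixed : ∀ u : ↥P, u ∈ MulAction.fixedPoints ↥(Subgroup.zpowers y) ↥P ↔
      u ∈ Subgroup.center ↥P := by
    intro u
    rw [MulAction.mem_fixedPoints]
    constructor
    · intro hu
      apply h.claim hcm hnc u
      have h1 : h.phi u = u := by
        apply Subtype.ext
        rw [SchCtx.phi_coe]
        have := congrArg Subtype.val (hu ⟨y, Subgroup.mem_zpowers y⟩)
        rw [hsmul] at this
        exact this
      rw [h1]
      exact Subgroup.mem_sup_left (Subgroup.mem_zpowers u)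
    · intro hu s
      apply Subtype.ext
      rw [hsmul]
      have h1 := h.center_fixed hnc u hu
      have h2 : y * (u : X) * y⁻¹ = u := by rw [← SchCtx.phi_coe h u, h1]
      have h3 : Commute y (u : X) := by
        show y * (u : X) = u * y
        calc y * (u : X) = (y * u * y⁻¹) * y := by group
          _ = u * y := by rw [h2]
      obtain ⟨i, hi⟩ := Subgroup.mem_zpowers_iff.mp s.2
      rw [← hi]
      have h4 : Commute (y ^ i) (u : X) := h3.zpow_left i
      calc y ^ i * (u : X) * (y ^ i)⁻¹ = (u * y ^ i) * (y ^ i)⁻¹ := by rw [h4.eq]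
        _ = u := by group
  have hcardfix : Nat.card (MulAction.fixedPoints ↥(Subgroup.zpowers y) ↥P) =
      Nat.card (Subgroup.center ↥P) :=
    Nat.card_congr (Equiv.subtypeEquivRight hfixed)
  rw [hcardfix, hcard] at hmod
  have hZdvd : Nat.card (Subgroup.center ↥P) ∣ 27 := by
    rw [← hcard]
    exact Subgroup.card_subgroup_dvd_card _
  have hP' : IsPGroup 3 ↥P := h.pgroup
  haveI : Nontrivial ↥P := by
    obtain ⟨a, b, hab⟩ := hnc
    exact ⟨⟨a * b, b * a, hab⟩⟩
  haveI := hP'.center_nontrivial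
  have hZ1 : Nat.card (Subgroup.center ↥P) ≠ 1 := by
    intro h1
    rw [Subgroup.card_eq_one] at h1
    exact (Subgroup.nontrivial_iff_ne_bot _).mp inferInstance h1
  have hZ27 : Nat.card (Subgroup.center ↥P) ≠ 27 := by
    intro h27
    have htop : Subgroup.center ↥P = ⊤ := Subgroup.eq_top_of_card_eq _ (by rw [h27, hcard])
    obtain ⟨a, b, hab⟩ := hnc
    apply hab
    have ha : a ∈ Subgroup.center ↥P := by
      rw [htop]
      trivial
    rw [Subgroup.mem_center_iff] at ha
    exact (ha b).symm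
  have hZ39 : Nat.card (Subgroup.center ↥P) = 3 ∨ Nat.card (Subgroup.center ↥P) = 9 := by
    have h27 : (27 : ℕ) = 3 ^ 3 := by norm_num
    rw [h27] at hZdvd
    obtain ⟨m, hm, hZm⟩ := (Nat.dvd_prime_pow Nat.prime_three).mp hZdvd
    interval_cases m
    · exact absurd hZm (by simpa using hZ1)
    · left
      simpa using hZm
    · right
      simpa using hZm
    · exact absurd hZm (by simpa using hZ27)
  have hq2 : q = 2 := by
    have hq3 : q ≠ 3 := h.hqp
    rcases hZ39 with hZ | hZ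
    · rw [hZ] at hmod
      have hd : q ∣ 27 - 3 := (Nat.modEq_iff_dvd' (by norm_num)).mp hmod.symm
      have hd' : q ∣ 2 ^ 3 * 3 := by
        norm_num at hd ⊢
        exact hd
      rcases (Nat.Prime.dvd_mul hq).mp hd' with h1 | h1
      · exact (Nat.prime_dvd_prime_iff_eq hq Nat.prime_two).mp (hq.dvd_of_dvd_pow h1)
      · exact absurd ((Nat.prime_dvd_prime_iff_eq hq Nat.prime_three).mp h1) hq3
    · rw [hZ] at hmod
      have hd : q ∣ 27 - 9 := (Nat.modEq_iff_dvd' (by norm_num)).mp hmod.symm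
      have hd' : q ∣ 2 * 3 ^ 2 := by
        norm_num at hd ⊢
        exact hd
      rcases (Nat.Prime.dvd_mul hq).mp hd' with h1 | h1
      · exact (Nat.prime_dvd_prime_iff_eq hq Nat.prime_two).mp h1
      · exact absurd
          ((Nat.prime_dvd_prime_iff_eq hq Nat.prime_three).mp (hq.dvd_of_dvd_pow h1)) hq3
  have hy2 : ∀ u ∈ P, y ^ 2 * u = u * y ^ 2 := by
    have := h.hyq
    rw [hq2] at this
    exact this
  have hφφ : ∀ g : ↥P, h.phi (h.phi g) = g := by
    intro g
    apply Subtype.ext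
    rw [SchCtx.phi_coe, SchCtx.phi_coe]
    have := hy2 g g.2
    calc y * (y * (g : X) * y⁻¹) * y⁻¹ = (y * y * g) * (y * y)⁻¹ := by group
      _ = (y ^ 2 * g) * (y ^ 2)⁻¹ := by rw [← pow_two]
      _ = (g * y ^ 2) * (y ^ 2)⁻¹ := by rw [this]
      _ = g := mul_inv_cancel_right _ _
  have hall : ∀ g : ↥P, g ∈ Subgroup.center ↥P := by
    intro g
    have hh : g * h.phi g ∈ Subgroup.center ↥P := by
      apply h.claim hcm hnc
      have e : h.phi (g * h.phi g) =
          (g * h.phi g) * ((h.phi g)⁻¹ * g⁻¹ * (h.phi g)⁻¹⁻¹ * g⁻¹⁻¹) := by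
        rw [map_mul, hφφ]
        group
      rw [e]
      refine Subgroup.mul_mem _ (Subgroup.mem_sup_left (Subgroup.mem_zpowers _))
        (Subgroup.mem_sup_right ?_)
      rw [← hcm]
      exact sch_comm_mem _ _
    apply h.claim hcm hnc
    have e : h.phi g = g⁻¹ * (g * h.phi g) := by group
    rw [e]
    exact Subgroup.mul_mem _
      (Subgroup.mem_sup_left (Subgroup.inv_mem _ (Subgroup.mem_zpowers g)))
      (Subgroup.mem_sup_right hh)
  obtain ⟨a, b, hab⟩ := hnc
  have ha := hall a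
  rw [Subgroup.mem_center_iff] at ha
  exact hab (ha b).symm

theorem SchCtx.cyclic_of_card_8 [Finite X] (h : SchCtx 2 q P y)
    (hcm : commutator ↥P = Subgroup.center ↥P) (hfr : frattini ↥P = Subgroup.center ↥P)
    (hnc : ∃ a b : ↥P, a * b ≠ b * a) (hcard : Nat.card ↥P = 8) (M : Subgroup ↥P)
    (hM : Nat.card M = 4) : IsCyclic M := by
  classical
  haveI : Fact (Nat.Prime 2) := ⟨Nat.prime_two⟩
  by_contra hncyc
  have hMsq : ∀ m ∈ M, m ^ 2 = 1 := by
    intro m hm
    have h1 : orderOf (⟨m, hm⟩ : ↥M) ∣ 4 := by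
      rw [← hM]
      exact orderOf_dvd_natCard _
    have h2 : orderOf (⟨m, hm⟩ : ↥M) ≠ 4 := by
      intro h4
      exact hncyc (isCyclic_of_orderOf_eq_card _ (by rw [h4, hM]))
    have h3 : orderOf (⟨m, hm⟩ : ↥M) ∣ 2 := by
      have h44 : (4 : ℕ) = 2 ^ 2 := by norm_num
      rw [h44] at h1
      obtain ⟨j, hj, hjj⟩ := (Nat.dvd_prime_pow Nat.prime_two).mp h1
      interval_cases j
      · rw [hjj]
        norm_num
      · rw [hjj]
        norm_num
      · exact absurd hjj (by simpa using h2)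
    have h4 := orderOf_dvd_iff_pow_eq_one.mp h3
    have := congrArg Subtype.val h4
    simpa using this
  have hsqcomm : ∀ a b : ↥P, a ^ 2 = 1 → b ^ 2 = 1 → (a * b) ^ 2 = 1 → a * b = b * a := by
    intro a b h1 h2 h3
    have ha' : a⁻¹ = a := by
      rw [inv_eq_iff_mul_eq_one, ← pow_two]
      exact h1
    have hb' : b⁻¹ = b := by
      rw [inv_eq_iff_mul_eq_one, ← pow_two]
      exact h2
    calc a * b = ((a * b) * (a * b)) * (b⁻¹ * a⁻¹) := by group
      _ = ((a * b) ^ 2) * (b⁻¹ * a⁻¹) := by rw [← pow_two]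
      _ = b⁻¹ * a⁻¹ := by rw [h3, one_mul]
      _ = b * a := by rw [ha', hb']
  have hMcomm : ∀ a ∈ M, ∀ b ∈ M, a * b = b * a := by
    intro a ha b hb
    exact hsqcomm a b (hMsq a ha) (hMsq b hb) (hMsq _ (M.mul_mem ha hb))
  obtain ⟨t, ht⟩ : ∃ t : ↥P, t ^ 2 ≠ 1 := by
    by_contra hall
    push Not at hall
    obtain ⟨a, b, hab⟩ := hnc
    exact hab (hsqcomm a b (hall a) (hall b) (hall _))
  have hidx : M.index = 2 := by
    have := Subgroup.card_mul_index M
    rw [hM, hcard] at this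
    omega
  have htM : t ∉ M := fun h' => ht (hMsq t h')
  have hcos : ∀ u : ↥P, u ∉ M → t⁻¹ * u ∈ M := by
    intro u hu
    rw [Subgroup.mul_mem_iff_of_index_two hidx]
    constructor
    · intro h'
      exact absurd (by simpa using M.inv_mem h') htM
    · intro h'
      exact absurd h' hu
  have hp2c : ∀ a : ↥P, a ^ 2 ∈ Subgroup.center ↥P := by
    intro a
    have h1 := Cfsg.Agent.Helper2.pow_mem_frattini_of_isPGroup (p := 2) h.pgroup a
    rw [hfr] at h1
    exact h1
  have hsq : (h.phi t) ^ 2 = t ^ 2 := by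
    rw [← map_pow]
    exact h.center_fixed hnc _ (hp2c t)
  have ht'M : h.phi t ∉ M := fun h' => ht (by rw [← hsq]; exact hMsq _ h')
  obtain ⟨m, hmdef⟩ : ∃ m : ↥P, m = t⁻¹ * h.phi t := ⟨_, rfl⟩
  have hm : m ∈ M := by
    rw [hmdef]
    exact hcos _ ht'M
  have hφt : h.phi t = t * m := by
    rw [hmdef]
    group
  have hm2 := hMsq m hm
  have hmt : m * t = t * m := by
    have h1 : (t * m) ^ 2 = t ^ 2 := by
      rw [← hφt]
      exact hsq
    have hminv : m⁻¹ = m := by
      rw [inv_eq_iff_mul_eq_one, ← pow_two]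
      exact hm2
    have h2 : m * t * m = t := by
      have h3 : t * (m * t * m) = t * t := by
        calc t * (m * t * m) = (t * m) ^ 2 := by rw [pow_two]; simp only [mul_assoc]
          _ = t ^ 2 := h1
          _ = t * t := pow_two t
      exact mul_left_cancel h3
    calc m * t = (m * t * m) * m⁻¹ := by group
      _ = t * m⁻¹ := by rw [h2]
      _ = t * m := by rw [hminv]
  have hmc : m ∈ Subgroup.center ↥P := by
    rw [Subgroup.mem_center_iff]
    intro u
    by_cases hu : u ∈ M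
    · exact hMcomm u hu m hm
    · have h2 := hMcomm (t⁻¹ * u) (hcos u hu) m hm
      calc u * m = t * ((t⁻¹ * u) * m) := by group
        _ = t * (m * (t⁻¹ * u)) := by rw [h2]
        _ = (t * m) * (t⁻¹ * u) := by group
        _ = (m * t) * (t⁻¹ * u) := by rw [hmt]
        _ = m * u := by group
  have htc : t ∈ Subgroup.center ↥P := by
    apply h.claim hcm hnc
    rw [hφt]
    exact Subgroup.mul_mem _ (Subgroup.mem_sup_left (Subgroup.mem_zpowers t))
      (Subgroup.mem_sup_right hmc)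
  rw [Subgroup.mem_center_iff] at htc
  have hMc : ∀ m' ∈ M, ∀ u : ↥P, m' * u = u * m' := by
    intro m' hm' u
    by_cases hu : u ∈ M
    · exact hMcomm m' hm' u hu
    · have h2 := hMcomm m' hm' (t⁻¹ * u) (hcos u hu)
      calc m' * u = (m' * t) * (t⁻¹ * u) := by group
        _ = (t * m') * (t⁻¹ * u) := by rw [htc m']
        _ = t * (m' * (t⁻¹ * u)) := by group
        _ = t * ((t⁻¹ * u) * m') := by rw [h2]
        _ = u * m' := by group
  obtain ⟨a, b, hab⟩ := hnc
  apply hab
  by_cases ha : a ∈ M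
  · exact hMc a ha b
  · have h2 := hMc (t⁻¹ * a) (hcos a ha) b
    calc a * b = t * ((t⁻¹ * a) * b) := by group
      _ = t * (b * (t⁻¹ * a)) := by rw [h2]
      _ = (t * b) * (t⁻¹ * a) := by group
      _ = (b * t) * (t⁻¹ * a) := by rw [htc b]
      _ = b * a := by group

end Small

/-- **The normal Sylow subgroup of a minimal non-nilpotent group has the Schmidt property.** -/
theorem schProp_of_schmidt [Finite X] (p : ℕ) [hp : Fact p.Prime]
    (hnil : ¬ Group.IsNilpotent X) (hsub : ∀ H : Subgroup X, H ≠ ⊤ → Group.IsNilpotent H)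
    (P : Sylow p X) (hPn : (P : Subgroup X).Normal) (hP1 : (P : Subgroup X) ≠ ⊥) :
    SchProp p ↥(P : Subgroup X) := by
  obtain ⟨q, y, k, hq, hqp, hord, -, hyC⟩ := sch_datum p hnil hsub P hPn hP1
  have h := sch_ctx p hsub (P : Subgroup X) hPn P.isPGroup' q y k hq hqp hord hyC
  by_cases hab : ∀ a b : ↥(P : Subgroup X), a * b = b * a
  · exact Or.inl hab
  rcases h.hstr with h' | ⟨hfr, hcm⟩
  · exact Or.inl h'
  have hnc : ∃ a b : ↥(P : Subgroup X), a * b ≠ b * a := by
    push Not at hab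
    exact hab
  right
  refine ⟨SchCtx.h2 hcm, ?_, ?_, h.ses hcm hnc, ?_⟩
  · intro a c
    have h1 := Cfsg.Agent.Helper2.pow_mem_frattini_of_isPGroup P.isPGroup' a
    rw [hfr, Subgroup.mem_center_iff] at h1
    exact (h1 c).symm
  · intro c hc
    rw [hcm, Subgroup.mem_center_iff]
    intro g
    exact (hc g).symm
  · intro hp3 hcard M hM
    have hpp := hp.out
    have hp23 : p = 2 ∨ p = 3 := by
      have := hpp.two_le
      interval_cases p
      · left; rfl
      · right; rfl
    rcases hp23 with h2 | h3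
    · subst h2
      exact h.cyclic_of_card_8 hcm hfr hnc (by simpa using hcard) M (by simpa using hM)
    · subst h3
      exact (h.not_card_27 hcm hnc (by simpa using hcard)).elim

end SchA

end Cfsg.Agent.Helper10
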