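import Mathlib
import Cfsg.Prelude.Def_Local
import Cfsg.Prelude.Def_CaseTheorems
import Cfsg.Agent.Helper10.SchP
import Cfsg.Agent.Helper11.QuadSL2
import Cfsg.Agent.Helper11.SL2Facts
import Cfsg.Agent.Helper32.HallHigman
import Cfsg.Agent.Helper63.HHPSol
import Cfsg.Agent.Helper22.Generation
import Cfsg.Agent.Helper35.Burnside
import Cfsg.Agent.Helper24.PLen
import Cfsg.Agent.Helper2.PGroup

set_option autoImplicit false

universe u

namespace Cfsg.Agent.Helper10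

open Cfsg

section SchC

variable {G : Type u} [Group G]

/-- If `N` is a normal `p`-subgroup and `x N ∈ O_p(G / N)` then `x ∈ O_p(G)`. -/
theorem sch_mem_pCore_of_mk {p : ℕ} [Fact p.Prime] (N : Subgroup G) [N.Normal]
    (hN : IsPGroup p N) (x : G)
    (hx : (QuotientGroup.mk x : G ⧸ N) ∈ pCore p (G ⧸ N)) : x ∈ pCore p G := by
  have hK : IsPGroup p (pCore p (G ⧸ N)) := Cfsg.Agent.Helper24.isPGroup_pCore p _
  have hM : IsPGroup p ((pCore p (G ⧸ N)).comap (QuotientGroup.mk' N)) := by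
    rintro ⟨m, hm⟩
    obtain ⟨k, hk⟩ := hK ⟨QuotientGroup.mk' N m, hm⟩
    have h1 : (QuotientGroup.mk' N m) ^ p ^ k = 1 := congrArg Subtype.val hk
    rw [← map_pow] at h1
    have h2 : m ^ p ^ k ∈ N := (QuotientGroup.eq_one_iff _).mp h1
    obtain ⟨j, hj⟩ := hN ⟨_, h2⟩
    have h3 : (m ^ p ^ k) ^ p ^ j = 1 := congrArg Subtype.val hj
    refine ⟨k + j, Subtype.ext ?_⟩
    show m ^ p ^ (k + j) = 1
    rw [pow_add, pow_mul]
    exact h3
  have hle := Cfsg.Agent.Helper24.le_pCore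
    (inferInstance : ((pCore p (G ⧸ N)).comap (QuotientGroup.mk' N)).Normal) hM
  exact hle hx

/-- The elements normalising `P` and acting trivially on `P` modulo `N`. -/
def schStab (P N : Subgroup G) : Subgroup G where
  carrier := {h | h ∈ Subgroup.normalizer (P : Set G) ∧ ∀ r ∈ P, h * r * h⁻¹ * r⁻¹ ∈ N}
  one_mem' := ⟨Subgroup.one_mem _, fun r _ => by
    have : (1 : G) * r * 1⁻¹ * r⁻¹ = 1 := by group
    rw [this]
    exact N.one_mem⟩
  mul_mem' := by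
    rintro h k ⟨hh, hh'⟩ ⟨hk, hk'⟩
    refine ⟨Subgroup.mul_mem _ hh hk, fun r hr => ?_⟩
    have hr' : k * r * k⁻¹ ∈ P := (Subgroup.mem_normalizer_iff.mp hk r).mp hr
    have e : h * k * r * (h * k)⁻¹ * r⁻¹ =
        (h * (k * r * k⁻¹) * h⁻¹ * (k * r * k⁻¹)⁻¹) * (k * r * k⁻¹ * r⁻¹) := by group
    rw [e]
    exact N.mul_mem (hh' _ hr') (hk' r hr)
  inv_mem' := by
    rintro h ⟨hh, hh'⟩
    refine ⟨Subgroup.inv_mem _ hh, fun r hr => ?_⟩
    have hr' : h⁻¹ * r * h ∈ P := by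
      have := (Subgroup.mem_normalizer_iff.mp (Subgroup.inv_mem _ hh) r).mp hr
      simpa using this
    have e : h⁻¹ * r * h⁻¹⁻¹ * r⁻¹ = (h * (h⁻¹ * r * h) * h⁻¹ * (h⁻¹ * r * h)⁻¹)⁻¹ := by group
    rw [e]
    exact N.inv_mem (hh' _ hr')

theorem mem_schStab (P N : Subgroup G) (h : G) :
    h ∈ schStab P N ↔ h ∈ Subgroup.normalizer (P : Set G) ∧ ∀ r ∈ P, h * r * h⁻¹ * r⁻¹ ∈ N :=
  Iff.rfl

theorem schStab_conj (P N : Subgroup G) (g h : G) (hg : g ∈ Subgroup.normalizer (P : Set G))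
    (hgN : ∀ n ∈ N, g * n * g⁻¹ ∈ N) (hh : h ∈ schStab P N) : g * h * g⁻¹ ∈ schStab P N := by
  rw [mem_schStab] at hh ⊢
  refine ⟨Subgroup.mul_mem _ (Subgroup.mul_mem _ hg hh.1) (Subgroup.inv_mem _ hg), fun r hr => ?_⟩
  have hr' : g⁻¹ * r * g ∈ P := by
    have := (Subgroup.mem_normalizer_iff.mp (Subgroup.inv_mem _ hg) r).mp hr
    simpa using this
  have e : g * h * g⁻¹ * r * (g * h * g⁻¹)⁻¹ * r⁻¹ =
      g * (h * (g⁻¹ * r * g) * h⁻¹ * (g⁻¹ * r * g)⁻¹) * g⁻¹ := by group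
  rw [e]
  exact hgN _ (hh.2 _ hr')

/-- Two elements normalising a cyclic subgroup: their commutator centralises it. -/
theorem sch_comm_centralizes_cyclic (P : Subgroup G) (hc : IsCyclic ↥P) (g h : G)
    (hg : g ∈ Subgroup.normalizer (P : Set G)) (hh : h ∈ Subgroup.normalizer (P : Set G)) :
    ∀ r ∈ P, (g * h * g⁻¹ * h⁻¹) * r = r * (g * h * g⁻¹ * h⁻¹) := by
  obtain ⟨⟨r₁, hr₁P⟩, hgen⟩ := hc.exists_generator
  have hpw : ∀ k ∈ Subgroup.normalizer (P : Set G), ∃ n : ℤ, k * r₁ * k⁻¹ = r₁ ^ n := by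
    intro k hk
    have h1 : k * r₁ * k⁻¹ ∈ P := (Subgroup.mem_normalizer_iff.mp hk r₁).mp hr₁P
    obtain ⟨n, hn⟩ := Subgroup.mem_zpowers_iff.mp (hgen ⟨_, h1⟩)
    refine ⟨n, ?_⟩
    have := congrArg Subtype.val hn
    simpa using this.symm
  have key : ∀ g h : G, g ∈ Subgroup.normalizer (P : Set G) →
      h ∈ Subgroup.normalizer (P : Set G) →
      (g⁻¹ * h⁻¹ * g * h) * r₁ = r₁ * (g⁻¹ * h⁻¹ * g * h) := by
    intro g h hg hh
    obtain ⟨a, ha⟩ := hpw g hg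
    obtain ⟨b, hb⟩ := hpw h hh
    have e1 : g * h * r₁ * h⁻¹ * g⁻¹ = r₁ ^ (a * b) := by
      calc g * h * r₁ * h⁻¹ * g⁻¹ = g * (h * r₁ * h⁻¹) * g⁻¹ := by group
        _ = g * r₁ ^ b * g⁻¹ := by rw [hb]
        _ = (g * r₁ * g⁻¹) ^ b := by rw [conj_zpow]
        _ = (r₁ ^ a) ^ b := by rw [ha]
        _ = r₁ ^ (a * b) := by rw [← zpow_mul]
    have e2 : h * g * r₁ * g⁻¹ * h⁻¹ = r₁ ^ (a * b) := by
      calc h * g * r₁ * g⁻¹ * h⁻¹ = h * (g * r₁ * g⁻¹) * h⁻¹ := by group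
        _ = h * r₁ ^ a * h⁻¹ := by rw [ha]
        _ = (h * r₁ * h⁻¹) ^ a := by rw [conj_zpow]
        _ = (r₁ ^ b) ^ a := by rw [hb]
        _ = r₁ ^ (a * b) := by rw [← zpow_mul, mul_comm]
    have e3 : g * h * r₁ * h⁻¹ * g⁻¹ = h * g * r₁ * g⁻¹ * h⁻¹ := e1.trans e2.symm
    have e4 : g⁻¹ * h⁻¹ * g * h * r₁ = g⁻¹ * h⁻¹ * (g * h * r₁ * h⁻¹ * g⁻¹) * (g * h) := by group
    rw [e4, e3]
    group
  have key' := key g⁻¹ h⁻¹ (Subgroup.inv_mem _ hg) (Subgroup.inv_mem _ hh)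
  rw [inv_inv, inv_inv] at key'
  intro r hr
  obtain ⟨n, hn⟩ := Subgroup.mem_zpowers_iff.mp (hgen ⟨r, hr⟩)
  have hr' : r = r₁ ^ n := by
    have := congrArg Subtype.val hn
    simpa using this.symm
  rw [hr']
  have hcm : Commute (g * h * g⁻¹ * h⁻¹) r₁ := key'
  exact (hcm.zpow_right n)

/-- **Main step.**  In a `p`-solvable group with `O_{p'}(G) = 1` whose Sylow `p`-subgroup has the
Schmidt property, the Sylow `p`-subgroup is `O_p(G)`. -/
theorem sch_sylow_le_pCore [Finite G] {p : ℕ} [hp : Fact p.Prime]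
    (hG : IsPSolvable p G) (hred : pPrimeCore p G = ⊥) (Q : Sylow p G)
    (hS : SchProp p ↥(Q : Subgroup G)) : (Q : Subgroup G) ≤ pCore p G := by
  classical
  have hpp : p.Prime := hp.out
  have hRn : (pCore p G).Normal := inferInstance
  have hRp : IsPGroup p (pCore p G) := Cfsg.Agent.Helper24.isPGroup_pCore p G
  have hCR : Subgroup.centralizer (pCore p G : Set G) ≤ pCore p G :=
    Cfsg.Agent.Helper32.centralizer_pCore_le_of_isPSolvable hG hred
  have hRQ : pCore p G ≤ (Q : Subgroup G) :=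
    Cfsg.Agent.Helper24.normal_isPGroup_le_sylow hRn hRp Q
  have hZR : ∀ c ∈ (Q : Subgroup G), (∀ g ∈ (Q : Subgroup G), c * g = g * c) →
      c ∈ pCore p G := by
    intro c hc hcc
    apply hCR
    rw [Subgroup.mem_centralizer_iff]
    intro r hr
    exact (hcc r (hRQ hr)).symm
  by_cases hab : ∀ a b : ↥(Q : Subgroup G), a * b = b * a
  · intro c hc
    apply hZR c hc
    intro g hg
    exact congrArg Subtype.val (hab ⟨c, hc⟩ ⟨g, hg⟩)
  rcases hS with h | ⟨h2, hpow, hZ, hses, h3⟩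
  · exact absurd h hab
  have h2G' : ∀ a ∈ (Q : Subgroup G), ∀ b ∈ (Q : Subgroup G), ∀ g ∈ (Q : Subgroup G),
      a * b * a⁻¹ * b⁻¹ * g = g * (a * b * a⁻¹ * b⁻¹) := by
    intro a ha b hb g hg
    exact congrArg Subtype.val (h2 ⟨a, ha⟩ ⟨b, hb⟩ ⟨g, hg⟩)
  have h2G : ∀ a ∈ (Q : Subgroup G), ∀ b ∈ (Q : Subgroup G),
      a * b * a⁻¹ * b⁻¹ ∈ pCore p G := by
    intro a ha b hb
    apply hZR _ (mul_mem (mul_mem (mul_mem ha hb) (inv_mem ha)) (inv_mem hb))
    intro g hg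
    exact h2G' a ha b hb g hg
  have hpowG : ∀ a ∈ (Q : Subgroup G), a ^ p ∈ pCore p G := by
    intro a ha
    apply hZR _ (pow_mem ha p)
    intro g hg
    exact congrArg Subtype.val (hpow ⟨a, ha⟩ ⟨g, hg⟩)
  intro x₀ hx₀
  by_contra hx₀R
  by_cases hp5 : 5 ≤ p
  · -- `p`-stability for `p ≥ 5`
    have hp2 : p ≠ 2 := by omega
    apply Cfsg.Agent.Helper11.not_isSectionOf_sl2_of_isPSolvable hp5 hG
    apply Cfsg.Agent.Helper11.sl2_section_of_quadratic hp2 (pCore p G) hRp x₀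
    · rw [Subgroup.commutator_eq_bot_iff_le_centralizer, Subgroup.commutator_le]
      intro r hr z hz
      rw [Subgroup.mem_centralizer_iff]
      intro w hw
      have hzQ : z ∈ (Q : Subgroup G) := (Subgroup.zpowers_le.mpr hx₀) hz
      have hwQ : w ∈ (Q : Subgroup G) := (Subgroup.zpowers_le.mpr hx₀) hw
      rw [commutatorElement_def]
      exact (h2G' r (hRQ hr) z hzQ w hwQ).symm
    · intro hmem
      exact hx₀R (sch_mem_pCore_of_mk _ (hRp.to_le hCR) x₀ hmem)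
  have hp3 : p ≤ 3 := by
    have h4 : p ≠ 4 := by
      intro h4
      rw [h4] at hpp
      exact absurd hpp (by norm_num)
    omega
  -- the quotient by `R = O_p(G)`
  obtain ⟨π, hπ⟩ : ∃ π : G →* G ⧸ pCore p G, π = QuotientGroup.mk' (pCore p G) := ⟨_, rfl⟩
  have hπs : Function.Surjective π := by
    rw [hπ]
    exact QuotientGroup.mk'_surjective _
  have hπker : ∀ g : G, π g = 1 ↔ g ∈ pCore p G := by
    intro g
    rw [hπ]
    exact QuotientGroup.eq_one_iff g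
  have hOp : pCore p (G ⧸ pCore p G) = ⊥ :=
    Cfsg.Agent.Helper63.HHP.pCore_quotient_pCore_eq_bot p
  have hHsol : IsPSolvable p (G ⧸ pCore p G) :=
    Cfsg.Agent.Helper32.isPSolvable_quotient hpp hG _
  have hdual := Cfsg.Agent.Helper63.HHP.centralizer_pPrimeCore_le hHsol hOp
  have hLcop : (Nat.card (pPrimeCore p (G ⧸ pCore p G))).Coprime p :=
    Cfsg.Agent.Helper24.coprime_card_pPrimeCore p
  obtain ⟨L, hL⟩ : ∃ L : Subgroup (G ⧸ pCore p G), L = pPrimeCore p (G ⧸ pCore p G) :=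
    ⟨_, rfl⟩
  rw [← hL] at hdual hLcop
  have hLn : L.Normal := by
    rw [hL]
    infer_instance
  obtain ⟨A, hA⟩ : ∃ A : Subgroup (G ⧸ pCore p G), A = (Q : Subgroup G).map π := ⟨_, rfl⟩
  have hAcomm : ∀ a ∈ A, ∀ b ∈ A, a * b = b * a := by
    rw [hA]
    rintro _ ⟨a, ha, rfl⟩ _ ⟨b, hb, rfl⟩
    have h1 : π (a * b * a⁻¹ * b⁻¹) = 1 := (hπker _).mpr (h2G a ha b hb)
    have h1' : π a * π b * (π a)⁻¹ * (π b)⁻¹ = 1 := by
      rw [← h1, map_mul, map_mul, map_mul, map_inv, map_inv]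
    calc π a * π b = (π a * π b * (π a)⁻¹ * (π b)⁻¹) * (π b * π a) := by group
      _ = π b * π a := by rw [h1', one_mul]
  have hAE : Cfsg.IsElementaryAbelian p A := by
    refine ⟨⟨⟨fun a b => Subtype.ext (hAcomm a a.2 b b.2)⟩⟩, ?_⟩
    rw [hA]
    rintro _ ⟨a, ha, rfl⟩
    rw [← map_pow]
    exact (hπker _).mpr (hpowG a ha)
  have hnotL : ¬ L ≤ Subgroup.centralizer (A : Set (G ⧸ pCore p G)) := by
    intro hLA
    have h1 : π x₀ ∈ L := by
      apply hdual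
      rw [Subgroup.mem_centralizer_iff]
      intro l hl
      have := hLA hl
      rw [Subgroup.mem_centralizer_iff] at this
      exact (this (π x₀) (by rw [hA]; exact ⟨x₀, hx₀, rfl⟩)).symm
    obtain ⟨k, hk⟩ := Q.isPGroup' ⟨x₀, hx₀⟩
    have hk' : x₀ ^ p ^ k = 1 := congrArg Subtype.val hk
    have h2' : (π x₀) ^ p ^ k = 1 := by rw [← map_pow, hk', map_one]
    have h3' : (π x₀) ^ Nat.card L = 1 := by
      have := pow_card_eq_one' (G := ↥L) (x := ⟨π x₀, h1⟩)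
      exact congrArg Subtype.val this
    have h4 : π x₀ = 1 := by
      have hco : (p ^ k).Coprime (Nat.card L) := Nat.Coprime.pow_left k hLcop.symm
      have := (pow_gcd_eq_one (a := π x₀)).mpr ⟨h2', h3'⟩
      rw [Nat.Coprime.gcd_eq_one hco, pow_one] at this
      exact this
    exact hx₀R ((hπker _).mp h4)
  have hex : ∃ B : Subgroup (G ⧸ pCore p G), B ≤ A ∧ B.relIndex A ≤ p ∧
      ¬ L ⊓ Subgroup.centralizer (B : Set (G ⧸ pCore p G)) ≤
        Subgroup.centralizer (A : Set (G ⧸ pCore p G)) := by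
    by_contra hcon
    push Not at hcon
    apply hnotL
    apply Cfsg.Agent.Helper22.le_of_hyperplane_centralizers_le p A L hAE ?_ ?_ _ hcon
    · intro hdvd
      exact (Nat.Prime.coprime_iff_not_dvd hpp).mp hLcop.symm hdvd
    · rw [Subgroup.normalizer_eq_top_iff.mpr hLn]
      exact le_top
  obtain ⟨B, hBA, hBidx, hBnot⟩ := hex
  obtain ⟨ybar, hyb, hyb'⟩ := SetLike.not_le_iff_exists.mp hBnot
  have hybL : ybar ∈ L := hyb.1
  have hybB : ∀ b ∈ B, b * ybar = ybar * b := Subgroup.mem_centralizer_iff.mp hyb.2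
  rw [Subgroup.mem_centralizer_iff] at hyb'
  push Not at hyb'
  obtain ⟨abar, habA, hne⟩ := hyb'
  rw [hA] at habA
  obtain ⟨x, hxQ, rfl⟩ := habA
  obtain ⟨y, rfl⟩ := hπs ybar
  -- the subgroup `R₃`
  obtain ⟨R₃, hR₃⟩ : ∃ R₃ : Subgroup G, R₃ = B.comap π := ⟨_, rfl⟩
  have hR₃mem : ∀ g : G, g ∈ R₃ ↔ π g ∈ B := by
    intro g
    rw [hR₃]
    exact Subgroup.mem_comap
  have hRR₃ : pCore p G ≤ R₃ := by
    intro r hr
    rw [hR₃mem, (hπker r).mpr hr]
    exact B.one_mem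
  have hR₃Q : R₃ ≤ (Q : Subgroup G) := by
    intro g hg
    rw [hR₃mem] at hg
    have := hBA hg
    rw [hA] at this
    obtain ⟨q, hq, hqg⟩ := this
    have h1 : π (q⁻¹ * g) = 1 := by rw [map_mul, map_inv, hqg, inv_mul_cancel]
    have h2' : q⁻¹ * g ∈ (Q : Subgroup G) := hRQ ((hπker _).mp h1)
    have : g = q * (q⁻¹ * g) := by group
    rw [this]
    exact mul_mem hq h2'
  have hxR₃ : x ∉ R₃ := by
    intro h
    rw [hR₃mem] at h
    exact hne (hybB _ h)
  have hR₃p : IsPGroup p R₃ := Q.isPGroup'.to_le hR₃Q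
  have hnorm : ∀ z : G, (∀ b ∈ B, b * π z = π z * b) →
      z ∈ Subgroup.normalizer (R₃ : Set G) := by
    intro z hz
    rw [Subgroup.mem_normalizer_iff]
    intro h
    rw [hR₃mem, hR₃mem, map_mul, map_mul, map_inv]
    constructor
    · intro hh
      have := hz _ hh
      have e : π z * π h * (π z)⁻¹ = π h := by rw [← this]; group
      rw [e]
      exact hh
    · intro hh
      have := hz _ hh
      have e' : π z * π h * (π z)⁻¹ * π z = π z * π h := by group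
      rw [e'] at this
      have e : π h = π z * π h * (π z)⁻¹ := mul_left_cancel this
      rw [e]
      exact hh
  have hyN : y ∈ Subgroup.normalizer (R₃ : Set G) := hnorm y hybB
  have hxN : x ∈ Subgroup.normalizer (R₃ : Set G) := by
    apply hnorm x
    intro b hb
    exact hAcomm b (hBA hb) (π x) (by rw [hA]; exact ⟨x, hxQ, rfl⟩)
  -- the index-`p` lemma in `Q`
  obtain ⟨M, hM⟩ : ∃ M : Subgroup ↥(Q : Subgroup G), M = R₃.subgroupOf (Q : Subgroup G) :=
    ⟨_, rfl⟩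
  have hMmem : ∀ u : ↥(Q : Subgroup G), u ∈ M ↔ (u : G) ∈ R₃ := by
    intro u
    rw [hM]
    exact Subgroup.mem_subgroupOf
  have hZM : ∀ c : ↥(Q : Subgroup G), (∀ g : ↥(Q : Subgroup G), c * g = g * c) → c ∈ M := by
    intro c hc
    rw [hMmem]
    apply hRR₃
    apply hZR _ c.2
    intro g hg
    exact congrArg Subtype.val (hc ⟨g, hg⟩)
  have hMidx : M.index ≤ p := by
    have h1 : M = B.comap (π.comp (Q : Subgroup G).subtype) := by
      ext u
      rw [hMmem, hR₃mem]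
      rfl
    have h2' : (π.comp (Q : Subgroup G).subtype).range = A := by
      rw [hA]
      ext z
      constructor
      · rintro ⟨u, rfl⟩
        exact ⟨u, u.2, rfl⟩
      · rintro ⟨q, hq, rfl⟩
        exact ⟨⟨q, hq⟩, rfl⟩
    rw [h1, Subgroup.index_comap, h2']
    exact hBidx
  have hMx : M ⊔ Subgroup.zpowers (⟨x, hxQ⟩ : ↥(Q : Subgroup G)) = ⊤ := by
    by_contra hne'
    have hle : M ≤ M ⊔ Subgroup.zpowers (⟨x, hxQ⟩ : ↥(Q : Subgroup G)) := le_sup_left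
    have h1 : (M ⊔ Subgroup.zpowers (⟨x, hxQ⟩ : ↥(Q : Subgroup G))).index ≠ 1 := by
      rw [Ne, Subgroup.index_eq_one]
      exact hne'
    have h2' := Subgroup.relIndex_mul_index hle
    obtain ⟨n, hn⟩ := (IsPGroup.iff_card).mp Q.isPGroup'
    have h3' : (M ⊔ Subgroup.zpowers (⟨x, hxQ⟩ : ↥(Q : Subgroup G))).index ∣ p ^ n := by
      rw [← hn]
      exact Subgroup.index_dvd_card _
    obtain ⟨j, _, hj⟩ := (Nat.dvd_prime_pow hpp).mp h3'
    have hj1 : j ≠ 0 := by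
      intro h0
      rw [h0, pow_zero] at hj
      exact h1 hj
    have hpj : p ≤ (M ⊔ Subgroup.zpowers (⟨x, hxQ⟩ : ↥(Q : Subgroup G))).index := by
      rw [hj]
      exact Nat.le_self_pow hj1 p
    have hrel : M.relIndex (M ⊔ Subgroup.zpowers (⟨x, hxQ⟩ : ↥(Q : Subgroup G))) = 1 := by
      by_contra hr1
      have hr0 : M.relIndex (M ⊔ Subgroup.zpowers (⟨x, hxQ⟩ : ↥(Q : Subgroup G))) ≠ 0 := by
        intro h0
        rw [h0, zero_mul] at h2'
        have := Subgroup.index_ne_zero_of_finite (H := M)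
        exact this h2'.symm
      have hr2 : 2 ≤ M.relIndex (M ⊔ Subgroup.zpowers (⟨x, hxQ⟩ : ↥(Q : Subgroup G))) := by
        omega
      have : 2 * p ≤ M.index := by
        rw [← h2']
        exact Nat.mul_le_mul hr2 hpj
      have hp0 := hpp.pos
      omega
    rw [Subgroup.relIndex_eq_one] at hrel
    have hxM : (⟨x, hxQ⟩ : ↥(Q : Subgroup G)) ∈ M :=
      hrel (Subgroup.mem_sup_right (Subgroup.mem_zpowers _))
    rw [hMmem] at hxM
    exact hxR₃ hxM
  have hQnc : ∃ a b : ↥(Q : Subgroup G), a * b ≠ b * a := by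
    push Not at hab
    exact hab
  -- it suffices to show that `[y, x]` lies in `R`
  suffices hsuff : π (y * x * y⁻¹ * x⁻¹) = 1 by
    apply hne
    rw [map_mul, map_mul, map_mul, map_inv, map_inv] at hsuff
    calc π x * π y = (π y * π x * (π y)⁻¹ * (π x)⁻¹)⁻¹ * (π y * π x) := by group
      _ = π y * π x := by rw [hsuff, inv_one, one_mul]
  rcases sch_index_p Q.isPGroup' hQnc h2 hpow hZ hses M hZM ⟨x, hxQ⟩ hMx with hα | ⟨hc3, hc2⟩
  · -- `[R₃, R₃] = Q'`: Burnside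
    obtain ⟨Φ, hΦ⟩ : ∃ Φ : Subgroup G, Φ = (frattini ↥R₃).map R₃.subtype := ⟨_, rfl⟩
    have hNΦ : Subgroup.normalizer (R₃ : Set G) ≤ Subgroup.normalizer (Φ : Set G) := by
      rw [hΦ]
      exact Cfsg.Agent.Helper47.normalizer_le_normalizer_map_of_characteristic R₃ (frattini ↥R₃)
    have hcommΦ : ⁅R₃, R₃⁆ ≤ Φ := by
      rw [hΦ, ← Subgroup.map_subtype_commutator]
      exact Subgroup.map_mono (Cfsg.Agent.Helper2.commutator_le_frattini_of_isPGroup hR₃p)
    have hMmap : M.map (Q : Subgroup G).subtype = R₃ := by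
      rw [hM]
      exact Subgroup.map_subgroupOf_eq_of_le hR₃Q
    have hxS : x ∈ schStab R₃ Φ := by
      rw [mem_schStab]
      refine ⟨hxN, fun r hr => ?_⟩
      apply hcommΦ
      have h1 := hα ⟨x, hxQ⟩ ⟨r, hR₃Q hr⟩
      have h2' : (Q : Subgroup G).subtype
          ((⟨x, hxQ⟩ : ↥(Q : Subgroup G)) * ⟨r, hR₃Q hr⟩ * (⟨x, hxQ⟩ : ↥(Q : Subgroup G))⁻¹ *
            (⟨r, hR₃Q hr⟩ : ↥(Q : Subgroup G))⁻¹) ∈ (⁅M, M⁆).map (Q : Subgroup G).subtype :=
        Subgroup.mem_map_of_mem _ h1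
      rw [Subgroup.map_commutator, hMmap] at h2'
      exact h2'
    have hyxS : y * x * y⁻¹ ∈ schStab R₃ Φ :=
      schStab_conj R₃ Φ y x hyN
        (fun n hn => (Subgroup.mem_normalizer_iff.mp (hNΦ hyN) n).mp hn) hxS
    have hcS : y * x * y⁻¹ * x⁻¹ ∈ schStab R₃ Φ :=
      (schStab R₃ Φ).mul_mem hyxS ((schStab R₃ Φ).inv_mem hxS)
    have hπcL : π (y * x * y⁻¹ * x⁻¹) ∈ L := by
      rw [map_mul, map_mul, map_mul, map_inv, map_inv]
      have e : π y * π x * (π y)⁻¹ * (π x)⁻¹ = π y * (π x * (π y)⁻¹ * (π x)⁻¹) := by group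
      rw [e]
      exact L.mul_mem hybL (hLn.conj_mem _ (L.inv_mem hybL) _)
    obtain ⟨c, hc⟩ : ∃ c : G, c = y * x * y⁻¹ * x⁻¹ := ⟨_, rfl⟩
    rw [← hc] at hcS hπcL ⊢
    obtain ⟨a, m, hm, hord⟩ :=
      Nat.exists_eq_pow_mul_and_not_dvd (orderOf_pos c).ne' p hpp.ne_one
    have hh : (orderOf (c ^ p ^ a)).Coprime p := by
      have h1 : orderOf (c ^ p ^ a) = m := by
        rw [orderOf_pow_of_dvd (pow_ne_zero _ hpp.ne_zero)
          (by rw [hord]; exact dvd_mul_right _ _), hord,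
          Nat.mul_div_cancel_left _ (pow_pos hpp.pos a)]
      rw [h1]
      exact ((Nat.Prime.coprime_iff_not_dvd hpp).mpr hm).symm
    have hhS : c ^ p ^ a ∈ schStab R₃ Φ := (schStab R₃ Φ).pow_mem hcS _
    rw [mem_schStab] at hhS
    have hcentr := Cfsg.Agent.Helper35.centralizes_of_coprime_of_frattini hR₃p hhS.1 hh
      (by rw [← hΦ]; exact hhS.2)
    have hhR : c ^ p ^ a ∈ pCore p G := by
      apply hCR
      rw [Subgroup.mem_centralizer_iff]
      intro r hr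
      exact (hcentr r (hRR₃ hr)).symm
    have h1 : (π c) ^ p ^ a = 1 := by
      rw [← map_pow]
      exact (hπker _).mpr hhR
    have h2' : (π c) ^ Nat.card L = 1 := by
      have := pow_card_eq_one' (G := ↥L) (x := ⟨π c, hπcL⟩)
      exact congrArg Subtype.val this
    have hco : (p ^ a).Coprime (Nat.card L) := Nat.Coprime.pow_left a hLcop.symm
    have := (pow_gcd_eq_one (a := π c)).mpr ⟨h1, h2'⟩
    rw [Nat.Coprime.gcd_eq_one hco, pow_one] at this
    exact this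
  · -- `|Q| = p ^ 3`, `|R₃| = p ^ 2`: `R₃` is cyclic
    have hcyc : IsCyclic ↥M := h3 hp3 hc3 M hc2
    have hcyc' : IsCyclic ↥R₃ := by
      let f : ↥M →* ↥R₃ :=
        ((Q : Subgroup G).subtype.comp M.subtype).codRestrict R₃ (fun u => (hMmem u.1).mp u.2)
      have hf : Function.Surjective f := by
        rintro ⟨r, hr⟩
        exact ⟨⟨⟨r, hR₃Q hr⟩, (hMmem _).mpr hr⟩, rfl⟩
      exact isCyclic_of_surjective f hf
    have hcent := sch_comm_centralizes_cyclic R₃ hcyc' y x hyN hxN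
    have hcR : y * x * y⁻¹ * x⁻¹ ∈ pCore p G := by
      apply hCR
      rw [Subgroup.mem_centralizer_iff]
      intro r hr
      exact (hcent r (hRR₃ hr)).symm
    exact (hπker _).mpr hcR

end SchC

end Cfsg.Agent.Helper10
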