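import Mathlib
import Cfsg.Agent.Helper52.O7920Defs
import Cfsg.Agent.Helper52.O7920Defs2

set_option autoImplicit false
set_option linter.style.haveILetI false

/-!
# CALL S0434, piece C2d (helper10)

In the configuration of CALL S0434 (case C): an involution `z` whose centraliser contains `N(D)`
and `N(R)` has centraliser of order `144`.
-/

namespace Cfsg.Agent.Helper10

open Cfsg.Agent.Helper52

variable {G : Type*} [Group G] [Finite G]

theorem o7920_C_card_z {R : Sylow 3 G} {D : Subgroup G} {j : G} (c : O7920Conf2 G R D j)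
    (h72 : Nat.card ↥(Subgroup.centralizer (D : Set G)) = 72) (z : G) (hz : orderOf z = 2)
    (hND : Subgroup.normalizer (D : Set G) ≤ Subgroup.centralizer ({z} : Set G))
    (hNR : Subgroup.normalizer ((R : Subgroup G) : Set G) ≤ Subgroup.centralizer ({z} : Set G)) :
    Nat.card ↥(Subgroup.centralizer ({z} : Set G)) = 144 := by
  haveI : Fact (Nat.Prime 3) := ⟨by norm_num⟩
  have hcard := c.conf.hyp.card
  have hNDc : Nat.card ↥(Subgroup.normalizer (D : Set G)) = 144 := by
    rw [c.conf.nD, h72]
  have h144 : 144 ∣ Nat.card ↥(Subgroup.centralizer ({z} : Set G)) := by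
    have := Subgroup.card_dvd_of_le hND
    rwa [hNDc] at this
  have hdvd : Nat.card ↥(Subgroup.centralizer ({z} : Set G)) ∣ 7920 := by
    have := Subgroup.card_subgroup_dvd_card (Subgroup.centralizer ({z} : Set G))
    rwa [hcard] at this
  have hz1 : z ≠ 1 := by
    rintro rfl
    rw [orderOf_one] at hz
    norm_num at hz
  have h11 : ¬ 11 ∣ Nat.card ↥(Subgroup.centralizer ({z} : Set G)) :=
    c.l11 z hz1 (by rw [hz]; norm_num)
  obtain ⟨k, hk⟩ := h144
  have hk55 : k ∣ 55 := by
    rw [hk] at hdvd
    have e : (7920 : ℕ) = 144 * 55 := by norm_num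
    rw [e] at hdvd
    exact (Nat.mul_dvd_mul_iff_left (by norm_num)).mp hdvd
  have hk11 : ¬ 11 ∣ k := fun h => h11 (hk ▸ Dvd.dvd.mul_left h 144)
  have hkcases : k = 1 ∨ k = 5 := by
    have hle := Nat.le_of_dvd (by norm_num) hk55
    have hpos : 0 < k := Nat.pos_of_dvd_of_pos hk55 (by norm_num)
    interval_cases k <;> omega
  rcases hkcases with rfl | rfl
  · rw [hk]
  · exfalso
    have hC720 : Nat.card ↥(Subgroup.centralizer ({z} : Set G)) = 720 := by rw [hk]
    have hRle : (R : Subgroup G) ≤ Subgroup.centralizer ({z} : Set G) :=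
      Subgroup.le_normalizer.trans hNR
    have hmod := card_sylow_modEq_one 3 ↥(Subgroup.centralizer ({z} : Set G))
    have hidx := Sylow.card_eq_index_normalizer (R.subtype hRle)
    have hnorm : Nat.card ↥(Subgroup.normalizer
        (((R.subtype hRle : Sylow 3 ↥(Subgroup.centralizer ({z} : Set G))) :
          Subgroup ↥(Subgroup.centralizer ({z} : Set G))) :
          Set ↥(Subgroup.centralizer ({z} : Set G)))) = 36 := by
      rw [Sylow.coe_subtype, ← Subgroup.subgroupOf_normalizer_eq hRle,
        Nat.card_congr (Subgroup.subgroupOfEquivOfLe hNR).toEquiv]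
      exact c.conf.hyp.n3 R
    have hmul := Subgroup.card_mul_index (Subgroup.normalizer
        (((R.subtype hRle : Sylow 3 ↥(Subgroup.centralizer ({z} : Set G))) :
          Subgroup ↥(Subgroup.centralizer ({z} : Set G))) :
          Set ↥(Subgroup.centralizer ({z} : Set G))))
    rw [hnorm, hC720] at hmul
    have h20' : (Subgroup.normalizer
        (((R.subtype hRle : Sylow 3 ↥(Subgroup.centralizer ({z} : Set G))) :
          Subgroup ↥(Subgroup.centralizer ({z} : Set G))) :
          Set ↥(Subgroup.centralizer ({z} : Set G)))).index = 20 := by omega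
    have h20 : Nat.card (Sylow 3 ↥(Subgroup.centralizer ({z} : Set G))) = 20 :=
      hidx.trans h20'
    rw [h20] at hmod
    exact absurd hmod (by decide)

end Cfsg.Agent.Helper10
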