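import Mathlib
import Cfsg.Agent.Helper9.OrdTools
import Cfsg.Agent.Helper52.O7920Defs

set_option autoImplicit false
set_option linter.style.haveILetI false

/-!
# CALL S0434, piece J1 (helper10)

In a simple group of order `7920` whose Sylow `3`-normalisers have order `36`: the normaliser of
a Sylow `3`-subgroup `R` contains a subgroup `T` of order `4` with `C_R(T) = 1`.
-/

namespace Cfsg.Agent.Helper10

open Cfsg.Agent.Helper52

variable {G : Type*} [Group G] [Finite G]

theorem o7920_syl2_norm (h : O7920Hyp G) (R : Sylow 3 G) :
    ∃ T : Subgroup G, T ≤ Subgroup.normalizer ((R : Subgroup G) : Set G) ∧ Nat.card ↥T = 4 ∧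
      ∀ y ∈ (R : Subgroup G), (∀ t ∈ T, t * y = y * t) → y = 1 := by
  haveI := h.simple
  haveI : Fact (Nat.Prime 2) := ⟨by norm_num⟩
  haveI : Fact (Nat.Prime 3) := ⟨by norm_num⟩
  have hN := h.n3 R
  have hR : Nat.card (R : Subgroup G) = 3 ^ 2 :=
    Cfsg.Agent.Helper9.OrdTools.sylow_card (p := 3) 2 880 (by rw [h.card]; norm_num) (by norm_num) R
  -- `G` is not abelian
  have hna : ∃ a b : G, a * b ≠ b * a := by
    by_contra hcon
    push Not at hcon
    letI : CommGroup G := { (inferInstance : Group G) with mul_comm := hcon }
    have hp := IsSimpleGroup.prime_card (α := G)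
    rw [h.card] at hp
    norm_num at hp
  -- `R` is abelian
  have hab : ∀ a ∈ (R : Subgroup G), ∀ b ∈ (R : Subgroup G), a * b = b * a := by
    intro a ha b hb
    have hc := IsPGroup.isMulCommutative_of_card_eq_prime_sq (p := 3) (G := (R : Subgroup G)) hR
    have := hc.is_comm.comm ⟨a, ha⟩ ⟨b, hb⟩
    exact congrArg Subtype.val this
  obtain ⟨T', hT'⟩ := Sylow.exists_subgroup_card_pow_prime (G :=
    ↥(Subgroup.normalizer ((R : Subgroup G) : Set G))) 2 (n := 2) (by rw [hN]; norm_num)
  refine ⟨T'.map (Subgroup.normalizer ((R : Subgroup G) : Set G)).subtype, ?_, ?_, ?_⟩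
  · exact Subgroup.map_subtype_le T'
  · rw [Subgroup.card_map_of_injective (Subgroup.subtype_injective _), hT']
    norm_num
  · intro y hy hyT
    apply Cfsg.Agent.Helper9.OrdTools.eq_one_of_commute_normalizer hna R hab y hy
    -- the centraliser of `y` contains `R` and `T`, hence `N(R)`
    have hT4 : Nat.card ↥(T'.map (Subgroup.normalizer ((R : Subgroup G) : Set G)).subtype) = 4 := by
      rw [Subgroup.card_map_of_injective (Subgroup.subtype_injective _), hT']
      norm_num
    have hTle : T'.map (Subgroup.normalizer ((R : Subgroup G) : Set G)).subtype ≤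
        Subgroup.normalizer ((R : Subgroup G) : Set G) := Subgroup.map_subtype_le T'
    have hsup : (R : Subgroup G) ⊔ T'.map (Subgroup.normalizer ((R : Subgroup G) : Set G)).subtype
        = Subgroup.normalizer ((R : Subgroup G) : Set G) := by
      apply Subgroup.eq_of_le_of_card_ge (sup_le Subgroup.le_normalizer hTle)
      rw [hN]
      have h9 : 9 ∣ Nat.card ↥((R : Subgroup G) ⊔
          T'.map (Subgroup.normalizer ((R : Subgroup G) : Set G)).subtype) := by
        have := Subgroup.card_dvd_of_le (le_sup_left : (R : Subgroup G) ≤ (R : Subgroup G) ⊔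
          T'.map (Subgroup.normalizer ((R : Subgroup G) : Set G)).subtype)
        rwa [hR] at this
      have h4 : 4 ∣ Nat.card ↥((R : Subgroup G) ⊔
          T'.map (Subgroup.normalizer ((R : Subgroup G) : Set G)).subtype) := by
        have := Subgroup.card_dvd_of_le (le_sup_right :
          T'.map (Subgroup.normalizer ((R : Subgroup G) : Set G)).subtype ≤ (R : Subgroup G) ⊔
          T'.map (Subgroup.normalizer ((R : Subgroup G) : Set G)).subtype)
        rwa [hT4] at this
      have h36 : 36 ∣ Nat.card ↥((R : Subgroup G) ⊔
          T'.map (Subgroup.normalizer ((R : Subgroup G) : Set G)).subtype) := by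
        have := Nat.Coprime.mul_dvd_of_dvd_of_dvd (by norm_num : Nat.Coprime 9 4) h9 h4
        simpa using this
      exact Nat.le_of_dvd Nat.card_pos h36
    have hle : (R : Subgroup G) ⊔ T'.map (Subgroup.normalizer ((R : Subgroup G) : Set G)).subtype
        ≤ Subgroup.centralizer ({y} : Set G) := by
      apply sup_le
      · intro r hr
        rw [Subgroup.mem_centralizer_iff]
        intro w hw
        rw [Set.mem_singleton_iff] at hw
        subst hw
        exact hab w hy r hr
      · intro t ht
        rw [Subgroup.mem_centralizer_iff]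
        intro w hw
        rw [Set.mem_singleton_iff] at hw
        subst hw
        exact (hyT t ht).symm
    intro n hn
    rw [← hsup] at hn
    have := Subgroup.mem_centralizer_iff.mp (hle hn) y rfl
    exact this.symm

end Cfsg.Agent.Helper10
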